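import Cfsg.Agent.Lib.Known.E8L32.Elem

/-!
# The corner algebra of a Borel subgroup and its products
-/

set_option autoImplicit false
set_option maxRecDepth 20000

namespace CfsgLib.Known.E8L32

theorem dig_sum : ∀ (n : ℕ) (m : ℕ → ℕ), (∀ i, m i < 65536) → ∀ j < n,
    dig (∑ i ∈ Finset.range n, m i * 65536 ^ i) j = m j
  | 0, _, _, _, h => by omega
  | n + 1, m, hm, j, hj => by
    have e : ∑ i ∈ Finset.range (n + 1), m i * 65536 ^ i =
        m 0 + 65536 * ∑ i ∈ Finset.range n, m (i + 1) * 65536 ^ i := by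
      rw [Finset.sum_range_succ', Finset.mul_sum, pow_zero, mul_one, add_comm]
      exact congrArg (m 0 + ·) (Finset.sum_congr rfl fun i _ => by rw [pow_succ]; ring)
    cases j with
    | zero => rw [e, dig, pow_zero, Nat.div_one, Nat.add_mul_mod_self_left, Nat.mod_eq_of_lt (hm 0)]
    | succ j =>
      rw [e, dig, pow_succ', ← Nat.div_div_eq_div_mul, Nat.add_mul_div_left _ _ (by norm_num : 0 < 65536),
        Nat.div_eq_of_lt (hm 0), zero_add]
      exact dig_sum n (fun i => m (i + 1)) (fun i => hm (i + 1)) j (by omega)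

theorem list_sum_range (n : ℕ) (f : ℕ → ℕ) : ((List.range n).map f).sum = ∑ i ∈ Finset.range n, f i := by
  induction n with
  | zero => simp
  | succ n ih => simp [List.range_succ, Finset.sum_range_succ, ih]

theorem beq_zero_ite {α : Type*} (p : ℕ) (a b : α) :
    (if Nat.beq p 0 then a else b) = if p = 0 then a else b := by
  cases p <;> simp [Nat.beq]

theorem sc_lt {a c i : ℕ} (ha : a < 32) (hc : c < 32) (hi : i < 32) : sc a c i < 3 := by
  have h := List.all_eq_true.1 (List.all_eq_true.1 consT_ok a (List.mem_range.2 ha)) c (List.mem_range.2 hc)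
  rw [Bool.and_eq_true] at h
  simpa using List.all_eq_true.1 h.2 i (List.mem_range.2 hi)

theorem consT_eq {a c : ℕ} (ha : a < 32) (hc : c < 32) :
    (consT.getD a []).getD c 0 = ∑ i ∈ Finset.range 32, sc a c i * 65536 ^ i := by
  have h := List.all_eq_true.1 (List.all_eq_true.1 consT_ok a (List.mem_range.2 ha)) c (List.mem_range.2 hc)
  rw [Bool.and_eq_true] at h
  rw [← Nat.eq_of_beq_eq_true h.1, list_sum_range]

theorem prodP_dig {p q : List ℕ} (hp : ∀ i < 32, p.getD i 0 < 3) (hq : ∀ i < 32, q.getD i 0 < 3) {i : ℕ} (hi : i < 32) :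
    dig (prodP p q) i = ∑ a ∈ Finset.range 32, ∑ c ∈ Finset.range 32, p.getD a 0 * (q.getD c 0 * sc a c i) := by
  obtain ⟨m, hm⟩ : ∃ m : ℕ → ℕ, ∀ j, m j = if j < 32 then
      ∑ a ∈ Finset.range 32, ∑ c ∈ Finset.range 32, p.getD a 0 * (q.getD c 0 * sc a c j) else 0 := ⟨_, fun _ => rfl⟩
  have hb : ∀ j, m j < 65536 := fun j => by
    rw [hm]
    split_ifs with hj
    · refine lt_of_le_of_lt (Finset.sum_le_card_nsmul _ _ 256 fun a ha => ?_) (by simp)
      refine (Finset.sum_le_card_nsmul _ _ 8 fun c hc => ?_).trans (by simp)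
      rw [Finset.mem_range] at ha hc
      have h1 := hp a ha; have h2 := hq c hc; have h3 := sc_lt ha hc hj
      exact Nat.mul_le_mul (Nat.le_of_lt_succ h1) (Nat.mul_le_mul (Nat.le_of_lt_succ h2) (Nat.le_of_lt_succ h3))
    · norm_num
  have e : prodP p q = ∑ j ∈ Finset.range 32, m j * 65536 ^ j := by
    rw [prodP, list_sum_range]
    rw [Finset.sum_congr rfl fun a ha => show _ =
        ∑ j ∈ Finset.range 32, ∑ c ∈ Finset.range 32, p.getD a 0 * (q.getD c 0 * sc a c j) * 65536 ^ j from ?_]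
    · rw [Finset.sum_comm]
      refine Finset.sum_congr rfl fun j hj => ?_
      rw [hm, if_pos (Finset.mem_range.1 hj), Finset.sum_mul]
      exact Finset.sum_congr rfl fun a _ => by rw [Finset.sum_mul]
    · rw [beq_zero_ite]
      split_ifs with h0
      · rw [h0]; simp
      rw [list_sum_range, Finset.mul_sum, Finset.sum_comm]
      refine Finset.sum_congr rfl fun c hc => ?_
      rw [beq_zero_ite]
      split_ifs with h1
      · rw [h1]; simp
      rw [consT_eq (Finset.mem_range.1 ha) (Finset.mem_range.1 hc), Finset.mul_sum, Finset.mul_sum]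
      exact Finset.sum_congr rfl fun j _ => by ring
  rw [e, dig_sum 32 m hb i hi, hm, if_pos hi]

theorem cast_mod3 (n : ℕ) : ((n % 3 : ℕ) : ZMod 3) = n := ZMod.natCast_mod n 3

section

variable {F : Type*} [Field F] [DecidableEq F] {V : Type*} [AddCommGroup V] [Module (ZMod 3) V]
variable (ρ : SLF F →* Module.End (ZMod 3) V) (g : F)

/-- The translations. -/
def U (x : ℕ) : Module.End (ZMod 3) V := ρ (us (enc g x))

/-- The idempotent of the character of the unipotent subgroup. -/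
def Pr : Module.End (ZMod 3) V := ∑ x ∈ Finset.range 32, ((2 * sgnN x : ℕ) : ZMod 3) • U ρ g x

/-- The basis of the corner algebra. -/
def Bs (a : ℕ) : Module.End (ZMod 3) V := if a = 0 then Pr ρ g else Pr ρ g * ρ (ws (enc g a)) * Pr ρ g

/-- The element with given coordinates. -/
def Phi (v : List ℕ) : Module.End (ZMod 3) V :=
  ∑ i ∈ Finset.range 32, ((v.getD i 0 : ℕ) : ZMod 3) • Bs ρ g i

variable {ρ g}

theorem sgn_sq {x : ℕ} (hx : x < 32) : ((sgnN x : ℕ) : ZMod 3) * (sgnN x : ℕ) = 1 := by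
  have h : ∀ x < 32, sgnN x * sgnN x % 3 = 1 := by decide +kernel
  rw [← Nat.cast_mul, ← cast_mod3, h x hx, Nat.cast_one]

theorem sgn_xor_cast {x y : ℕ} (hx : x < 32) (hy : y < 32) :
    ((sgnN (Nat.xor x y) : ℕ) : ZMod 3) = (sgnN x : ℕ) * (sgnN y : ℕ) := by
  rw [← Nat.cast_mul, ← cast_mod3, sgn_xor x hx y hy, cast_mod3]

theorem xor_self_left {x y : ℕ} : Nat.xor y (Nat.xor y x) = x := by
  show y ^^^ (y ^^^ x) = x
  rw [← Nat.xor_assoc, Nat.xor_self, Nat.zero_xor]

variable [CharP F 2]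

theorem U_mul (x y : ℕ) : U ρ g x * U ρ g y = U ρ g (Nat.xor x y) := by
  rw [U, U, U, ← map_mul, us_mul, enc_xor]

theorem U_Pr {y : ℕ} (hy : y < 32) : U ρ g y * Pr ρ g = ((sgnN y : ℕ) : ZMod 3) • Pr ρ g := by
  rw [Pr, Finset.mul_sum, Finset.smul_sum]
  refine Finset.sum_nbij' (Nat.xor y) (Nat.xor y) (fun x hx => ?_) (fun x hx => ?_) (fun x _ => xor_self_left)
    (fun x _ => xor_self_left) (fun x hx => ?_)
  iterate 2 exact Finset.mem_range.2 (xor_lt32 y hy x (Finset.mem_range.1 hx))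
  rw [mul_smul_comm, U_mul, smul_smul, Nat.cast_mul, Nat.cast_mul, sgn_xor_cast hy (Finset.mem_range.1 hx),
    show ((sgnN y : ℕ) : ZMod 3) * ((2 : ℕ) * ((sgnN y : ℕ) * (sgnN x : ℕ))) =
      (2 : ℕ) * (sgnN x : ℕ) * ((sgnN y : ℕ) * (sgnN y : ℕ)) by ring, sgn_sq hy, mul_one]

theorem Pr_U {y : ℕ} (hy : y < 32) : Pr ρ g * U ρ g y = ((sgnN y : ℕ) : ZMod 3) • Pr ρ g := by
  rw [← U_Pr hy, Pr, Finset.mul_sum, Finset.sum_mul]
  refine Finset.sum_congr rfl fun x _ => ?_
  rw [mul_smul_comm, smul_mul_assoc, U, U, ← map_mul, ← map_mul, us_mul, us_mul, add_comm]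

theorem Pr_mul_Pr : Pr ρ g * Pr ρ g = Pr ρ g := by
  conv_lhs => arg 2; rw [Pr]
  rw [Finset.mul_sum, Finset.sum_congr rfl fun x hx => show Pr ρ g * ((2 * sgnN x : ℕ) : ZMod 3) • U ρ g x =
    (2 : ZMod 3) • Pr ρ g by
    rw [mul_smul_comm, Pr_U (Finset.mem_range.1 hx), smul_smul, Nat.cast_mul, mul_assoc,
      sgn_sq (Finset.mem_range.1 hx), mul_one]; rfl, Finset.sum_const, Finset.card_range, ← Nat.cast_smul_eq_nsmul
    (ZMod 3), smul_smul, show ((32 : ℕ) : ZMod 3) * 2 = 1 from by decide, one_smul]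

variable (hg : g ^ 5 = g ^ 2 + 1)
include hg

theorem Pr_ts_Pr {d : ℕ} (hd : d < 32) (h2 : 2 ≤ d) : Pr ρ g * ρ (ts (enc g d)) * Pr ρ g = 0 := by
  have h := List.all_eq_true.1 distinct_ok d (List.mem_range'_1.2 ⟨h2, by omega⟩)
  obtain ⟨y, hy, hne⟩ := List.any_eq_true.1 h
  rw [List.mem_range] at hy
  have hdy : mulN (mulN d d) y < 32 := mulN_lt _ (mulN_lt d hd d hd) y hy
  obtain ⟨X, hX⟩ : ∃ X, X = Pr ρ g * ρ (ts (enc g d)) * Pr ρ g := ⟨_, rfl⟩
  have e : ((sgnN y : ℕ) : ZMod 3) • X = ((sgnN (mulN (mulN d d) y) : ℕ) : ZMod 3) • X := by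
    calc ((sgnN y : ℕ) : ZMod 3) • X = Pr ρ g * ρ (ts (enc g d)) * (U ρ g y * Pr ρ g) := by
          rw [U_Pr hy, mul_smul_comm, hX]
      _ = Pr ρ g * U ρ g (mulN (mulN d d) y) * ρ (ts (enc g d)) * Pr ρ g := by
          simp only [mul_assoc]
          rw [← mul_assoc (U ρ g (mulN (mulN d d) y)), ← mul_assoc (ρ (ts (enc g d))), U, U, ← map_mul, ← map_mul,
            enc_mul hg (mulN_lt d hd d hd) hy, enc_mul hg hd hd, ts_us (enc_ne_zero hg hd (by omega))]
      _ = _ := by rw [Pr_U hdy, smul_mul_assoc, smul_mul_assoc, hX]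
  rw [← hX]
  rw [← sub_eq_zero, ← sub_smul] at e
  refine (smul_eq_zero.1 e).resolve_left fun h0 => ?_
  rw [sub_eq_zero] at h0
  have hlt : ∀ x, sgnN x < 3 := fun x => by
    have : Nat.land (Nat.shiftRight 1437226410 x) 1 ≤ 1 := Nat.and_le_right
    unfold sgnN; omega
  rw [ZMod.natCast_eq_natCast_iff'] at h0
  rw [Nat.mod_eq_of_lt (hlt _), Nat.mod_eq_of_lt (hlt _)] at h0
  simp [← h0] at hne

theorem absI_lt {a c x : ℕ} (ha : a < 32) (hc : c < 32) (hx : x < 32) : absI a c x < 32 := by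
  rw [absI]; split_ifs
  · norm_num
  · exact mulN_lt _ (mulN_lt a ha x hx) c hc

theorem term_eq {a c x : ℕ} (ha : a < 32) (hc : c < 32) (hx : x < 32) (ha0 : a ≠ 0) (hc0 : c ≠ 0) :
    Pr ρ g * (ρ (ws (enc g a)) * U ρ g x * ρ (ws (enc g c))) * Pr ρ g =
      ((absC a c x : ℕ) : ZMod 3) • Bs ρ g (absI a c x) := by
  have ea := enc_ne_zero hg ha ha0
  have ec := enc_ne_zero hg hc hc0
  rcases eq_or_ne x 0 with rfl | hx0
  · rw [U, enc_zero, us_zero, map_one, mul_one, ← map_mul, ws_ws ea ec, absI, if_pos rfl, absC, if_pos rfl, Bs,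
      if_pos rfl]
    obtain ⟨hi, hii⟩ := invN_mul a ha ha0
    have ei : (enc g a)⁻¹ = enc g (invN a) := inv_eq_of_mul_eq_one_right (by rw [← enc_mul hg ha hi, hii, enc_one])
    split_ifs with hac
    · subst hac
      rw [mul_inv_cancel₀ ea, ts_one, map_one, mul_one, Pr_mul_Pr, Nat.cast_one, one_smul]
    · rw [Nat.cast_zero, zero_smul, ei, ← enc_mul hg hc hi]
      refine Pr_ts_Pr hg (mulN_lt c hc _ hi) ?_
      rcases Nat.lt_or_ge (mulN c (invN a)) 2 with h | h
      · exfalso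
        interval_cases hm : mulN c (invN a)
        · have := enc_mul hg hc hi
          rw [hm, enc_zero, ← ei] at this
          exact mul_ne_zero ec (inv_ne_zero ea) this.symm
        · have := enc_mul hg hc hi
          rw [hm, enc_one, ← ei, eq_comm, mul_inv_eq_one₀ ea] at this
          exact hac (enc_inj hg hc ha this).symm
      · exact h
  · have haa := mulN_lt a ha a ha
    have hcc := mulN_lt c hc c hc
    have hp := mulN_lt _ haa x hx
    have hq := mulN_lt _ hcc x hx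
    have ex := enc_ne_zero hg hx hx0
    have key : ∀ p < 32, enc g p ≠ 0 → invN p < 32 ∧ (enc g p)⁻¹ = enc g (invN p) := fun p hp h => by
      have hp0 : p ≠ 0 := fun e => h (by rw [e, enc_zero])
      obtain ⟨h1, h2⟩ := invN_mul p hp hp0
      exact ⟨h1, inv_eq_of_mul_eq_one_right (by rw [← enc_mul hg hp h1, h2, enc_one])⟩
    obtain ⟨hp', ep⟩ := key _ hp (by rw [enc_mul hg haa hx, enc_mul hg ha ha]; exact mul_ne_zero (mul_ne_zero ea ea) ex)
    obtain ⟨hq', eq⟩ := key _ hq (by rw [enc_mul hg hcc hx, enc_mul hg hc hc]; exact mul_ne_zero (mul_ne_zero ec ec) ex)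
    have hI : mulN (mulN a x) c ≠ 0 := fun e => by
      have := enc_mul hg (mulN_lt a ha x hx) hc
      rw [e, enc_zero, enc_mul hg ha hx] at this
      exact mul_ne_zero (mul_ne_zero ea ex) ec this.symm
    rw [U, ← map_mul, ← map_mul, ws_us_ws ea ec ex, map_mul, map_mul, absC, if_neg hx0, absI, if_neg hx0, Bs,
      if_neg hI, ← enc_mul hg ha ha, ← enc_mul hg haa hx, ep, ← enc_mul hg hc hc, ← enc_mul hg hcc hx, eq,
      ← enc_mul hg ha hx, ← enc_mul hg (mulN_lt a ha x hx) hc]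
    rw [show ρ (us (enc g (invN (mulN (mulN a a) x)))) = U ρ g (invN (mulN (mulN a a) x)) from rfl,
      show ρ (us (enc g (invN (mulN (mulN c c) x)))) = U ρ g (invN (mulN (mulN c c) x)) from rfl,
      ← mul_assoc, ← mul_assoc, mul_assoc (Pr ρ g * U ρ g _ * _), Pr_U hp', U_Pr hq']
    simp only [smul_mul_assoc, mul_smul_comm, smul_smul, Nat.cast_mul, mul_assoc]
    rw [mul_comm]

theorem Bs_mul {a c : ℕ} (ha : a < 32) (hc : c < 32) :
    Bs ρ g a * Bs ρ g c = ∑ i ∈ Finset.range 32, ((sc a c i : ℕ) : ZMod 3) • Bs ρ g i := by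
  have hz : ∀ b < 32, (Pr ρ g * Bs ρ g b = Bs ρ g b ∧ Bs ρ g b * Pr ρ g = Bs ρ g b) := fun b _ => by
    rw [Bs]; split_ifs
    · exact ⟨Pr_mul_Pr, Pr_mul_Pr⟩
    · exact ⟨by rw [← mul_assoc, ← mul_assoc, Pr_mul_Pr], by rw [mul_assoc, Pr_mul_Pr]⟩
  have hsingle : ∀ b < 32, ∀ s : ℕ → ℕ, (∀ i < 32, s i = if b = i then 1 else 0) →
      Bs ρ g b = ∑ i ∈ Finset.range 32, ((s i : ℕ) : ZMod 3) • Bs ρ g i := fun b hb s hs => by
    rw [Finset.sum_eq_single b (fun i hi hne => by rw [hs i (Finset.mem_range.1 hi), if_neg (Ne.symm hne),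
      Nat.cast_zero, zero_smul]) (fun h => absurd (Finset.mem_range.2 hb) h), hs b hb, if_pos rfl, Nat.cast_one,
      one_smul]
  have hz0 : ∀ b < 32, ∀ i < 32, sc 0 b i = (if b = i then 1 else 0) ∧ sc b 0 i = if b = i then 1 else 0 := by
    intro b hb i hi
    have h := List.all_eq_true.1 (List.all_eq_true.1 sc_zero b (List.mem_range.2 hb)) i (List.mem_range.2 hi)
    rw [Bool.and_eq_true] at h
    exact ⟨Nat.eq_of_beq_eq_true h.1, Nat.eq_of_beq_eq_true h.2⟩
  rcases eq_or_ne a 0 with rfl | ha0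
  · rw [show Bs ρ g 0 = Pr ρ g from if_pos rfl, (hz c hc).1]
    exact hsingle c hc _ fun i hi => (hz0 c hc i hi).1
  rcases eq_or_ne c 0 with rfl | hc0
  · rw [show Bs ρ g 0 = Pr ρ g from if_pos rfl, (hz a ha).2]
    exact hsingle a ha _ fun i hi => (hz0 a ha i hi).2
  have hI : ∀ x ∈ Finset.range 32, absI a c x ∈ Finset.range 32 := fun x hx =>
    Finset.mem_range.2 (absI_lt hg ha hc (Finset.mem_range.1 hx))
  obtain ⟨m, hm⟩ : ∃ m : ℕ → ℕ, ∀ i, m i =
      ∑ x ∈ (Finset.range 32).filter (fun x => absI a c x = i), 2 * sgnN x * absC a c x := ⟨_, fun _ => rfl⟩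
  have hb : ∀ i, m i < 65536 := fun i => by
    have hs : ∀ x, sgnN x ≤ 2 := fun x => by
      have : Nat.land (Nat.shiftRight 1437226410 x) 1 ≤ 1 := Nat.and_le_right
      unfold sgnN; omega
    rw [hm]
    refine lt_of_le_of_lt (Finset.sum_le_card_nsmul _ _ 16 fun x _ => ?_) ?_
    · have hA : absC a c x ≤ 4 := by
        rw [absC]; split_ifs
        · norm_num
        · norm_num
        · exact Nat.mul_le_mul (hs _) (hs _)
      exact Nat.mul_le_mul (Nat.mul_le_mul (le_refl 2) (hs x)) hA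
    · have := Finset.card_filter_le (Finset.range 32) (fun x => absI a c x = i)
      simp only [Finset.card_range] at this
      rw [smul_eq_mul]; omega
  have hpack : scPack a c = ∑ i ∈ Finset.range 32, m i * 65536 ^ i := by
    rw [scPack, list_sum_range, ← Finset.sum_fiberwise_of_maps_to hI]
    refine Finset.sum_congr rfl fun i _ => ?_
    rw [hm, Finset.sum_mul]
    exact Finset.sum_congr rfl fun x hx => by rw [(Finset.mem_filter.1 hx).2]
  rw [Bs, if_neg ha0, Bs, if_neg hc0, show Pr ρ g * ρ (ws (enc g a)) * Pr ρ g *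
      (Pr ρ g * ρ (ws (enc g c)) * Pr ρ g) =
      Pr ρ g * ρ (ws (enc g a)) * (Pr ρ g * Pr ρ g) * ρ (ws (enc g c)) * Pr ρ g by simp only [mul_assoc],
    Pr_mul_Pr]
  conv_lhs => arg 1; arg 1; arg 2; rw [Pr]
  simp only [Finset.mul_sum, Finset.sum_mul, mul_smul_comm, smul_mul_assoc]
  rw [Finset.sum_congr rfl fun x hx => show ((2 * sgnN x : ℕ) : ZMod 3) •
      (Pr ρ g * ρ (ws (enc g a)) * U ρ g x * ρ (ws (enc g c)) * Pr ρ g) =
      ((2 * sgnN x * absC a c x : ℕ) : ZMod 3) • Bs ρ g (absI a c x) by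
    rw [Nat.cast_mul (2 * sgnN x), ← smul_smul, ← term_eq hg ha hc (Finset.mem_range.1 hx) ha0 hc0]
    simp only [mul_assoc], ← Finset.sum_fiberwise_of_maps_to hI]
  refine Finset.sum_congr rfl fun i hi => ?_
  have h := List.all_eq_true.1 (List.all_eq_true.1 (List.all_eq_true.1 sc_ok a (List.mem_range'_1.2 ⟨by omega, by omega⟩))
    c (List.mem_range'_1.2 ⟨by omega, by omega⟩)) i (List.mem_range.2 (Finset.mem_range.1 hi))
  rw [← Nat.eq_of_beq_eq_true h, cast_mod3, hpack, dig_sum 32 m hb i (Finset.mem_range.1 hi), hm, Nat.cast_sum,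
    Finset.sum_smul]
  exact Finset.sum_congr rfl fun x hx => by rw [(Finset.mem_filter.1 hx).2]

theorem Phi_mul {p q r : List ℕ} (hp : ∀ i < 32, p.getD i 0 < 3) (hq : ∀ i < 32, q.getD i 0 < 3)
    (h : prodIs p q r = true) : Phi ρ g p * Phi ρ g q = Phi ρ g r := by
  simp only [prodIs, List.all_eq_true, List.mem_range] at h
  obtain ⟨S, hS⟩ : ∃ S, S = Finset.range 32 := ⟨_, rfl⟩
  rw [Phi, Phi, Phi, ← hS, Finset.sum_mul_sum]
  rw [Finset.sum_congr rfl fun a ha => Finset.sum_congr rfl fun c hc => show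
      (((p.getD a 0 : ℕ) : ZMod 3) • Bs ρ g a) * (((q.getD c 0 : ℕ) : ZMod 3) • Bs ρ g c) =
      ∑ i ∈ S, ((p.getD a 0 * (q.getD c 0 * sc a c i) : ℕ) : ZMod 3) • Bs ρ g i by
    rw [hS, Finset.mem_range] at ha hc
    rw [smul_mul_assoc, mul_smul_comm, smul_smul, Bs_mul hg ha hc, ← hS, Finset.smul_sum]
    exact Finset.sum_congr rfl fun i _ => by rw [smul_smul, Nat.cast_mul, Nat.cast_mul, mul_assoc]]
  rw [Finset.sum_congr rfl fun a _ => Finset.sum_comm, Finset.sum_comm]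
  refine Finset.sum_congr rfl fun i hi => ?_
  rw [hS, Finset.mem_range] at hi
  rw [Finset.sum_congr rfl fun a _ => (Finset.sum_smul).symm, ← Finset.sum_smul, ← Nat.eq_of_beq_eq_true (h i hi),
    cast_mod3, prodP_dig hp hq hi, ← hS, Nat.cast_sum]
  exact congrArg (· • Bs ρ g i) (Finset.sum_congr rfl fun a _ => (Nat.cast_sum _ _).symm)

end

end CfsgLib.Known.E8L32
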