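import Cfsg.Agent.Lib.Known.E8L32.Data11

/-!
# The checks for elements of order 11
-/

set_option autoImplicit false
set_option maxRecDepth 100000
set_option maxHeartbeats 1000000

namespace CfsgLib.Known.E8L32.D11

open Cfsg.Lie (chevE8)
open CfsgLib.Lie.Chev
open CfsgLib.Known.AltE6 (keyW)
open CfsgLib.Known.E8SL2

theorem fiveT_ok : D121.fiveT.OK := ⟨by decide +kernel, by decide +kernel, by decide, by decide +kernel⟩

theorem scanS_ok : scanS.ok = true := by decide +kernel

theorem scale_ok : ((List.range' 1 10).all fun c =>
    scaleOK 11 11 (fun x => x) (fun c o => c * o % 11) keys c) = true := by decide +kernel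

theorem sols_ok : ∀ i : Fin 25, keyW chevE8 auxE8 (D121.fiveT.wd i) = keyW chevE8 auxE8 [] ∨
    (solAt i).ok zv (eigA 11 (keyW chevE8 auxE8 (D121.fiveT.wd i)) 3) (fun _ => 0) := by decide +kernel

theorem fams_ok : ((List.range 25).all fun i => (List.range 3).all fun k =>
    chkFam scanS 1 (List.range 240) (lineFam 11 (solAt i) k) ((fams.getD i []).getD k [])) = true := by decide +kernel

end CfsgLib.Known.E8L32.D11
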