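import Cfsg.Agent.Lib.Known.E8SL2.Data121

/-!
# The data for elements of order 11
-/

set_option autoImplicit false
set_option maxRecDepth 100000

namespace CfsgLib.Known.E8L32.D11

open CfsgLib.Known.E8SL2 (Scan SolD)

/-- The only key. -/
def keys : List (List ℕ) := [[28, 22, 22, 22, 22, 22, 22, 22, 22, 22, 22]]

/-- The search. -/
abbrev scanS : Scan := ⟨11, fun x => x, 11, fun c => 3 * c % 11, fun c => c, 11, keys⟩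

/-- The solutions for the elements of a Sylow subgroup for the prime five. -/
def sols : List SolD := [
  ⟨[[0, 0, 0, 0, 0, 0, 0, 0], [0, 0, 0, 0, 0, 0, 0, 0], [0, 0, 0, 0, 0, 0, 0, 0]], [0, 0, 0], []⟩,
  ⟨[[1, 5, 3, 9, 1, 0, 0, 0], [0, 0, 0, 0, 0, 0, 0, 0], [0, 0, 0, 0, 0, 0, 0, 0]], [4, 0, 0], [[9, 0, 5, 0, 6, 0, 0, 0], [0, 8, 0, 0, 8, 0, 0, 0], [6, 0, 4, 0, 7, 0, 0, 0], [7, 0, 2, 0, 10, 0, 0, 0], [0, 0, 0, 0, 0, 0, 0, 0], [0, 0, 0, 0, 0, 5, 0, 0], [0, 0, 0, 0, 0, 0, 5, 0], [0, 0, 0, 0, 0, 0, 0, 5]]⟩,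
  ⟨[[9, 3, 1, 5, 1, 0, 0, 0], [0, 0, 0, 0, 0, 0, 0, 0], [0, 0, 0, 0, 0, 0, 0, 0]], [4, 0, 0], [[2, 8, 3, 0, 10, 0, 0, 0], [8, 6, 1, 0, 7, 0, 0, 0], [10, 2, 0, 0, 6, 0, 0, 0], [7, 2, 9, 0, 8, 0, 0, 0], [0, 0, 0, 0, 0, 0, 0, 0], [0, 0, 0, 0, 0, 5, 0, 0], [0, 0, 0, 0, 0, 0, 5, 0], [0, 0, 0, 0, 0, 0, 0, 5]]⟩,
  ⟨[[10, 8, 2, 7, 1, 0, 0, 0], [0, 0, 0, 0, 0, 0, 0, 0], [0, 0, 0, 0, 0, 0, 0, 0]], [4, 0, 0], [[0, 2, 10, 0, 5, 0, 0, 0], [1, 6, 8, 0, 4, 0, 0, 0], [3, 8, 2, 0, 1, 0, 0, 0], [9, 4, 6, 0, 9, 0, 0, 0], [0, 0, 0, 0, 0, 0, 0, 0], [0, 0, 0, 0, 0, 5, 0, 0], [0, 0, 0, 0, 0, 0, 5, 0], [0, 0, 0, 0, 0, 0, 0, 5]]⟩,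
  ⟨[[8, 6, 10, 7, 1, 0, 0, 0], [0, 0, 0, 0, 0, 0, 0, 0], [0, 0, 0, 0, 0, 0, 0, 0]], [4, 0, 0], [[4, 0, 6, 0, 4, 0, 0, 0], [0, 8, 0, 0, 3, 0, 0, 0], [5, 0, 9, 0, 5, 0, 0, 0], [0, 3, 0, 0, 9, 0, 0, 0], [0, 0, 0, 0, 0, 0, 0, 0], [0, 0, 0, 0, 0, 5, 0, 0], [0, 0, 0, 0, 0, 0, 5, 0], [0, 0, 0, 0, 0, 0, 0, 5]]⟩,
  ⟨[[0, 0, 0, 0, 8, 5, 4, 1], [0, 0, 0, 0, 0, 0, 0, 0], [0, 0, 0, 0, 0, 0, 0, 0]], [7, 0, 0], [[5, 0, 0, 0, 0, 0, 0, 0], [0, 5, 0, 0, 0, 0, 0, 0], [0, 0, 5, 0, 0, 0, 0, 0], [0, 0, 0, 5, 0, 0, 0, 0], [0, 0, 0, 0, 5, 9, 3, 0], [0, 0, 0, 0, 0, 7, 6, 0], [0, 0, 0, 0, 0, 0, 7, 0], [0, 0, 0, 0, 0, 0, 0, 0]]⟩,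
  ⟨[[1, 5, 3, 9, 1, 0, 0, 0], [3, 4, 9, 5, 0, 5, 4, 1], [0, 0, 0, 0, 0, 0, 0, 0]], [4, 7, 0], [[9, 0, 5, 0, 6, 2, 8, 0], [0, 8, 0, 0, 8, 10, 7, 0], [6, 0, 4, 0, 7, 6, 2, 0], [7, 0, 2, 0, 10, 7, 6, 0], [0, 0, 0, 0, 0, 0, 0, 0], [0, 0, 0, 0, 0, 7, 6, 0], [0, 0, 0, 0, 0, 0, 7, 0], [0, 0, 0, 0, 0, 0, 0, 0]]⟩,
  ⟨[[9, 3, 1, 5, 1, 0, 0, 0], [5, 9, 3, 4, 0, 5, 4, 1], [0, 0, 0, 0, 0, 0, 0, 0]], [4, 7, 0], [[2, 8, 3, 0, 10, 7, 6, 0], [8, 6, 1, 0, 7, 6, 2, 0], [10, 2, 0, 0, 6, 2, 8, 0], [7, 2, 9, 0, 8, 10, 7, 0], [0, 0, 0, 0, 0, 0, 0, 0], [0, 0, 0, 0, 0, 7, 6, 0], [0, 0, 0, 0, 0, 0, 7, 0], [0, 0, 0, 0, 0, 0, 0, 0]]⟩,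
  ⟨[[10, 8, 2, 7, 1, 0, 0, 0], [8, 2, 6, 10, 0, 5, 4, 1], [0, 0, 0, 0, 0, 0, 0, 0]], [4, 7, 0], [[0, 2, 10, 0, 5, 9, 3, 0], [1, 6, 8, 0, 4, 5, 9, 0], [3, 8, 2, 0, 1, 4, 5, 0], [9, 4, 6, 0, 9, 3, 1, 0], [0, 0, 0, 0, 0, 0, 0, 0], [0, 0, 0, 0, 0, 7, 6, 0], [0, 0, 0, 0, 0, 0, 7, 0], [0, 0, 0, 0, 0, 0, 0, 0]]⟩,
  ⟨[[8, 6, 10, 7, 1, 0, 0, 0], [2, 7, 8, 10, 0, 5, 4, 1], [0, 0, 0, 0, 0, 0, 0, 0]], [4, 7, 0], [[4, 0, 6, 0, 4, 5, 9, 0], [0, 8, 0, 0, 3, 1, 4, 0], [5, 0, 9, 0, 5, 9, 3, 0], [0, 3, 0, 0, 9, 3, 1, 0], [0, 0, 0, 0, 0, 0, 0, 0], [0, 0, 0, 0, 0, 7, 6, 0], [0, 0, 0, 0, 0, 0, 7, 0], [0, 0, 0, 0, 0, 0, 0, 0]]⟩,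
  ⟨[[0, 0, 0, 0, 1, 4, 9, 1], [0, 0, 0, 0, 0, 0, 0, 0], [0, 0, 0, 0, 0, 0, 0, 0]], [7, 0, 0], [[5, 0, 0, 0, 0, 0, 0, 0], [0, 5, 0, 0, 0, 0, 0, 0], [0, 0, 5, 0, 0, 0, 0, 0], [0, 0, 0, 5, 0, 0, 0, 0], [2, 3, 4, 6, 10, 6, 9, 0], [0, 0, 0, 0, 0, 7, 0, 0], [4, 6, 8, 1, 10, 5, 7, 0], [0, 0, 0, 0, 0, 0, 0, 0]]⟩,
  ⟨[[1, 5, 3, 9, 1, 0, 0, 0], [10, 6, 8, 2, 0, 4, 9, 1], [0, 0, 0, 0, 0, 0, 0, 0]], [4, 7, 0], [[1, 4, 4, 0, 1, 5, 2, 0], [4, 6, 6, 0, 5, 3, 10, 0], [4, 1, 1, 0, 3, 4, 6, 0], [1, 3, 4, 0, 9, 1, 7, 0], [0, 0, 0, 0, 0, 0, 0, 0], [0, 0, 0, 0, 0, 7, 0, 0], [5, 3, 2, 0, 10, 5, 7, 0], [0, 0, 0, 0, 0, 0, 0, 0]]⟩,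
  ⟨[[9, 3, 1, 5, 1, 0, 0, 0], [2, 8, 10, 6, 0, 4, 9, 1], [0, 0, 0, 0, 0, 0, 0, 0]], [4, 7, 0], [[2, 1, 4, 0, 9, 1, 7, 0], [8, 0, 5, 0, 3, 4, 6, 0], [10, 0, 5, 0, 1, 5, 2, 0], [7, 3, 1, 0, 5, 3, 10, 0], [0, 0, 0, 0, 0, 0, 0, 0], [0, 0, 0, 0, 0, 7, 0, 0], [0, 4, 1, 0, 10, 5, 7, 0], [0, 0, 0, 0, 0, 0, 0, 0]]⟩,
  ⟨[[10, 8, 2, 7, 1, 0, 0, 0], [1, 3, 9, 4, 0, 4, 9, 1], [0, 0, 0, 0, 0, 0, 0, 0]], [4, 7, 0], [[5, 0, 10, 0, 10, 6, 9, 0], [5, 0, 8, 0, 8, 7, 5, 0], [4, 1, 2, 0, 2, 10, 4, 0], [7, 7, 6, 0, 7, 2, 3, 0], [0, 0, 0, 0, 0, 0, 0, 0], [0, 0, 0, 0, 0, 7, 0, 0], [10, 7, 0, 0, 10, 5, 7, 0], [0, 0, 0, 0, 0, 0, 0, 0]]⟩,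
  ⟨[[8, 6, 10, 7, 1, 0, 0, 0], [3, 5, 1, 4, 0, 4, 9, 1], [0, 0, 0, 0, 0, 0, 0, 0]], [4, 7, 0], [[1, 1, 4, 0, 8, 7, 5, 0], [6, 6, 4, 0, 6, 8, 1, 0], [4, 4, 1, 0, 10, 6, 9, 0], [7, 8, 1, 0, 7, 2, 3, 0], [0, 0, 0, 0, 0, 0, 0, 0], [0, 0, 0, 0, 0, 7, 0, 0], [9, 8, 6, 0, 10, 5, 7, 0], [0, 0, 0, 0, 0, 0, 0, 0]]⟩,
  ⟨[[0, 0, 0, 0, 10, 3, 5, 1], [0, 0, 0, 0, 0, 0, 0, 0], [0, 0, 0, 0, 0, 0, 0, 0]], [7, 0, 0], [[5, 0, 0, 0, 0, 0, 0, 0], [0, 5, 0, 0, 0, 0, 0, 0], [0, 0, 5, 0, 0, 0, 0, 0], [0, 0, 0, 5, 0, 0, 0, 0], [0, 0, 0, 0, 5, 4, 4, 0], [3, 10, 6, 9, 2, 8, 0, 0], [8, 1, 5, 2, 9, 0, 8, 0], [0, 0, 0, 0, 0, 0, 0, 0]]⟩,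
  ⟨[[1, 5, 3, 9, 1, 0, 0, 0], [1, 5, 3, 9, 0, 3, 5, 1], [0, 0, 0, 0, 0, 0, 0, 0]], [4, 7, 0], [[9, 0, 5, 0, 6, 7, 7, 0], [0, 8, 0, 0, 8, 2, 2, 0], [6, 0, 4, 0, 7, 10, 10, 0], [7, 0, 2, 0, 10, 8, 8, 0], [0, 0, 0, 0, 0, 0, 0, 0], [1, 5, 7, 0, 2, 8, 0, 0], [10, 6, 4, 0, 9, 0, 8, 0], [0, 0, 0, 0, 0, 0, 0, 0]]⟩,
  ⟨[[9, 3, 1, 5, 1, 0, 0, 0], [9, 3, 1, 5, 0, 3, 5, 1], [0, 0, 0, 0, 0, 0, 0, 0]], [4, 7, 0], [[2, 8, 3, 0, 10, 8, 8, 0], [8, 6, 1, 0, 7, 10, 10, 0], [10, 2, 0, 0, 6, 7, 7, 0], [7, 2, 9, 0, 8, 2, 2, 0], [0, 0, 0, 0, 0, 0, 0, 0], [0, 3, 9, 0, 2, 8, 0, 0], [0, 8, 2, 0, 9, 0, 8, 0], [0, 0, 0, 0, 0, 0, 0, 0]]⟩,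
  ⟨[[10, 8, 2, 7, 1, 0, 0, 0], [10, 8, 2, 7, 0, 3, 5, 1], [0, 0, 0, 0, 0, 0, 0, 0]], [4, 7, 0], [[0, 2, 10, 0, 5, 4, 4, 0], [1, 6, 8, 0, 4, 1, 1, 0], [3, 8, 2, 0, 1, 3, 3, 0], [9, 4, 6, 0, 9, 5, 5, 0], [0, 0, 0, 0, 0, 0, 0, 0], [2, 8, 0, 0, 2, 8, 0, 0], [9, 3, 0, 0, 9, 0, 8, 0], [0, 0, 0, 0, 0, 0, 0, 0]]⟩,
  ⟨[[8, 6, 10, 7, 1, 0, 0, 0], [8, 6, 10, 7, 0, 3, 5, 1], [0, 0, 0, 0, 0, 0, 0, 0]], [4, 7, 0], [[4, 0, 6, 0, 4, 1, 1, 0], [0, 8, 0, 0, 3, 9, 9, 0], [5, 0, 9, 0, 5, 4, 4, 0], [0, 3, 0, 0, 9, 5, 5, 0], [0, 0, 0, 0, 0, 0, 0, 0], [4, 6, 10, 0, 2, 8, 0, 0], [7, 5, 1, 0, 9, 0, 8, 0], [0, 0, 0, 0, 0, 0, 0, 0]]⟩,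
  ⟨[[0, 0, 0, 0, 3, 9, 3, 1], [0, 0, 0, 0, 0, 0, 0, 0], [0, 0, 0, 0, 0, 0, 0, 0]], [7, 0, 0], [[5, 0, 0, 0, 0, 0, 0, 0], [0, 5, 0, 0, 0, 0, 0, 0], [0, 0, 5, 0, 0, 0, 0, 0], [0, 0, 0, 5, 0, 0, 0, 0], [8, 1, 5, 2, 3, 0, 9, 0], [2, 3, 4, 6, 5, 7, 5, 0], [8, 1, 5, 2, 9, 6, 5, 0], [0, 0, 0, 0, 0, 0, 0, 0]]⟩,
  ⟨[[1, 5, 3, 9, 1, 0, 0, 0], [8, 7, 2, 6, 0, 9, 3, 1], [0, 0, 0, 0, 0, 0, 0, 0]], [4, 7, 0], [[10, 5, 1, 0, 8, 0, 2, 0], [5, 0, 2, 0, 7, 0, 10, 0], [9, 4, 3, 0, 2, 0, 6, 0], [5, 1, 10, 0, 6, 0, 7, 0], [0, 0, 0, 0, 0, 0, 0, 0], [8, 7, 1, 0, 5, 7, 5, 0], [10, 6, 4, 0, 9, 6, 5, 0], [0, 0, 0, 0, 0, 0, 0, 0]]⟩,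
  ⟨[[9, 3, 1, 5, 1, 0, 0, 0], [6, 2, 8, 7, 0, 9, 3, 1], [0, 0, 0, 0, 0, 0, 0, 0]], [4, 7, 0], [[2, 2, 7, 0, 6, 0, 7, 0], [8, 4, 6, 0, 2, 0, 6, 0], [10, 5, 9, 0, 8, 0, 2, 0], [7, 6, 10, 0, 7, 0, 10, 0], [0, 0, 0, 0, 0, 0, 0, 0], [0, 2, 6, 0, 5, 7, 5, 0], [0, 8, 2, 0, 9, 6, 5, 0], [0, 0, 0, 0, 0, 0, 0, 0]]⟩,
  ⟨[[10, 8, 2, 7, 1, 0, 0, 0], [3, 9, 5, 1, 0, 9, 3, 1], [0, 0, 0, 0, 0, 0, 0, 0]], [4, 7, 0], [[9, 5, 10, 0, 3, 0, 9, 0], [6, 4, 8, 0, 9, 0, 5, 0], [7, 2, 2, 0, 5, 0, 4, 0], [1, 5, 6, 0, 1, 0, 3, 0], [0, 0, 0, 0, 0, 0, 0, 0], [5, 9, 0, 0, 5, 7, 5, 0], [9, 3, 0, 0, 9, 6, 5, 0], [0, 0, 0, 0, 0, 0, 0, 0]]⟩,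
  ⟨[[8, 6, 10, 7, 1, 0, 0, 0], [9, 4, 3, 1, 0, 9, 3, 1], [0, 0, 0, 0, 0, 0, 0, 0]], [4, 7, 0], [[3, 4, 9, 0, 9, 0, 5, 0], [2, 0, 5, 0, 4, 0, 1, 0], [1, 5, 10, 0, 3, 0, 9, 0], [6, 1, 4, 0, 1, 0, 3, 0], [0, 0, 0, 0, 0, 0, 0, 0], [10, 4, 3, 0, 5, 7, 5, 0], [7, 5, 1, 0, 9, 6, 5, 0], [0, 0, 0, 0, 0, 0, 0, 0]]⟩]

/-- The values of the families on the roots. -/
def fams : List (List (List (ℕ × ℕ × ℕ))) := [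
  [[], [], []],
  [[(0, 0, 0), (0, 0, 0), (0, 0, 0), (0, 0, 0), (1, 0, 0), (10, 0, 0), (2, 0, 0), (4, 0, 0), (7, 0, 0), (5, 0, 0), (6, 0, 0), (6, 0, 0), (6, 0, 0), (6, 0, 0), (3, 0, 0), (8, 0, 0), (6, 0, 0), (7, 0, 0), (7, 0, 0), (7, 0, 0), (7, 0, 0), (9, 0, 0), (10, 0, 0), (10, 0, 0), (10, 0, 0), (10, 0, 0), (8, 0, 0), (8, 0, 0), (8, 0, 0), (8, 0, 0), (9, 0, 0), (9, 0, 0), (9, 0, 0), (9, 0, 0), (9, 0, 0), (9, 0, 0), (2, 0, 0), (2, 0, 0), (2, 0, 0), (2, 0, 0), (3, 0, 0), (3, 0, 0), (3, 0, 0), (3, 0, 0), (3, 0, 0), (3, 0, 0), (1, 0, 0), (1, 0, 0), (1, 0, 0), (1, 0, 0), (1, 0, 0), (1, 0, 0), (2, 0, 0), (2, 0, 0), (2, 0, 0), (2, 0, 0), (4, 0, 0), (4, 0, 0), (4, 0, 0), (4, 0, 0), (4, 0, 0), (4, 0, 0), (5, 0, 0), (5, 0, 0), (5, 0, 0),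 (5, 0, 0), (3, 0, 0), (3, 0, 0), (3, 0, 0), (3, 0, 0), (4, 0, 0), (8, 0, 0), (8, 0, 0), (8, 0, 0), (8, 0, 0), (9, 0, 0), (7, 0, 0), (10, 0, 0), (5, 0, 0), (5, 0, 0), (5, 0, 0), (5, 0, 0), (5, 0, 0), (5, 0, 0), (6, 0, 0), (6, 0, 0), (6, 0, 0), (6, 0, 0), (4, 0, 0), (4, 0, 0), (4, 0, 0), (4, 0, 0), (5, 0, 0), (7, 0, 0), (7, 0, 0), (7, 0, 0), (7, 0, 0), (8, 0, 0), (6, 0, 0), (9, 0, 0), (9, 0, 0), (9, 0, 0), (9, 0, 0), (10, 0, 0), (8, 0, 0), (1, 0, 0), (1, 0, 0), (1, 0, 0), (1, 0, 0), (2, 0, 0), (10, 0, 0), (10, 0, 0), (10, 0, 0), (10, 0, 0), (0, 0, 0), (0, 0, 0), (0, 0, 0), (0, 0, 0), (0, 0, 0), (0, 0, 0), (0, 0, 0), (0, 0, 0), (0, 0, 0), (0, 0, 0), (0, 0, 0), (0, 0, 0), (1, 0, 0), (1, 0, 0), (1, 0, 0), (1, 0, 0), (9, 0, 0), (10,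 0, 0), (10, 0, 0), (10, 0, 0), (10, 0, 0), (3, 0, 0), (1, 0, 0), (2, 0, 0), (2, 0, 0), (2, 0, 0), (2, 0, 0), (5, 0, 0), (3, 0, 0), (4, 0, 0), (4, 0, 0), (4, 0, 0), (4, 0, 0), (6, 0, 0), (7, 0, 0), (7, 0, 0), (7, 0, 0), (7, 0, 0), (5, 0, 0), (5, 0, 0), (5, 0, 0), (5, 0, 0), (6, 0, 0), (6, 0, 0), (6, 0, 0), (6, 0, 0), (6, 0, 0), (6, 0, 0), (1, 0, 0), (4, 0, 0), (2, 0, 0), (3, 0, 0), (3, 0, 0), (3, 0, 0), (3, 0, 0), (7, 0, 0), (8, 0, 0), (8, 0, 0), (8, 0, 0), (8, 0, 0), (6, 0, 0), (6, 0, 0), (6, 0, 0), (6, 0, 0), (7, 0, 0), (7, 0, 0), (7, 0, 0), (7, 0, 0), (7, 0, 0), (7, 0, 0), (9, 0, 0), (9, 0, 0), (9, 0, 0), (9, 0, 0), (10, 0, 0), (10, 0, 0), (10, 0, 0), (10, 0, 0), (10, 0, 0), (10, 0, 0), (8, 0, 0), (8, 0, 0), (8, 0, 0), (8, 0,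 0), (8, 0, 0), (8, 0, 0), (9, 0, 0), (9, 0, 0), (9, 0, 0), (9, 0, 0), (2, 0, 0), (2, 0, 0), (2, 0, 0), (2, 0, 0), (2, 0, 0), (2, 0, 0), (3, 0, 0), (3, 0, 0), (3, 0, 0), (3, 0, 0), (1, 0, 0), (1, 0, 0), (1, 0, 0), (1, 0, 0), (2, 0, 0), (4, 0, 0), (4, 0, 0), (4, 0, 0), (4, 0, 0), (5, 0, 0), (3, 0, 0), (8, 0, 0), (5, 0, 0), (5, 0, 0), (5, 0, 0), (5, 0, 0), (6, 0, 0), (4, 0, 0), (7, 0, 0), (9, 0, 0), (1, 0, 0), (10, 0, 0), (0, 0, 0), (0, 0, 0), (0, 0, 0), (0, 0, 0)], [], []],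
  [[(0, 0, 0), (0, 0, 0), (0, 0, 0), (0, 0, 0), (1, 0, 0), (6, 0, 0), (7, 0, 0), (9, 0, 0), (10, 0, 0), (4, 0, 0), (5, 0, 0), (5, 0, 0), (5, 0, 0), (5, 0, 0), (5, 0, 0), (8, 0, 0), (2, 0, 0), (3, 0, 0), (3, 0, 0), (3, 0, 0), (3, 0, 0), (3, 0, 0), (4, 0, 0), (4, 0, 0), (4, 0, 0), (4, 0, 0), (9, 0, 0), (9, 0, 0), (9, 0, 0), (9, 0, 0), (10, 0, 0), (10, 0, 0), (10, 0, 0), (10, 0, 0), (10, 0, 0), (10, 0, 0), (1, 0, 0), (1, 0, 0), (1, 0, 0), (1, 0, 0), (2, 0, 0), (2, 0, 0), (2, 0, 0), (2, 0, 0), (2, 0, 0), (2, 0, 0), (7, 0, 0), (7, 0, 0), (7, 0, 0), (7, 0, 0), (7, 0, 0), (7, 0, 0), (8, 0, 0), (8, 0, 0), (8, 0, 0), (8, 0, 0), (8, 0, 0), (8, 0, 0), (8, 0, 0), (8, 0, 0), (8, 0, 0), (8, 0, 0), (9, 0, 0), (9, 0, 0), (9, 0, 0), (9, 0, 0),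 (3, 0, 0), (3, 0, 0), (3, 0, 0), (3, 0, 0), (4, 0, 0), (6, 0, 0), (6, 0, 0), (6, 0, 0), (6, 0, 0), (7, 0, 0), (1, 0, 0), (2, 0, 0), (6, 0, 0), (6, 0, 0), (6, 0, 0), (6, 0, 0), (6, 0, 0), (6, 0, 0), (7, 0, 0), (7, 0, 0), (7, 0, 0), (7, 0, 0), (1, 0, 0), (1, 0, 0), (1, 0, 0), (1, 0, 0), (2, 0, 0), (2, 0, 0), (2, 0, 0), (2, 0, 0), (2, 0, 0), (3, 0, 0), (8, 0, 0), (4, 0, 0), (4, 0, 0), (4, 0, 0), (4, 0, 0), (5, 0, 0), (10, 0, 0), (5, 0, 0), (5, 0, 0), (5, 0, 0), (5, 0, 0), (6, 0, 0), (10, 0, 0), (10, 0, 0), (10, 0, 0), (10, 0, 0), (0, 0, 0), (0, 0, 0), (0, 0, 0), (0, 0, 0), (0, 0, 0), (0, 0, 0), (0, 0, 0), (0, 0, 0), (0, 0, 0), (0, 0, 0), (0, 0, 0), (0, 0, 0), (1, 0, 0), (1, 0, 0), (1, 0, 0), (1, 0, 0), (5, 0, 0), (6, 0, 0), (6, 0,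 0), (6, 0, 0), (6, 0, 0), (1, 0, 0), (6, 0, 0), (7, 0, 0), (7, 0, 0), (7, 0, 0), (7, 0, 0), (3, 0, 0), (8, 0, 0), (9, 0, 0), (9, 0, 0), (9, 0, 0), (9, 0, 0), (9, 0, 0), (10, 0, 0), (10, 0, 0), (10, 0, 0), (10, 0, 0), (4, 0, 0), (4, 0, 0), (4, 0, 0), (4, 0, 0), (5, 0, 0), (5, 0, 0), (5, 0, 0), (5, 0, 0), (5, 0, 0), (5, 0, 0), (9, 0, 0), (10, 0, 0), (4, 0, 0), (5, 0, 0), (5, 0, 0), (5, 0, 0), (5, 0, 0), (7, 0, 0), (8, 0, 0), (8, 0, 0), (8, 0, 0), (8, 0, 0), (2, 0, 0), (2, 0, 0), (2, 0, 0), (2, 0, 0), (3, 0, 0), (3, 0, 0), (3, 0, 0), (3, 0, 0), (3, 0, 0), (3, 0, 0), (3, 0, 0), (3, 0, 0), (3, 0, 0), (3, 0, 0), (4, 0, 0), (4, 0, 0), (4, 0, 0), (4, 0, 0), (4, 0, 0), (4, 0, 0), (9, 0, 0), (9, 0, 0), (9, 0, 0), (9, 0, 0), (9, 0, 0), (9,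 0, 0), (10, 0, 0), (10, 0, 0), (10, 0, 0), (10, 0, 0), (1, 0, 0), (1, 0, 0), (1, 0, 0), (1, 0, 0), (1, 0, 0), (1, 0, 0), (2, 0, 0), (2, 0, 0), (2, 0, 0), (2, 0, 0), (7, 0, 0), (7, 0, 0), (7, 0, 0), (7, 0, 0), (8, 0, 0), (8, 0, 0), (8, 0, 0), (8, 0, 0), (8, 0, 0), (9, 0, 0), (3, 0, 0), (6, 0, 0), (6, 0, 0), (6, 0, 0), (6, 0, 0), (6, 0, 0), (7, 0, 0), (1, 0, 0), (2, 0, 0), (4, 0, 0), (5, 0, 0), (10, 0, 0), (0, 0, 0), (0, 0, 0), (0, 0, 0), (0, 0, 0)], [], []],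
  [[(0, 0, 0), (0, 0, 0), (0, 0, 0), (0, 0, 0), (1, 0, 0), (8, 0, 0), (10, 0, 0), (5, 0, 0), (7, 0, 0), (3, 0, 0), (4, 0, 0), (4, 0, 0), (4, 0, 0), (4, 0, 0), (9, 0, 0), (6, 0, 0), (2, 0, 0), (3, 0, 0), (3, 0, 0), (3, 0, 0), (3, 0, 0), (4, 0, 0), (5, 0, 0), (5, 0, 0), (5, 0, 0), (5, 0, 0), (1, 0, 0), (1, 0, 0), (1, 0, 0), (1, 0, 0), (2, 0, 0), (2, 0, 0), (2, 0, 0), (2, 0, 0), (2, 0, 0), (2, 0, 0), (9, 0, 0), (9, 0, 0), (9, 0, 0), (9, 0, 0), (10, 0, 0), (10, 0, 0), (10, 0, 0), (10, 0, 0), (10, 0, 0), (10, 0, 0), (6, 0, 0), (6, 0, 0), (6, 0, 0), (6, 0, 0), (6, 0, 0), (6, 0, 0), (7, 0, 0), (7, 0, 0), (7, 0, 0), (7, 0, 0), (8, 0, 0), (8, 0, 0), (8, 0, 0), (8, 0, 0), (8, 0, 0), (8, 0, 0), (9, 0, 0), (9, 0, 0), (9, 0, 0), (9, 0, 0),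 (5, 0, 0), (5, 0, 0), (5, 0, 0), (5, 0, 0), (6, 0, 0), (2, 0, 0), (2, 0, 0), (2, 0, 0), (2, 0, 0), (3, 0, 0), (10, 0, 0), (1, 0, 0), (7, 0, 0), (7, 0, 0), (7, 0, 0), (7, 0, 0), (7, 0, 0), (7, 0, 0), (8, 0, 0), (8, 0, 0), (8, 0, 0), (8, 0, 0), (4, 0, 0), (4, 0, 0), (4, 0, 0), (4, 0, 0), (5, 0, 0), (6, 0, 0), (6, 0, 0), (6, 0, 0), (6, 0, 0), (7, 0, 0), (3, 0, 0), (1, 0, 0), (1, 0, 0), (1, 0, 0), (1, 0, 0), (2, 0, 0), (9, 0, 0), (3, 0, 0), (3, 0, 0), (3, 0, 0), (3, 0, 0), (4, 0, 0), (10, 0, 0), (10, 0, 0), (10, 0, 0), (10, 0, 0), (0, 0, 0), (0, 0, 0), (0, 0, 0), (0, 0, 0), (0, 0, 0), (0, 0, 0), (0, 0, 0), (0, 0, 0), (0, 0, 0), (0, 0, 0), (0, 0, 0), (0, 0, 0), (1, 0, 0), (1, 0, 0), (1, 0, 0), (1, 0, 0), (7, 0, 0), (8, 0, 0), (8, 0,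 0), (8, 0, 0), (8, 0, 0), (2, 0, 0), (9, 0, 0), (10, 0, 0), (10, 0, 0), (10, 0, 0), (10, 0, 0), (8, 0, 0), (4, 0, 0), (5, 0, 0), (5, 0, 0), (5, 0, 0), (5, 0, 0), (6, 0, 0), (7, 0, 0), (7, 0, 0), (7, 0, 0), (7, 0, 0), (3, 0, 0), (3, 0, 0), (3, 0, 0), (3, 0, 0), (4, 0, 0), (4, 0, 0), (4, 0, 0), (4, 0, 0), (4, 0, 0), (4, 0, 0), (10, 0, 0), (1, 0, 0), (8, 0, 0), (9, 0, 0), (9, 0, 0), (9, 0, 0), (9, 0, 0), (5, 0, 0), (6, 0, 0), (6, 0, 0), (6, 0, 0), (6, 0, 0), (2, 0, 0), (2, 0, 0), (2, 0, 0), (2, 0, 0), (3, 0, 0), (3, 0, 0), (3, 0, 0), (3, 0, 0), (3, 0, 0), (3, 0, 0), (4, 0, 0), (4, 0, 0), (4, 0, 0), (4, 0, 0), (5, 0, 0), (5, 0, 0), (5, 0, 0), (5, 0, 0), (5, 0, 0), (5, 0, 0), (1, 0, 0), (1, 0, 0), (1, 0, 0), (1, 0, 0), (1, 0, 0), (1,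 0, 0), (2, 0, 0), (2, 0, 0), (2, 0, 0), (2, 0, 0), (9, 0, 0), (9, 0, 0), (9, 0, 0), (9, 0, 0), (9, 0, 0), (9, 0, 0), (10, 0, 0), (10, 0, 0), (10, 0, 0), (10, 0, 0), (6, 0, 0), (6, 0, 0), (6, 0, 0), (6, 0, 0), (7, 0, 0), (8, 0, 0), (8, 0, 0), (8, 0, 0), (8, 0, 0), (9, 0, 0), (5, 0, 0), (2, 0, 0), (7, 0, 0), (7, 0, 0), (7, 0, 0), (7, 0, 0), (8, 0, 0), (4, 0, 0), (6, 0, 0), (1, 0, 0), (3, 0, 0), (10, 0, 0), (0, 0, 0), (0, 0, 0), (0, 0, 0), (0, 0, 0)], [], []],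
  [[(0, 0, 0), (0, 0, 0), (0, 0, 0), (0, 0, 0), (1, 0, 0), (8, 0, 0), (7, 0, 0), (3, 0, 0), (2, 0, 0), (9, 0, 0), (10, 0, 0), (10, 0, 0), (10, 0, 0), (10, 0, 0), (4, 0, 0), (10, 0, 0), (6, 0, 0), (7, 0, 0), (7, 0, 0), (7, 0, 0), (7, 0, 0), (5, 0, 0), (6, 0, 0), (6, 0, 0), (6, 0, 0), (6, 0, 0), (2, 0, 0), (2, 0, 0), (2, 0, 0), (2, 0, 0), (3, 0, 0), (3, 0, 0), (3, 0, 0), (3, 0, 0), (3, 0, 0), (3, 0, 0), (8, 0, 0), (8, 0, 0), (8, 0, 0), (8, 0, 0), (9, 0, 0), (9, 0, 0), (9, 0, 0), (9, 0, 0), (9, 0, 0), (9, 0, 0), (5, 0, 0), (5, 0, 0), (5, 0, 0), (5, 0, 0), (5, 0, 0), (5, 0, 0), (6, 0, 0), (6, 0, 0), (6, 0, 0), (6, 0, 0), (4, 0, 0), (4, 0, 0), (4, 0, 0), (4, 0, 0), (4, 0, 0), (4, 0, 0), (5, 0, 0), (5, 0, 0), (5, 0, 0), (5, 0, 0), (1,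 0, 0), (1, 0, 0), (1, 0, 0), (1, 0, 0), (2, 0, 0), (7, 0, 0), (7, 0, 0), (7, 0, 0), (7, 0, 0), (8, 0, 0), (4, 0, 0), (3, 0, 0), (1, 0, 0), (1, 0, 0), (1, 0, 0), (1, 0, 0), (1, 0, 0), (1, 0, 0), (2, 0, 0), (2, 0, 0), (2, 0, 0), (2, 0, 0), (9, 0, 0), (9, 0, 0), (9, 0, 0), (9, 0, 0), (10, 0, 0), (8, 0, 0), (8, 0, 0), (8, 0, 0), (8, 0, 0), (9, 0, 0), (5, 0, 0), (4, 0, 0), (4, 0, 0), (4, 0, 0), (4, 0, 0), (5, 0, 0), (1, 0, 0), (3, 0, 0), (3, 0, 0), (3, 0, 0), (3, 0, 0), (4, 0, 0), (10, 0, 0), (10, 0, 0), (10, 0, 0), (10, 0, 0), (0, 0, 0), (0, 0, 0), (0, 0, 0), (0, 0, 0), (0, 0, 0), (0, 0, 0), (0, 0, 0), (0, 0, 0), (0, 0, 0), (0, 0, 0), (0, 0, 0), (0, 0, 0), (1, 0, 0), (1, 0, 0), (1, 0, 0), (1, 0, 0), (7, 0, 0), (8, 0, 0), (8, 0, 0),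 (8, 0, 0), (8, 0, 0), (10, 0, 0), (6, 0, 0), (7, 0, 0), (7, 0, 0), (7, 0, 0), (7, 0, 0), (6, 0, 0), (2, 0, 0), (3, 0, 0), (3, 0, 0), (3, 0, 0), (3, 0, 0), (1, 0, 0), (2, 0, 0), (2, 0, 0), (2, 0, 0), (2, 0, 0), (9, 0, 0), (9, 0, 0), (9, 0, 0), (9, 0, 0), (10, 0, 0), (10, 0, 0), (10, 0, 0), (10, 0, 0), (10, 0, 0), (10, 0, 0), (8, 0, 0), (7, 0, 0), (3, 0, 0), (4, 0, 0), (4, 0, 0), (4, 0, 0), (4, 0, 0), (9, 0, 0), (10, 0, 0), (10, 0, 0), (10, 0, 0), (10, 0, 0), (6, 0, 0), (6, 0, 0), (6, 0, 0), (6, 0, 0), (7, 0, 0), (7, 0, 0), (7, 0, 0), (7, 0, 0), (7, 0, 0), (7, 0, 0), (5, 0, 0), (5, 0, 0), (5, 0, 0), (5, 0, 0), (6, 0, 0), (6, 0, 0), (6, 0, 0), (6, 0, 0), (6, 0, 0), (6, 0, 0), (2, 0, 0), (2, 0, 0), (2, 0, 0), (2, 0, 0), (2, 0, 0),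 (2, 0, 0), (3, 0, 0), (3, 0, 0), (3, 0, 0), (3, 0, 0), (8, 0, 0), (8, 0, 0), (8, 0, 0), (8, 0, 0), (8, 0, 0), (8, 0, 0), (9, 0, 0), (9, 0, 0), (9, 0, 0), (9, 0, 0), (5, 0, 0), (5, 0, 0), (5, 0, 0), (5, 0, 0), (6, 0, 0), (4, 0, 0), (4, 0, 0), (4, 0, 0), (4, 0, 0), (5, 0, 0), (1, 0, 0), (7, 0, 0), (1, 0, 0), (1, 0, 0), (1, 0, 0), (1, 0, 0), (2, 0, 0), (9, 0, 0), (8, 0, 0), (4, 0, 0), (3, 0, 0), (10, 0, 0), (0, 0, 0), (0, 0, 0), (0, 0, 0), (0, 0, 0)], [], []],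
  [[(3, 0, 0), (4, 0, 0), (8, 0, 0), (2, 0, 0), (10, 0, 0), (10, 0, 0), (10, 0, 0), (10, 0, 0), (10, 0, 0), (10, 0, 0), (7, 0, 0), (1, 0, 0), (5, 0, 0), (6, 0, 0), (10, 0, 0), (10, 0, 0), (10, 0, 0), (7, 0, 0), (1, 0, 0), (5, 0, 0), (6, 0, 0), (10, 0, 0), (7, 0, 0), (1, 0, 0), (5, 0, 0), (6, 0, 0), (7, 0, 0), (1, 0, 0), (5, 0, 0), (6, 0, 0), (9, 0, 0), (2, 0, 0), (3, 0, 0), (7, 0, 0), (8, 0, 0), (1, 0, 0), (7, 0, 0), (1, 0, 0), (5, 0, 0), (6, 0, 0), (9, 0, 0), (2, 0, 0), (3, 0, 0), (7, 0, 0), (8, 0, 0), (1, 0, 0), (9, 0, 0), (2, 0, 0), (3, 0, 0), (7, 0, 0), (8, 0, 0), (1, 0, 0), (4, 0, 0), (5, 0, 0), (9, 0, 0), (3, 0, 0), (9, 0, 0), (2, 0, 0), (3, 0, 0), (7, 0, 0), (8, 0, 0), (1, 0, 0), (4, 0, 0), (5, 0, 0), (9, 0, 0), (3, 0, 0),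 (4, 0, 0), (5, 0, 0), (9, 0, 0), (3, 0, 0), (0, 0, 0), (4, 0, 0), (5, 0, 0), (9, 0, 0), (3, 0, 0), (0, 0, 0), (0, 0, 0), (0, 0, 0), (9, 0, 0), (2, 0, 0), (3, 0, 0), (7, 0, 0), (8, 0, 0), (1, 0, 0), (4, 0, 0), (5, 0, 0), (9, 0, 0), (3, 0, 0), (4, 0, 0), (5, 0, 0), (9, 0, 0), (3, 0, 0), (0, 0, 0), (4, 0, 0), (5, 0, 0), (9, 0, 0), (3, 0, 0), (0, 0, 0), (0, 0, 0), (4, 0, 0), (5, 0, 0), (9, 0, 0), (3, 0, 0), (0, 0, 0), (0, 0, 0), (4, 0, 0), (5, 0, 0), (9, 0, 0), (3, 0, 0), (0, 0, 0), (4, 0, 0), (5, 0, 0), (9, 0, 0), (3, 0, 0), (1, 0, 0), (2, 0, 0), (6, 0, 0), (6, 0, 0), (7, 0, 0), (10, 0, 0), (1, 0, 0), (4, 0, 0), (5, 0, 0), (5, 0, 0), (9, 0, 0), (10, 0, 0), (8, 0, 0), (2, 0, 0), (6, 0, 0), (7, 0, 0), (0, 0, 0), (8, 0, 0), (2, 0, 0),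 (6, 0, 0), (7, 0, 0), (0, 0, 0), (0, 0, 0), (8, 0, 0), (2, 0, 0), (6, 0, 0), (7, 0, 0), (0, 0, 0), (0, 0, 0), (8, 0, 0), (2, 0, 0), (6, 0, 0), (7, 0, 0), (0, 0, 0), (8, 0, 0), (2, 0, 0), (6, 0, 0), (7, 0, 0), (8, 0, 0), (2, 0, 0), (6, 0, 0), (7, 0, 0), (10, 0, 0), (3, 0, 0), (4, 0, 0), (8, 0, 0), (9, 0, 0), (2, 0, 0), (0, 0, 0), (0, 0, 0), (0, 0, 0), (8, 0, 0), (2, 0, 0), (6, 0, 0), (7, 0, 0), (0, 0, 0), (8, 0, 0), (2, 0, 0), (6, 0, 0), (7, 0, 0), (8, 0, 0), (2, 0, 0), (6, 0, 0), (7, 0, 0), (10, 0, 0), (3, 0, 0), (4, 0, 0), (8, 0, 0), (9, 0, 0), (2, 0, 0), (8, 0, 0), (2, 0, 0), (6, 0, 0), (7, 0, 0), (10, 0, 0), (3, 0, 0), (4, 0, 0), (8, 0, 0), (9, 0, 0), (2, 0, 0), (10, 0, 0), (3, 0, 0), (4, 0, 0), (8, 0, 0), (9, 0, 0), (2, 0,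 0), (5, 0, 0), (6, 0, 0), (10, 0, 0), (4, 0, 0), (10, 0, 0), (3, 0, 0), (4, 0, 0), (8, 0, 0), (9, 0, 0), (2, 0, 0), (5, 0, 0), (6, 0, 0), (10, 0, 0), (4, 0, 0), (5, 0, 0), (6, 0, 0), (10, 0, 0), (4, 0, 0), (1, 0, 0), (5, 0, 0), (6, 0, 0), (10, 0, 0), (4, 0, 0), (1, 0, 0), (1, 0, 0), (1, 0, 0), (5, 0, 0), (6, 0, 0), (10, 0, 0), (4, 0, 0), (1, 0, 0), (1, 0, 0), (1, 0, 0), (1, 0, 0), (1, 0, 0), (1, 0, 0), (9, 0, 0), (3, 0, 0), (7, 0, 0), (8, 0, 0)], [], []],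
  [[(0, 3, 0), (0, 4, 0), (0, 8, 0), (0, 2, 0), (1, 2, 0), (10, 7, 0), (2, 5, 0), (4, 0, 0), (7, 9, 0), (5, 3, 0), (6, 3, 0), (6, 8, 0), (6, 1, 0), (6, 2, 0), (3, 8, 0), (8, 1, 0), (6, 6, 0), (7, 6, 0), (7, 0, 0), (7, 4, 0), (7, 5, 0), (9, 4, 0), (10, 4, 0), (10, 9, 0), (10, 2, 0), (10, 3, 0), (8, 9, 0), (8, 3, 0), (8, 7, 0), (8, 8, 0), (9, 3, 0), (9, 7, 0), (9, 8, 0), (9, 1, 0), (9, 2, 0), (9, 6, 0), (2, 2, 0), (2, 7, 0), (2, 0, 0), (2, 1, 0), (3, 7, 0), (3, 0, 0), (3, 1, 0), (3, 5, 0), (3, 6, 0), (3, 10, 0), (1, 1, 0), (1, 5, 0), (1, 6, 0), (1, 10, 0), (1, 0, 0), (1, 4, 0), (2, 10, 0), (2, 0, 0), (2, 4, 0), (2, 9, 0), (4, 10, 0), (4, 3, 0), (4, 4, 0), (4, 8, 0), (4, 9, 0), (4, 2, 0), (5, 8, 0), (5, 9, 0), (5, 2, 0), (5, 7, 0),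 (3, 2, 0), (3, 3, 0), (3, 7, 0), (3, 1, 0), (4, 1, 0), (8, 6, 0), (8, 7, 0), (8, 0, 0), (8, 5, 0), (9, 5, 0), (7, 10, 0), (10, 8, 0), (5, 2, 0), (5, 6, 0), (5, 7, 0), (5, 0, 0), (5, 1, 0), (5, 5, 0), (6, 0, 0), (6, 1, 0), (6, 5, 0), (6, 10, 0), (4, 5, 0), (4, 6, 0), (4, 10, 0), (4, 4, 0), (5, 4, 0), (7, 3, 0), (7, 4, 0), (7, 8, 0), (7, 2, 0), (8, 2, 0), (6, 7, 0), (9, 9, 0), (9, 10, 0), (9, 3, 0), (9, 8, 0), (10, 8, 0), (8, 2, 0), (1, 7, 0), (1, 8, 0), (1, 1, 0), (1, 6, 0), (2, 6, 0), (10, 1, 0), (10, 2, 0), (10, 6, 0), (10, 0, 0), (0, 1, 0), (0, 2, 0), (0, 6, 0), (0, 6, 0), (0, 7, 0), (0, 10, 0), (0, 1, 0), (0, 4, 0), (0, 5, 0), (0, 5, 0), (0, 9, 0), (0, 10, 0), (1, 0, 0), (1, 5, 0), (1, 9, 0), (1, 10, 0), (9, 5, 0), (10, 5, 0),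 (10, 10, 0), (10, 3, 0), (10, 4, 0), (3, 9, 0), (1, 3, 0), (2, 3, 0), (2, 8, 0), (2, 1, 0), (2, 2, 0), (5, 4, 0), (3, 9, 0), (4, 9, 0), (4, 3, 0), (4, 7, 0), (4, 8, 0), (6, 7, 0), (7, 7, 0), (7, 1, 0), (7, 5, 0), (7, 6, 0), (5, 1, 0), (5, 6, 0), (5, 10, 0), (5, 0, 0), (6, 6, 0), (6, 10, 0), (6, 0, 0), (6, 4, 0), (6, 5, 0), (6, 9, 0), (1, 3, 0), (4, 1, 0), (2, 6, 0), (3, 6, 0), (3, 0, 0), (3, 4, 0), (3, 5, 0), (7, 10, 0), (8, 10, 0), (8, 4, 0), (8, 8, 0), (8, 9, 0), (6, 4, 0), (6, 9, 0), (6, 2, 0), (6, 3, 0), (7, 9, 0), (7, 2, 0), (7, 3, 0), (7, 7, 0), (7, 8, 0), (7, 1, 0), (9, 2, 0), (9, 7, 0), (9, 0, 0), (9, 1, 0), (10, 7, 0), (10, 0, 0), (10, 1, 0), (10, 5, 0), (10, 6, 0), (10, 10, 0), (8, 1, 0), (8, 5, 0), (8, 6, 0), (8, 10,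 0), (8, 0, 0), (8, 4, 0), (9, 10, 0), (9, 0, 0), (9, 4, 0), (9, 9, 0), (2, 5, 0), (2, 9, 0), (2, 10, 0), (2, 3, 0), (2, 4, 0), (2, 8, 0), (3, 3, 0), (3, 4, 0), (3, 8, 0), (3, 2, 0), (1, 8, 0), (1, 9, 0), (1, 2, 0), (1, 7, 0), (2, 7, 0), (4, 6, 0), (4, 7, 0), (4, 0, 0), (4, 5, 0), (5, 5, 0), (3, 10, 0), (8, 3, 0), (5, 9, 0), (5, 10, 0), (5, 3, 0), (5, 8, 0), (6, 8, 0), (4, 2, 0), (7, 0, 0), (9, 6, 0), (1, 4, 0), (10, 9, 0), (0, 9, 0), (0, 3, 0), (0, 7, 0), (0, 8, 0)], [(3, 0, 0), (4, 0, 0), (8, 0, 0), (2, 0, 0), (2, 0, 0), (7, 0, 0), (5, 0, 0), (0, 0, 0), (9, 0, 0), (3, 0, 0), (3, 0, 0), (8, 0, 0), (1, 0, 0), (2, 0, 0), (8, 0, 0), (1, 0, 0), (6, 0, 0), (6, 0, 0), (0, 0, 0), (4, 0, 0), (5, 0, 0), (4, 0, 0), (4, 0, 0), (9, 0, 0),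 (2, 0, 0), (3, 0, 0), (9, 0, 0), (3, 0, 0), (7, 0, 0), (8, 0, 0), (3, 0, 0), (7, 0, 0), (8, 0, 0), (1, 0, 0), (2, 0, 0), (6, 0, 0), (2, 0, 0), (7, 0, 0), (0, 0, 0), (1, 0, 0), (7, 0, 0), (0, 0, 0), (1, 0, 0), (5, 0, 0), (6, 0, 0), (10, 0, 0), (1, 0, 0), (5, 0, 0), (6, 0, 0), (10, 0, 0), (0, 0, 0), (4, 0, 0), (10, 0, 0), (0, 0, 0), (4, 0, 0), (9, 0, 0), (10, 0, 0), (3, 0, 0), (4, 0, 0), (8, 0, 0), (9, 0, 0), (2, 0, 0), (8, 0, 0), (9, 0, 0), (2, 0, 0), (7, 0, 0), (2, 0, 0), (3, 0, 0), (7, 0, 0), (1, 0, 0), (1, 0, 0), (6, 0, 0), (7, 0, 0), (0, 0, 0), (5, 0, 0), (5, 0, 0), (10, 0, 0), (8, 0, 0), (2, 0, 0), (6, 0, 0), (7, 0, 0), (0, 0, 0), (1, 0, 0), (5, 0, 0), (0, 0, 0), (1, 0, 0), (5, 0, 0), (10, 0, 0), (5, 0, 0), (6, 0, 0), (10,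 0, 0), (4, 0, 0), (4, 0, 0), (3, 0, 0), (4, 0, 0), (8, 0, 0), (2, 0, 0), (2, 0, 0), (7, 0, 0), (9, 0, 0), (10, 0, 0), (3, 0, 0), (8, 0, 0), (8, 0, 0), (2, 0, 0), (7, 0, 0), (8, 0, 0), (1, 0, 0), (6, 0, 0), (6, 0, 0), (1, 0, 0), (2, 0, 0), (6, 0, 0), (0, 0, 0), (1, 0, 0), (2, 0, 0), (6, 0, 0), (6, 0, 0), (7, 0, 0), (10, 0, 0), (1, 0, 0), (4, 0, 0), (5, 0, 0), (5, 0, 0), (9, 0, 0), (10, 0, 0), (0, 0, 0), (5, 0, 0), (9, 0, 0), (10, 0, 0), (5, 0, 0), (5, 0, 0), (10, 0, 0), (3, 0, 0), (4, 0, 0), (9, 0, 0), (3, 0, 0), (3, 0, 0), (8, 0, 0), (1, 0, 0), (2, 0, 0), (4, 0, 0), (9, 0, 0), (9, 0, 0), (3, 0, 0), (7, 0, 0), (8, 0, 0), (7, 0, 0), (7, 0, 0), (1, 0, 0), (5, 0, 0), (6, 0, 0), (1, 0, 0), (6, 0, 0), (10, 0, 0), (0, 0, 0), (6, 0, 0),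 (10, 0, 0), (0, 0, 0), (4, 0, 0), (5, 0, 0), (9, 0, 0), (3, 0, 0), (1, 0, 0), (6, 0, 0), (6, 0, 0), (0, 0, 0), (4, 0, 0), (5, 0, 0), (10, 0, 0), (10, 0, 0), (4, 0, 0), (8, 0, 0), (9, 0, 0), (4, 0, 0), (9, 0, 0), (2, 0, 0), (3, 0, 0), (9, 0, 0), (2, 0, 0), (3, 0, 0), (7, 0, 0), (8, 0, 0), (1, 0, 0), (2, 0, 0), (7, 0, 0), (0, 0, 0), (1, 0, 0), (7, 0, 0), (0, 0, 0), (1, 0, 0), (5, 0, 0), (6, 0, 0), (10, 0, 0), (1, 0, 0), (5, 0, 0), (6, 0, 0), (10, 0, 0), (0, 0, 0), (4, 0, 0), (10, 0, 0), (0, 0, 0), (4, 0, 0), (9, 0, 0), (5, 0, 0), (9, 0, 0), (10, 0, 0), (3, 0, 0), (4, 0, 0), (8, 0, 0), (3, 0, 0), (4, 0, 0), (8, 0, 0), (2, 0, 0), (8, 0, 0), (9, 0, 0), (2, 0, 0), (7, 0, 0), (7, 0, 0), (6, 0, 0), (7, 0, 0), (0, 0, 0), (5, 0, 0), (5,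 0, 0), (10, 0, 0), (3, 0, 0), (9, 0, 0), (10, 0, 0), (3, 0, 0), (8, 0, 0), (8, 0, 0), (2, 0, 0), (0, 0, 0), (6, 0, 0), (4, 0, 0), (9, 0, 0), (9, 0, 0), (3, 0, 0), (7, 0, 0), (8, 0, 0)], []],
  [[(0, 3, 0), (0, 4, 0), (0, 8, 0), (0, 2, 0), (1, 2, 0), (6, 6, 0), (7, 9, 0), (9, 4, 0), (10, 7, 0), (4, 0, 0), (5, 0, 0), (5, 5, 0), (5, 9, 0), (5, 10, 0), (5, 3, 0), (8, 1, 0), (2, 5, 0), (3, 5, 0), (3, 10, 0), (3, 3, 0), (3, 4, 0), (3, 8, 0), (4, 8, 0), (4, 2, 0), (4, 6, 0), (4, 7, 0), (9, 1, 0), (9, 6, 0), (9, 10, 0), (9, 0, 0), (10, 6, 0), (10, 10, 0), (10, 0, 0), (10, 4, 0), (10, 5, 0), (10, 9, 0), (1, 10, 0), (1, 4, 0), (1, 8, 0), (1, 9, 0), (2, 4, 0), (2, 8, 0), (2, 9, 0), (2, 2, 0), (2, 3, 0), (2, 7, 0), (7, 8, 0), (7, 1, 0), (7,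 2, 0), (7, 6, 0), (7, 7, 0), (7, 0, 0), (8, 6, 0), (8, 7, 0), (8, 0, 0), (8, 5, 0), (8, 0, 0), (8, 4, 0), (8, 5, 0), (8, 9, 0), (8, 10, 0), (8, 3, 0), (9, 9, 0), (9, 10, 0), (9, 3, 0), (9, 8, 0), (3, 2, 0), (3, 3, 0), (3, 7, 0), (3, 1, 0), (4, 1, 0), (6, 0, 0), (6, 1, 0), (6, 5, 0), (6, 10, 0), (7, 10, 0), (1, 3, 0), (2, 6, 0), (6, 5, 0), (6, 9, 0), (6, 10, 0), (6, 3, 0), (6, 4, 0), (6, 8, 0), (7, 3, 0), (7, 4, 0), (7, 8, 0), (7, 2, 0), (1, 7, 0), (1, 8, 0), (1, 1, 0), (1, 6, 0), (2, 6, 0), (2, 10, 0), (2, 0, 0), (2, 4, 0), (2, 9, 0), (3, 9, 0), (8, 2, 0), (4, 5, 0), (4, 6, 0), (4, 10, 0), (4, 4, 0), (5, 4, 0), (10, 8, 0), (5, 8, 0), (5, 9, 0), (5, 2, 0), (5, 7, 0), (6, 7, 0), (10, 1, 0), (10, 2, 0), (10, 6, 0), (10, 0, 0), (0,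 1, 0), (0, 2, 0), (0, 6, 0), (0, 6, 0), (0, 7, 0), (0, 10, 0), (0, 1, 0), (0, 4, 0), (0, 5, 0), (0, 5, 0), (0, 9, 0), (0, 10, 0), (1, 0, 0), (1, 5, 0), (1, 9, 0), (1, 10, 0), (5, 4, 0), (6, 4, 0), (6, 9, 0), (6, 2, 0), (6, 3, 0), (1, 3, 0), (6, 7, 0), (7, 7, 0), (7, 1, 0), (7, 5, 0), (7, 6, 0), (3, 9, 0), (8, 2, 0), (9, 2, 0), (9, 7, 0), (9, 0, 0), (9, 1, 0), (9, 5, 0), (10, 5, 0), (10, 10, 0), (10, 3, 0), (10, 4, 0), (4, 9, 0), (4, 3, 0), (4, 7, 0), (4, 8, 0), (5, 3, 0), (5, 7, 0), (5, 8, 0), (5, 1, 0), (5, 2, 0), (5, 6, 0), (9, 5, 0), (10, 8, 0), (4, 1, 0), (5, 1, 0), (5, 6, 0), (5, 10, 0), (5, 0, 0), (7, 10, 0), (8, 10, 0), (8, 4, 0), (8, 8, 0), (8, 9, 0), (2, 3, 0), (2, 8, 0), (2, 1, 0), (2, 2, 0), (3, 8, 0), (3, 1, 0), (3,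 2, 0), (3, 6, 0), (3, 7, 0), (3, 0, 0), (3, 6, 0), (3, 0, 0), (3, 4, 0), (3, 5, 0), (4, 0, 0), (4, 4, 0), (4, 5, 0), (4, 9, 0), (4, 10, 0), (4, 3, 0), (9, 4, 0), (9, 8, 0), (9, 9, 0), (9, 2, 0), (9, 3, 0), (9, 7, 0), (10, 2, 0), (10, 3, 0), (10, 7, 0), (10, 1, 0), (1, 2, 0), (1, 6, 0), (1, 7, 0), (1, 0, 0), (1, 1, 0), (1, 5, 0), (2, 0, 0), (2, 1, 0), (2, 5, 0), (2, 10, 0), (7, 4, 0), (7, 5, 0), (7, 9, 0), (7, 3, 0), (8, 3, 0), (8, 7, 0), (8, 8, 0), (8, 1, 0), (8, 6, 0), (9, 6, 0), (3, 10, 0), (6, 8, 0), (6, 1, 0), (6, 2, 0), (6, 6, 0), (6, 0, 0), (7, 0, 0), (1, 4, 0), (2, 7, 0), (4, 2, 0), (5, 5, 0), (10, 9, 0), (0, 9, 0), (0, 3, 0), (0, 7, 0), (0, 8, 0)], [(3, 0, 0), (4, 0, 0), (8, 0, 0), (2, 0, 0), (2, 0, 0), (6, 0, 0), (9, 0,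 0), (4, 0, 0), (7, 0, 0), (0, 0, 0), (0, 0, 0), (5, 0, 0), (9, 0, 0), (10, 0, 0), (3, 0, 0), (1, 0, 0), (5, 0, 0), (5, 0, 0), (10, 0, 0), (3, 0, 0), (4, 0, 0), (8, 0, 0), (8, 0, 0), (2, 0, 0), (6, 0, 0), (7, 0, 0), (1, 0, 0), (6, 0, 0), (10, 0, 0), (0, 0, 0), (6, 0, 0), (10, 0, 0), (0, 0, 0), (4, 0, 0), (5, 0, 0), (9, 0, 0), (10, 0, 0), (4, 0, 0), (8, 0, 0), (9, 0, 0), (4, 0, 0), (8, 0, 0), (9, 0, 0), (2, 0, 0), (3, 0, 0), (7, 0, 0), (8, 0, 0), (1, 0, 0), (2, 0, 0), (6, 0, 0), (7, 0, 0), (0, 0, 0), (6, 0, 0), (7, 0, 0), (0, 0, 0), (5, 0, 0), (0, 0, 0), (4, 0, 0), (5, 0, 0), (9, 0, 0), (10, 0, 0), (3, 0, 0), (9, 0, 0), (10, 0, 0), (3, 0, 0), (8, 0, 0), (2, 0, 0), (3, 0, 0), (7, 0, 0), (1, 0, 0), (1, 0, 0), (0, 0, 0), (1, 0, 0),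 (5, 0, 0), (10, 0, 0), (10, 0, 0), (3, 0, 0), (6, 0, 0), (5, 0, 0), (9, 0, 0), (10, 0, 0), (3, 0, 0), (4, 0, 0), (8, 0, 0), (3, 0, 0), (4, 0, 0), (8, 0, 0), (2, 0, 0), (7, 0, 0), (8, 0, 0), (1, 0, 0), (6, 0, 0), (6, 0, 0), (10, 0, 0), (0, 0, 0), (4, 0, 0), (9, 0, 0), (9, 0, 0), (2, 0, 0), (5, 0, 0), (6, 0, 0), (10, 0, 0), (4, 0, 0), (4, 0, 0), (8, 0, 0), (8, 0, 0), (9, 0, 0), (2, 0, 0), (7, 0, 0), (7, 0, 0), (1, 0, 0), (2, 0, 0), (6, 0, 0), (0, 0, 0), (1, 0, 0), (2, 0, 0), (6, 0, 0), (6, 0, 0), (7, 0, 0), (10, 0, 0), (1, 0, 0), (4, 0, 0), (5, 0, 0), (5, 0, 0), (9, 0, 0), (10, 0, 0), (0, 0, 0), (5, 0, 0), (9, 0, 0), (10, 0, 0), (4, 0, 0), (4, 0, 0), (9, 0, 0), (2, 0, 0), (3, 0, 0), (3, 0, 0), (7, 0, 0), (7, 0, 0), (1, 0, 0), (5,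 0, 0), (6, 0, 0), (9, 0, 0), (2, 0, 0), (2, 0, 0), (7, 0, 0), (0, 0, 0), (1, 0, 0), (5, 0, 0), (5, 0, 0), (10, 0, 0), (3, 0, 0), (4, 0, 0), (9, 0, 0), (3, 0, 0), (7, 0, 0), (8, 0, 0), (3, 0, 0), (7, 0, 0), (8, 0, 0), (1, 0, 0), (2, 0, 0), (6, 0, 0), (5, 0, 0), (8, 0, 0), (1, 0, 0), (1, 0, 0), (6, 0, 0), (10, 0, 0), (0, 0, 0), (10, 0, 0), (10, 0, 0), (4, 0, 0), (8, 0, 0), (9, 0, 0), (3, 0, 0), (8, 0, 0), (1, 0, 0), (2, 0, 0), (8, 0, 0), (1, 0, 0), (2, 0, 0), (6, 0, 0), (7, 0, 0), (0, 0, 0), (6, 0, 0), (0, 0, 0), (4, 0, 0), (5, 0, 0), (0, 0, 0), (4, 0, 0), (5, 0, 0), (9, 0, 0), (10, 0, 0), (3, 0, 0), (4, 0, 0), (8, 0, 0), (9, 0, 0), (2, 0, 0), (3, 0, 0), (7, 0, 0), (2, 0, 0), (3, 0, 0), (7, 0, 0), (1, 0, 0), (2, 0, 0), (6, 0, 0),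 (7, 0, 0), (0, 0, 0), (1, 0, 0), (5, 0, 0), (0, 0, 0), (1, 0, 0), (5, 0, 0), (10, 0, 0), (4, 0, 0), (5, 0, 0), (9, 0, 0), (3, 0, 0), (3, 0, 0), (7, 0, 0), (8, 0, 0), (1, 0, 0), (6, 0, 0), (6, 0, 0), (10, 0, 0), (8, 0, 0), (1, 0, 0), (2, 0, 0), (6, 0, 0), (0, 0, 0), (0, 0, 0), (4, 0, 0), (7, 0, 0), (2, 0, 0), (5, 0, 0), (9, 0, 0), (9, 0, 0), (3, 0, 0), (7, 0, 0), (8, 0, 0)], []],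
  [[(0, 3, 0), (0, 4, 0), (0, 8, 0), (0, 2, 0), (1, 2, 0), (8, 1, 0), (10, 7, 0), (5, 3, 0), (7, 9, 0), (3, 8, 0), (4, 8, 0), (4, 2, 0), (4, 6, 0), (4, 7, 0), (9, 4, 0), (6, 6, 0), (2, 5, 0), (3, 5, 0), (3, 10, 0), (3, 3, 0), (3, 4, 0), (4, 0, 0), (5, 0, 0), (5, 5, 0), (5, 9, 0), (5, 10, 0), (1, 10, 0), (1, 4, 0), (1, 8, 0), (1, 9, 0), (2, 4, 0), (2, 8, 0), (2, 9, 0), (2, 2, 0), (2, 3, 0), (2, 7, 0), (9, 1, 0), (9, 6, 0), (9, 10, 0), (9, 0, 0), (10, 6, 0), (10, 10, 0), (10, 0, 0), (10, 4, 0), (10, 5, 0), (10, 9, 0), (6, 5, 0), (6, 9, 0), (6, 10, 0), (6, 3, 0), (6, 4, 0), (6, 8, 0), (7, 3, 0), (7, 4, 0), (7, 8, 0), (7, 2, 0), (8, 0, 0), (8, 4, 0), (8, 5, 0), (8, 9, 0), (8, 10, 0), (8, 3, 0), (9, 9, 0), (9, 10, 0), (9, 3, 0), (9,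 8, 0), (5, 8, 0), (5, 9, 0), (5, 2, 0), (5, 7, 0), (6, 7, 0), (2, 10, 0), (2, 0, 0), (2, 4, 0), (2, 9, 0), (3, 9, 0), (10, 8, 0), (1, 3, 0), (7, 8, 0), (7, 1, 0), (7, 2, 0), (7, 6, 0), (7, 7, 0), (7, 0, 0), (8, 6, 0), (8, 7, 0), (8, 0, 0), (8, 5, 0), (4, 5, 0), (4, 6, 0), (4, 10, 0), (4, 4, 0), (5, 4, 0), (6, 0, 0), (6, 1, 0), (6, 5, 0), (6, 10, 0), (7, 10, 0), (3, 9, 0), (1, 7, 0), (1, 8, 0), (1, 1, 0), (1, 6, 0), (2, 6, 0), (9, 5, 0), (3, 2, 0), (3, 3, 0), (3, 7, 0), (3, 1, 0), (4, 1, 0), (10, 1, 0), (10, 2, 0), (10, 6, 0), (10, 0, 0), (0, 1, 0), (0, 2, 0), (0, 6, 0), (0, 6, 0), (0, 7, 0), (0, 10, 0), (0, 1, 0), (0, 4, 0), (0, 5, 0), (0, 5, 0), (0, 9, 0), (0, 10, 0), (1, 0, 0), (1, 5, 0), (1, 9, 0), (1, 10, 0), (7, 10, 0), (8,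 10, 0), (8, 4, 0), (8, 8, 0), (8, 9, 0), (2, 6, 0), (9, 5, 0), (10, 5, 0), (10, 10, 0), (10, 3, 0), (10, 4, 0), (8, 2, 0), (4, 1, 0), (5, 1, 0), (5, 6, 0), (5, 10, 0), (5, 0, 0), (6, 7, 0), (7, 7, 0), (7, 1, 0), (7, 5, 0), (7, 6, 0), (3, 6, 0), (3, 0, 0), (3, 4, 0), (3, 5, 0), (4, 0, 0), (4, 4, 0), (4, 5, 0), (4, 9, 0), (4, 10, 0), (4, 3, 0), (10, 8, 0), (1, 3, 0), (8, 2, 0), (9, 2, 0), (9, 7, 0), (9, 0, 0), (9, 1, 0), (5, 4, 0), (6, 4, 0), (6, 9, 0), (6, 2, 0), (6, 3, 0), (2, 3, 0), (2, 8, 0), (2, 1, 0), (2, 2, 0), (3, 8, 0), (3, 1, 0), (3, 2, 0), (3, 6, 0), (3, 7, 0), (3, 0, 0), (4, 9, 0), (4, 3, 0), (4, 7, 0), (4, 8, 0), (5, 3, 0), (5, 7, 0), (5, 8, 0), (5, 1, 0), (5, 2, 0), (5, 6, 0), (1, 2, 0), (1, 6, 0), (1, 7, 0), (1, 0,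 0), (1, 1, 0), (1, 5, 0), (2, 0, 0), (2, 1, 0), (2, 5, 0), (2, 10, 0), (9, 4, 0), (9, 8, 0), (9, 9, 0), (9, 2, 0), (9, 3, 0), (9, 7, 0), (10, 2, 0), (10, 3, 0), (10, 7, 0), (10, 1, 0), (6, 1, 0), (6, 2, 0), (6, 6, 0), (6, 0, 0), (7, 0, 0), (8, 7, 0), (8, 8, 0), (8, 1, 0), (8, 6, 0), (9, 6, 0), (5, 5, 0), (2, 7, 0), (7, 4, 0), (7, 5, 0), (7, 9, 0), (7, 3, 0), (8, 3, 0), (4, 2, 0), (6, 8, 0), (1, 4, 0), (3, 10, 0), (10, 9, 0), (0, 9, 0), (0, 3, 0), (0, 7, 0), (0, 8, 0)], [(3, 0, 0), (4, 0, 0), (8, 0, 0), (2, 0, 0), (2, 0, 0), (1, 0, 0), (7, 0, 0), (3, 0, 0), (9, 0, 0), (8, 0, 0), (8, 0, 0), (2, 0, 0), (6, 0, 0), (7, 0, 0), (4, 0, 0), (6, 0, 0), (5, 0, 0), (5, 0, 0), (10, 0, 0), (3, 0, 0), (4, 0, 0), (0, 0, 0), (0, 0, 0), (5, 0, 0),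 (9, 0, 0), (10, 0, 0), (10, 0, 0), (4, 0, 0), (8, 0, 0), (9, 0, 0), (4, 0, 0), (8, 0, 0), (9, 0, 0), (2, 0, 0), (3, 0, 0), (7, 0, 0), (1, 0, 0), (6, 0, 0), (10, 0, 0), (0, 0, 0), (6, 0, 0), (10, 0, 0), (0, 0, 0), (4, 0, 0), (5, 0, 0), (9, 0, 0), (5, 0, 0), (9, 0, 0), (10, 0, 0), (3, 0, 0), (4, 0, 0), (8, 0, 0), (3, 0, 0), (4, 0, 0), (8, 0, 0), (2, 0, 0), (0, 0, 0), (4, 0, 0), (5, 0, 0), (9, 0, 0), (10, 0, 0), (3, 0, 0), (9, 0, 0), (10, 0, 0), (3, 0, 0), (8, 0, 0), (8, 0, 0), (9, 0, 0), (2, 0, 0), (7, 0, 0), (7, 0, 0), (10, 0, 0), (0, 0, 0), (4, 0, 0), (9, 0, 0), (9, 0, 0), (8, 0, 0), (3, 0, 0), (8, 0, 0), (1, 0, 0), (2, 0, 0), (6, 0, 0), (7, 0, 0), (0, 0, 0), (6, 0, 0), (7, 0, 0), (0, 0, 0), (5, 0, 0), (5, 0, 0), (6, 0, 0), (10,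 0, 0), (4, 0, 0), (4, 0, 0), (0, 0, 0), (1, 0, 0), (5, 0, 0), (10, 0, 0), (10, 0, 0), (9, 0, 0), (7, 0, 0), (8, 0, 0), (1, 0, 0), (6, 0, 0), (6, 0, 0), (5, 0, 0), (2, 0, 0), (3, 0, 0), (7, 0, 0), (1, 0, 0), (1, 0, 0), (1, 0, 0), (2, 0, 0), (6, 0, 0), (0, 0, 0), (1, 0, 0), (2, 0, 0), (6, 0, 0), (6, 0, 0), (7, 0, 0), (10, 0, 0), (1, 0, 0), (4, 0, 0), (5, 0, 0), (5, 0, 0), (9, 0, 0), (10, 0, 0), (0, 0, 0), (5, 0, 0), (9, 0, 0), (10, 0, 0), (10, 0, 0), (10, 0, 0), (4, 0, 0), (8, 0, 0), (9, 0, 0), (6, 0, 0), (5, 0, 0), (5, 0, 0), (10, 0, 0), (3, 0, 0), (4, 0, 0), (2, 0, 0), (1, 0, 0), (1, 0, 0), (6, 0, 0), (10, 0, 0), (0, 0, 0), (7, 0, 0), (7, 0, 0), (1, 0, 0), (5, 0, 0), (6, 0, 0), (6, 0, 0), (0, 0, 0), (4, 0, 0), (5, 0, 0), (0, 0,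 0), (4, 0, 0), (5, 0, 0), (9, 0, 0), (10, 0, 0), (3, 0, 0), (8, 0, 0), (3, 0, 0), (2, 0, 0), (2, 0, 0), (7, 0, 0), (0, 0, 0), (1, 0, 0), (4, 0, 0), (4, 0, 0), (9, 0, 0), (2, 0, 0), (3, 0, 0), (3, 0, 0), (8, 0, 0), (1, 0, 0), (2, 0, 0), (8, 0, 0), (1, 0, 0), (2, 0, 0), (6, 0, 0), (7, 0, 0), (0, 0, 0), (9, 0, 0), (3, 0, 0), (7, 0, 0), (8, 0, 0), (3, 0, 0), (7, 0, 0), (8, 0, 0), (1, 0, 0), (2, 0, 0), (6, 0, 0), (2, 0, 0), (6, 0, 0), (7, 0, 0), (0, 0, 0), (1, 0, 0), (5, 0, 0), (0, 0, 0), (1, 0, 0), (5, 0, 0), (10, 0, 0), (4, 0, 0), (8, 0, 0), (9, 0, 0), (2, 0, 0), (3, 0, 0), (7, 0, 0), (2, 0, 0), (3, 0, 0), (7, 0, 0), (1, 0, 0), (1, 0, 0), (2, 0, 0), (6, 0, 0), (0, 0, 0), (0, 0, 0), (7, 0, 0), (8, 0, 0), (1, 0, 0), (6, 0, 0), (6, 0,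 0), (5, 0, 0), (7, 0, 0), (4, 0, 0), (5, 0, 0), (9, 0, 0), (3, 0, 0), (3, 0, 0), (2, 0, 0), (8, 0, 0), (4, 0, 0), (10, 0, 0), (9, 0, 0), (9, 0, 0), (3, 0, 0), (7, 0, 0), (8, 0, 0)], []],
  [[(0, 3, 0), (0, 4, 0), (0, 8, 0), (0, 2, 0), (1, 2, 0), (8, 1, 0), (7, 9, 0), (3, 8, 0), (2, 5, 0), (9, 4, 0), (10, 4, 0), (10, 9, 0), (10, 2, 0), (10, 3, 0), (4, 0, 0), (10, 7, 0), (6, 6, 0), (7, 6, 0), (7, 0, 0), (7, 4, 0), (7, 5, 0), (5, 3, 0), (6, 3, 0), (6, 8, 0), (6, 1, 0), (6, 2, 0), (2, 2, 0), (2, 7, 0), (2, 0, 0), (2, 1, 0), (3, 7, 0), (3, 0, 0), (3, 1, 0), (3, 5, 0), (3, 6, 0), (3, 10, 0), (8, 9, 0), (8, 3, 0), (8, 7, 0), (8, 8, 0), (9, 3, 0), (9, 7, 0), (9, 8, 0), (9, 1, 0), (9, 2, 0), (9, 6, 0), (5, 2, 0), (5, 6, 0), (5, 7, 0), (5,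 0, 0), (5, 1, 0), (5, 5, 0), (6, 0, 0), (6, 1, 0), (6, 5, 0), (6, 10, 0), (4, 10, 0), (4, 3, 0), (4, 4, 0), (4, 8, 0), (4, 9, 0), (4, 2, 0), (5, 8, 0), (5, 9, 0), (5, 2, 0), (5, 7, 0), (1, 7, 0), (1, 8, 0), (1, 1, 0), (1, 6, 0), (2, 6, 0), (7, 3, 0), (7, 4, 0), (7, 8, 0), (7, 2, 0), (8, 2, 0), (4, 1, 0), (3, 9, 0), (1, 1, 0), (1, 5, 0), (1, 6, 0), (1, 10, 0), (1, 0, 0), (1, 4, 0), (2, 10, 0), (2, 0, 0), (2, 4, 0), (2, 9, 0), (9, 9, 0), (9, 10, 0), (9, 3, 0), (9, 8, 0), (10, 8, 0), (8, 6, 0), (8, 7, 0), (8, 0, 0), (8, 5, 0), (9, 5, 0), (5, 4, 0), (4, 5, 0), (4, 6, 0), (4, 10, 0), (4, 4, 0), (5, 4, 0), (1, 3, 0), (3, 2, 0), (3, 3, 0), (3, 7, 0), (3, 1, 0), (4, 1, 0), (10, 1, 0), (10, 2, 0), (10, 6, 0), (10, 0, 0), (0, 1, 0), (0,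 2, 0), (0, 6, 0), (0, 6, 0), (0, 7, 0), (0, 10, 0), (0, 1, 0), (0, 4, 0), (0, 5, 0), (0, 5, 0), (0, 9, 0), (0, 10, 0), (1, 0, 0), (1, 5, 0), (1, 9, 0), (1, 10, 0), (7, 10, 0), (8, 10, 0), (8, 4, 0), (8, 8, 0), (8, 9, 0), (10, 8, 0), (6, 7, 0), (7, 7, 0), (7, 1, 0), (7, 5, 0), (7, 6, 0), (6, 7, 0), (2, 6, 0), (3, 6, 0), (3, 0, 0), (3, 4, 0), (3, 5, 0), (1, 3, 0), (2, 3, 0), (2, 8, 0), (2, 1, 0), (2, 2, 0), (9, 2, 0), (9, 7, 0), (9, 0, 0), (9, 1, 0), (10, 7, 0), (10, 0, 0), (10, 1, 0), (10, 5, 0), (10, 6, 0), (10, 10, 0), (8, 2, 0), (7, 10, 0), (3, 9, 0), (4, 9, 0), (4, 3, 0), (4, 7, 0), (4, 8, 0), (9, 5, 0), (10, 5, 0), (10, 10, 0), (10, 3, 0), (10, 4, 0), (6, 4, 0), (6, 9, 0), (6, 2, 0), (6, 3, 0), (7, 9, 0), (7, 2, 0), (7, 3,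 0), (7, 7, 0), (7, 8, 0), (7, 1, 0), (5, 1, 0), (5, 6, 0), (5, 10, 0), (5, 0, 0), (6, 6, 0), (6, 10, 0), (6, 0, 0), (6, 4, 0), (6, 5, 0), (6, 9, 0), (2, 5, 0), (2, 9, 0), (2, 10, 0), (2, 3, 0), (2, 4, 0), (2, 8, 0), (3, 3, 0), (3, 4, 0), (3, 8, 0), (3, 2, 0), (8, 1, 0), (8, 5, 0), (8, 6, 0), (8, 10, 0), (8, 0, 0), (8, 4, 0), (9, 10, 0), (9, 0, 0), (9, 4, 0), (9, 9, 0), (5, 9, 0), (5, 10, 0), (5, 3, 0), (5, 8, 0), (6, 8, 0), (4, 6, 0), (4, 7, 0), (4, 0, 0), (4, 5, 0), (5, 5, 0), (1, 4, 0), (7, 0, 0), (1, 8, 0), (1, 9, 0), (1, 2, 0), (1, 7, 0), (2, 7, 0), (9, 6, 0), (8, 3, 0), (4, 2, 0), (3, 10, 0), (10, 9, 0), (0, 9, 0), (0, 3, 0), (0, 7, 0), (0, 8, 0)], [(3, 0, 0), (4, 0, 0), (8, 0, 0), (2, 0, 0), (2, 0, 0), (1, 0, 0), (9, 0, 0),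 (8, 0, 0), (5, 0, 0), (4, 0, 0), (4, 0, 0), (9, 0, 0), (2, 0, 0), (3, 0, 0), (0, 0, 0), (7, 0, 0), (6, 0, 0), (6, 0, 0), (0, 0, 0), (4, 0, 0), (5, 0, 0), (3, 0, 0), (3, 0, 0), (8, 0, 0), (1, 0, 0), (2, 0, 0), (2, 0, 0), (7, 0, 0), (0, 0, 0), (1, 0, 0), (7, 0, 0), (0, 0, 0), (1, 0, 0), (5, 0, 0), (6, 0, 0), (10, 0, 0), (9, 0, 0), (3, 0, 0), (7, 0, 0), (8, 0, 0), (3, 0, 0), (7, 0, 0), (8, 0, 0), (1, 0, 0), (2, 0, 0), (6, 0, 0), (2, 0, 0), (6, 0, 0), (7, 0, 0), (0, 0, 0), (1, 0, 0), (5, 0, 0), (0, 0, 0), (1, 0, 0), (5, 0, 0), (10, 0, 0), (10, 0, 0), (3, 0, 0), (4, 0, 0), (8, 0, 0), (9, 0, 0), (2, 0, 0), (8, 0, 0), (9, 0, 0), (2, 0, 0), (7, 0, 0), (7, 0, 0), (8, 0, 0), (1, 0, 0), (6, 0, 0), (6, 0, 0), (3, 0, 0), (4, 0, 0), (8, 0, 0),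 (2, 0, 0), (2, 0, 0), (1, 0, 0), (9, 0, 0), (1, 0, 0), (5, 0, 0), (6, 0, 0), (10, 0, 0), (0, 0, 0), (4, 0, 0), (10, 0, 0), (0, 0, 0), (4, 0, 0), (9, 0, 0), (9, 0, 0), (10, 0, 0), (3, 0, 0), (8, 0, 0), (8, 0, 0), (6, 0, 0), (7, 0, 0), (0, 0, 0), (5, 0, 0), (5, 0, 0), (4, 0, 0), (5, 0, 0), (6, 0, 0), (10, 0, 0), (4, 0, 0), (4, 0, 0), (3, 0, 0), (2, 0, 0), (3, 0, 0), (7, 0, 0), (1, 0, 0), (1, 0, 0), (1, 0, 0), (2, 0, 0), (6, 0, 0), (0, 0, 0), (1, 0, 0), (2, 0, 0), (6, 0, 0), (6, 0, 0), (7, 0, 0), (10, 0, 0), (1, 0, 0), (4, 0, 0), (5, 0, 0), (5, 0, 0), (9, 0, 0), (10, 0, 0), (0, 0, 0), (5, 0, 0), (9, 0, 0), (10, 0, 0), (10, 0, 0), (10, 0, 0), (4, 0, 0), (8, 0, 0), (9, 0, 0), (8, 0, 0), (7, 0, 0), (7, 0, 0), (1, 0, 0), (5, 0, 0), (6,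 0, 0), (7, 0, 0), (6, 0, 0), (6, 0, 0), (0, 0, 0), (4, 0, 0), (5, 0, 0), (3, 0, 0), (3, 0, 0), (8, 0, 0), (1, 0, 0), (2, 0, 0), (2, 0, 0), (7, 0, 0), (0, 0, 0), (1, 0, 0), (7, 0, 0), (0, 0, 0), (1, 0, 0), (5, 0, 0), (6, 0, 0), (10, 0, 0), (2, 0, 0), (10, 0, 0), (9, 0, 0), (9, 0, 0), (3, 0, 0), (7, 0, 0), (8, 0, 0), (5, 0, 0), (5, 0, 0), (10, 0, 0), (3, 0, 0), (4, 0, 0), (4, 0, 0), (9, 0, 0), (2, 0, 0), (3, 0, 0), (9, 0, 0), (2, 0, 0), (3, 0, 0), (7, 0, 0), (8, 0, 0), (1, 0, 0), (1, 0, 0), (6, 0, 0), (10, 0, 0), (0, 0, 0), (6, 0, 0), (10, 0, 0), (0, 0, 0), (4, 0, 0), (5, 0, 0), (9, 0, 0), (5, 0, 0), (9, 0, 0), (10, 0, 0), (3, 0, 0), (4, 0, 0), (8, 0, 0), (3, 0, 0), (4, 0, 0), (8, 0, 0), (2, 0, 0), (1, 0, 0), (5, 0, 0), (6, 0, 0),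 (10, 0, 0), (0, 0, 0), (4, 0, 0), (10, 0, 0), (0, 0, 0), (4, 0, 0), (9, 0, 0), (9, 0, 0), (10, 0, 0), (3, 0, 0), (8, 0, 0), (8, 0, 0), (6, 0, 0), (7, 0, 0), (0, 0, 0), (5, 0, 0), (5, 0, 0), (4, 0, 0), (0, 0, 0), (8, 0, 0), (9, 0, 0), (2, 0, 0), (7, 0, 0), (7, 0, 0), (6, 0, 0), (3, 0, 0), (2, 0, 0), (10, 0, 0), (9, 0, 0), (9, 0, 0), (3, 0, 0), (7, 0, 0), (8, 0, 0)], []],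
  [[(5, 0, 0), (6, 0, 0), (4, 0, 0), (8, 0, 0), (9, 0, 0), (9, 0, 0), (9, 0, 0), (9, 0, 0), (9, 0, 0), (9, 0, 0), (10, 0, 0), (3, 0, 0), (1, 0, 0), (2, 0, 0), (9, 0, 0), (9, 0, 0), (9, 0, 0), (10, 0, 0), (3, 0, 0), (1, 0, 0), (2, 0, 0), (9, 0, 0), (10, 0, 0), (3, 0, 0), (1, 0, 0), (2, 0, 0), (10, 0, 0), (3, 0, 0), (1, 0, 0), (2, 0, 0), (4, 0, 0), (2, 0, 0), (3, 0, 0), (6, 0, 0), (7, 0, 0), (5, 0, 0), (10, 0, 0), (3, 0, 0), (1, 0, 0), (2, 0, 0), (4, 0, 0), (2, 0, 0), (3, 0, 0), (6, 0, 0), (7, 0, 0), (5, 0, 0), (4, 0, 0), (2, 0, 0), (3, 0, 0), (6, 0, 0), (7, 0, 0), (5, 0, 0), (7, 0, 0), (8, 0, 0), (6, 0, 0), (10, 0, 0), (4, 0, 0), (2, 0, 0), (3, 0, 0), (6, 0, 0), (7, 0, 0), (5, 0, 0), (7, 0, 0), (8, 0, 0), (6, 0, 0), (10, 0, 0),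 (7, 0, 0), (8, 0, 0), (6, 0, 0), (10, 0, 0), (0, 0, 0), (7, 0, 0), (8, 0, 0), (6, 0, 0), (10, 0, 0), (0, 0, 0), (0, 0, 0), (0, 0, 0), (4, 0, 0), (2, 0, 0), (3, 0, 0), (6, 0, 0), (7, 0, 0), (5, 0, 0), (7, 0, 0), (8, 0, 0), (6, 0, 0), (10, 0, 0), (7, 0, 0), (8, 0, 0), (6, 0, 0), (10, 0, 0), (0, 0, 0), (7, 0, 0), (8, 0, 0), (6, 0, 0), (10, 0, 0), (0, 0, 0), (0, 0, 0), (7, 0, 0), (8, 0, 0), (6, 0, 0), (10, 0, 0), (0, 0, 0), (0, 0, 0), (7, 0, 0), (8, 0, 0), (6, 0, 0), (10, 0, 0), (0, 0, 0), (7, 0, 0), (8, 0, 0), (6, 0, 0), (10, 0, 0), (8, 0, 0), (9, 0, 0), (7, 0, 0), (1, 0, 0), (2, 0, 0), (10, 0, 0), (1, 0, 0), (9, 0, 0), (10, 0, 0), (4, 0, 0), (2, 0, 0), (3, 0, 0), (1, 0, 0), (5, 0, 0), (3, 0, 0), (4, 0, 0), (0, 0, 0), (1, 0, 0), (5,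 0, 0), (3, 0, 0), (4, 0, 0), (0, 0, 0), (0, 0, 0), (1, 0, 0), (5, 0, 0), (3, 0, 0), (4, 0, 0), (0, 0, 0), (0, 0, 0), (1, 0, 0), (5, 0, 0), (3, 0, 0), (4, 0, 0), (0, 0, 0), (1, 0, 0), (5, 0, 0), (3, 0, 0), (4, 0, 0), (1, 0, 0), (5, 0, 0), (3, 0, 0), (4, 0, 0), (6, 0, 0), (4, 0, 0), (5, 0, 0), (8, 0, 0), (9, 0, 0), (7, 0, 0), (0, 0, 0), (0, 0, 0), (0, 0, 0), (1, 0, 0), (5, 0, 0), (3, 0, 0), (4, 0, 0), (0, 0, 0), (1, 0, 0), (5, 0, 0), (3, 0, 0), (4, 0, 0), (1, 0, 0), (5, 0, 0), (3, 0, 0), (4, 0, 0), (6, 0, 0), (4, 0, 0), (5, 0, 0), (8, 0, 0), (9, 0, 0), (7, 0, 0), (1, 0, 0), (5, 0, 0), (3, 0, 0), (4, 0, 0), (6, 0, 0), (4, 0, 0), (5, 0, 0), (8, 0, 0), (9, 0, 0), (7, 0, 0), (6, 0, 0), (4, 0, 0), (5, 0, 0), (8, 0, 0), (9, 0, 0), (7,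 0, 0), (9, 0, 0), (10, 0, 0), (8, 0, 0), (1, 0, 0), (6, 0, 0), (4, 0, 0), (5, 0, 0), (8, 0, 0), (9, 0, 0), (7, 0, 0), (9, 0, 0), (10, 0, 0), (8, 0, 0), (1, 0, 0), (9, 0, 0), (10, 0, 0), (8, 0, 0), (1, 0, 0), (2, 0, 0), (9, 0, 0), (10, 0, 0), (8, 0, 0), (1, 0, 0), (2, 0, 0), (2, 0, 0), (2, 0, 0), (9, 0, 0), (10, 0, 0), (8, 0, 0), (1, 0, 0), (2, 0, 0), (2, 0, 0), (2, 0, 0), (2, 0, 0), (2, 0, 0), (2, 0, 0), (3, 0, 0), (7, 0, 0), (5, 0, 0), (6, 0, 0)], [], []],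
  [[(0, 5, 0), (0, 6, 0), (0, 4, 0), (0, 8, 0), (1, 8, 0), (10, 10, 0), (2, 7, 0), (4, 5, 0), (7, 2, 0), (5, 4, 0), (6, 4, 0), (6, 8, 0), (6, 6, 0), (6, 7, 0), (3, 6, 0), (8, 1, 0), (6, 3, 0), (7, 3, 0), (7, 7, 0), (7, 5, 0), (7, 6, 0), (9, 0, 0), (10, 0, 0), (10, 4, 0), (10, 2, 0), (10, 3, 0), (8, 2, 0), (8, 6, 0), (8, 4, 0), (8, 5, 0), (9, 6, 0), (9, 4, 0), (9, 5, 0), (9, 8, 0), (9, 9, 0), (9, 7, 0), (2, 8, 0), (2, 1, 0), (2, 10, 0), (2, 0, 0), (3, 1, 0), (3, 10, 0), (3, 0, 0), (3, 3, 0), (3, 4, 0), (3, 2, 0), (1, 3, 0), (1, 1, 0), (1, 2, 0), (1, 5, 0), (1, 6, 0), (1, 4, 0), (2, 5, 0), (2, 6, 0), (2, 4, 0), (2, 8, 0), (4, 0, 0), (4, 9, 0), (4, 10, 0), (4, 2, 0), (4, 3, 0), (4, 1, 0), (5, 2, 0), (5, 3, 0), (5, 1, 0), (5, 5, 0),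 (3, 4, 0), (3, 5, 0), (3, 3, 0), (3, 7, 0), (4, 7, 0), (8, 10, 0), (8, 0, 0), (8, 9, 0), (8, 2, 0), (9, 2, 0), (7, 4, 0), (10, 1, 0), (5, 10, 0), (5, 8, 0), (5, 9, 0), (5, 1, 0), (5, 2, 0), (5, 0, 0), (6, 1, 0), (6, 2, 0), (6, 0, 0), (6, 4, 0), (4, 3, 0), (4, 4, 0), (4, 2, 0), (4, 6, 0), (5, 6, 0), (7, 0, 0), (7, 1, 0), (7, 10, 0), (7, 3, 0), (8, 3, 0), (6, 5, 0), (9, 9, 0), (9, 10, 0), (9, 8, 0), (9, 1, 0), (10, 1, 0), (8, 3, 0), (1, 6, 0), (1, 7, 0), (1, 5, 0), (1, 9, 0), (2, 9, 0), (10, 8, 0), (10, 9, 0), (10, 7, 0), (10, 0, 0), (0, 8, 0), (0, 9, 0), (0, 7, 0), (0, 1, 0), (0, 2, 0), (0, 10, 0), (0, 1, 0), (0, 9, 0), (0, 10, 0), (0, 4, 0), (0, 2, 0), (0, 3, 0), (1, 0, 0), (1, 4, 0), (1, 2, 0), (1, 3, 0), (9, 2, 0), (10, 2, 0),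 (10, 6, 0), (10, 4, 0), (10, 5, 0), (3, 8, 0), (1, 10, 0), (2, 10, 0), (2, 3, 0), (2, 1, 0), (2, 2, 0), (5, 6, 0), (3, 8, 0), (4, 8, 0), (4, 1, 0), (4, 10, 0), (4, 0, 0), (6, 5, 0), (7, 5, 0), (7, 9, 0), (7, 7, 0), (7, 8, 0), (5, 7, 0), (5, 0, 0), (5, 9, 0), (5, 10, 0), (6, 0, 0), (6, 9, 0), (6, 10, 0), (6, 2, 0), (6, 3, 0), (6, 1, 0), (1, 10, 0), (4, 7, 0), (2, 9, 0), (3, 9, 0), (3, 2, 0), (3, 0, 0), (3, 1, 0), (7, 4, 0), (8, 4, 0), (8, 8, 0), (8, 6, 0), (8, 7, 0), (6, 6, 0), (6, 10, 0), (6, 8, 0), (6, 9, 0), (7, 10, 0), (7, 8, 0), (7, 9, 0), (7, 1, 0), (7, 2, 0), (7, 0, 0), (9, 3, 0), (9, 7, 0), (9, 5, 0), (9, 6, 0), (10, 7, 0), (10, 5, 0), (10, 6, 0), (10, 9, 0), (10, 10, 0), (10, 8, 0), (8, 9, 0), (8, 7, 0), (8, 8, 0), (8,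 0, 0), (8, 1, 0), (8, 10, 0), (9, 0, 0), (9, 1, 0), (9, 10, 0), (9, 3, 0), (2, 4, 0), (2, 2, 0), (2, 3, 0), (2, 6, 0), (2, 7, 0), (2, 5, 0), (3, 6, 0), (3, 7, 0), (3, 5, 0), (3, 9, 0), (1, 8, 0), (1, 9, 0), (1, 7, 0), (1, 0, 0), (2, 0, 0), (4, 5, 0), (4, 6, 0), (4, 4, 0), (4, 8, 0), (5, 8, 0), (3, 10, 0), (8, 5, 0), (5, 4, 0), (5, 5, 0), (5, 3, 0), (5, 7, 0), (6, 7, 0), (4, 9, 0), (7, 6, 0), (9, 4, 0), (1, 1, 0), (10, 3, 0), (0, 3, 0), (0, 7, 0), (0, 5, 0), (0, 6, 0)], [(5, 0, 0), (6, 0, 0), (4, 0, 0), (8, 0, 0), (8, 0, 0), (10, 0, 0), (7, 0, 0), (5, 0, 0), (2, 0, 0), (4, 0, 0), (4, 0, 0), (8, 0, 0), (6, 0, 0), (7, 0, 0), (6, 0, 0), (1, 0, 0), (3, 0, 0), (3, 0, 0), (7, 0, 0), (5, 0, 0), (6, 0, 0), (0, 0, 0), (0, 0, 0), (4, 0, 0),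 (2, 0, 0), (3, 0, 0), (2, 0, 0), (6, 0, 0), (4, 0, 0), (5, 0, 0), (6, 0, 0), (4, 0, 0), (5, 0, 0), (8, 0, 0), (9, 0, 0), (7, 0, 0), (8, 0, 0), (1, 0, 0), (10, 0, 0), (0, 0, 0), (1, 0, 0), (10, 0, 0), (0, 0, 0), (3, 0, 0), (4, 0, 0), (2, 0, 0), (3, 0, 0), (1, 0, 0), (2, 0, 0), (5, 0, 0), (6, 0, 0), (4, 0, 0), (5, 0, 0), (6, 0, 0), (4, 0, 0), (8, 0, 0), (0, 0, 0), (9, 0, 0), (10, 0, 0), (2, 0, 0), (3, 0, 0), (1, 0, 0), (2, 0, 0), (3, 0, 0), (1, 0, 0), (5, 0, 0), (4, 0, 0), (5, 0, 0), (3, 0, 0), (7, 0, 0), (7, 0, 0), (10, 0, 0), (0, 0, 0), (9, 0, 0), (2, 0, 0), (2, 0, 0), (4, 0, 0), (1, 0, 0), (10, 0, 0), (8, 0, 0), (9, 0, 0), (1, 0, 0), (2, 0, 0), (0, 0, 0), (1, 0, 0), (2, 0, 0), (0, 0, 0), (4, 0, 0), (3, 0, 0), (4, 0, 0), (2, 0,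 0), (6, 0, 0), (6, 0, 0), (0, 0, 0), (1, 0, 0), (10, 0, 0), (3, 0, 0), (3, 0, 0), (5, 0, 0), (9, 0, 0), (10, 0, 0), (8, 0, 0), (1, 0, 0), (1, 0, 0), (3, 0, 0), (6, 0, 0), (7, 0, 0), (5, 0, 0), (9, 0, 0), (9, 0, 0), (8, 0, 0), (9, 0, 0), (7, 0, 0), (0, 0, 0), (8, 0, 0), (9, 0, 0), (7, 0, 0), (1, 0, 0), (2, 0, 0), (10, 0, 0), (1, 0, 0), (9, 0, 0), (10, 0, 0), (4, 0, 0), (2, 0, 0), (3, 0, 0), (0, 0, 0), (4, 0, 0), (2, 0, 0), (3, 0, 0), (2, 0, 0), (2, 0, 0), (6, 0, 0), (4, 0, 0), (5, 0, 0), (8, 0, 0), (10, 0, 0), (10, 0, 0), (3, 0, 0), (1, 0, 0), (2, 0, 0), (6, 0, 0), (8, 0, 0), (8, 0, 0), (1, 0, 0), (10, 0, 0), (0, 0, 0), (5, 0, 0), (5, 0, 0), (9, 0, 0), (7, 0, 0), (8, 0, 0), (7, 0, 0), (0, 0, 0), (9, 0, 0), (10, 0, 0), (0, 0, 0),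 (9, 0, 0), (10, 0, 0), (2, 0, 0), (3, 0, 0), (1, 0, 0), (10, 0, 0), (7, 0, 0), (9, 0, 0), (9, 0, 0), (2, 0, 0), (0, 0, 0), (1, 0, 0), (4, 0, 0), (4, 0, 0), (8, 0, 0), (6, 0, 0), (7, 0, 0), (6, 0, 0), (10, 0, 0), (8, 0, 0), (9, 0, 0), (10, 0, 0), (8, 0, 0), (9, 0, 0), (1, 0, 0), (2, 0, 0), (0, 0, 0), (3, 0, 0), (7, 0, 0), (5, 0, 0), (6, 0, 0), (7, 0, 0), (5, 0, 0), (6, 0, 0), (9, 0, 0), (10, 0, 0), (8, 0, 0), (9, 0, 0), (7, 0, 0), (8, 0, 0), (0, 0, 0), (1, 0, 0), (10, 0, 0), (0, 0, 0), (1, 0, 0), (10, 0, 0), (3, 0, 0), (4, 0, 0), (2, 0, 0), (3, 0, 0), (6, 0, 0), (7, 0, 0), (5, 0, 0), (6, 0, 0), (7, 0, 0), (5, 0, 0), (9, 0, 0), (8, 0, 0), (9, 0, 0), (7, 0, 0), (0, 0, 0), (0, 0, 0), (5, 0, 0), (6, 0, 0), (4, 0, 0), (8, 0, 0), (8,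 0, 0), (10, 0, 0), (5, 0, 0), (4, 0, 0), (5, 0, 0), (3, 0, 0), (7, 0, 0), (7, 0, 0), (9, 0, 0), (6, 0, 0), (4, 0, 0), (1, 0, 0), (3, 0, 0), (3, 0, 0), (7, 0, 0), (5, 0, 0), (6, 0, 0)], []],
  [[(0, 5, 0), (0, 6, 0), (0, 4, 0), (0, 8, 0), (1, 8, 0), (6, 3, 0), (7, 2, 0), (9, 0, 0), (10, 10, 0), (4, 5, 0), (5, 5, 0), (5, 9, 0), (5, 7, 0), (5, 8, 0), (5, 4, 0), (8, 1, 0), (2, 7, 0), (3, 7, 0), (3, 0, 0), (3, 9, 0), (3, 10, 0), (3, 6, 0), (4, 6, 0), (4, 10, 0), (4, 8, 0), (4, 9, 0), (9, 1, 0), (9, 5, 0), (9, 3, 0), (9, 4, 0), (10, 5, 0), (10, 3, 0), (10, 4, 0), (10, 7, 0), (10, 8, 0), (10, 6, 0), (1, 9, 0), (1, 2, 0), (1, 0, 0), (1, 1, 0), (2, 2, 0), (2, 0, 0), (2, 1, 0), (2, 4, 0), (2, 5, 0), (2, 3, 0), (7, 8, 0), (7, 6, 0), (7, 7,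 0), (7, 10, 0), (7, 0, 0), (7, 9, 0), (8, 10, 0), (8, 0, 0), (8, 9, 0), (8, 2, 0), (8, 7, 0), (8, 5, 0), (8, 6, 0), (8, 9, 0), (8, 10, 0), (8, 8, 0), (9, 9, 0), (9, 10, 0), (9, 8, 0), (9, 1, 0), (3, 4, 0), (3, 5, 0), (3, 3, 0), (3, 7, 0), (4, 7, 0), (6, 1, 0), (6, 2, 0), (6, 0, 0), (6, 4, 0), (7, 4, 0), (1, 10, 0), (2, 9, 0), (6, 9, 0), (6, 7, 0), (6, 8, 0), (6, 0, 0), (6, 1, 0), (6, 10, 0), (7, 0, 0), (7, 1, 0), (7, 10, 0), (7, 3, 0), (1, 6, 0), (1, 7, 0), (1, 5, 0), (1, 9, 0), (2, 9, 0), (2, 5, 0), (2, 6, 0), (2, 4, 0), (2, 8, 0), (3, 8, 0), (8, 3, 0), (4, 3, 0), (4, 4, 0), (4, 2, 0), (4, 6, 0), (5, 6, 0), (10, 1, 0), (5, 2, 0), (5, 3, 0), (5, 1, 0), (5, 5, 0), (6, 5, 0), (10, 8, 0), (10, 9, 0), (10, 7, 0), (10, 0, 0), (0, 8,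 0), (0, 9, 0), (0, 7, 0), (0, 1, 0), (0, 2, 0), (0, 10, 0), (0, 1, 0), (0, 9, 0), (0, 10, 0), (0, 4, 0), (0, 2, 0), (0, 3, 0), (1, 0, 0), (1, 4, 0), (1, 2, 0), (1, 3, 0), (5, 6, 0), (6, 6, 0), (6, 10, 0), (6, 8, 0), (6, 9, 0), (1, 10, 0), (6, 5, 0), (7, 5, 0), (7, 9, 0), (7, 7, 0), (7, 8, 0), (3, 8, 0), (8, 3, 0), (9, 3, 0), (9, 7, 0), (9, 5, 0), (9, 6, 0), (9, 2, 0), (10, 2, 0), (10, 6, 0), (10, 4, 0), (10, 5, 0), (4, 8, 0), (4, 1, 0), (4, 10, 0), (4, 0, 0), (5, 1, 0), (5, 10, 0), (5, 0, 0), (5, 3, 0), (5, 4, 0), (5, 2, 0), (9, 2, 0), (10, 1, 0), (4, 7, 0), (5, 7, 0), (5, 0, 0), (5, 9, 0), (5, 10, 0), (7, 4, 0), (8, 4, 0), (8, 8, 0), (8, 6, 0), (8, 7, 0), (2, 10, 0), (2, 3, 0), (2, 1, 0), (2, 2, 0), (3, 3, 0), (3, 1, 0), (3, 2,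 0), (3, 5, 0), (3, 6, 0), (3, 4, 0), (3, 9, 0), (3, 2, 0), (3, 0, 0), (3, 1, 0), (4, 2, 0), (4, 0, 0), (4, 1, 0), (4, 4, 0), (4, 5, 0), (4, 3, 0), (9, 8, 0), (9, 6, 0), (9, 7, 0), (9, 10, 0), (9, 0, 0), (9, 9, 0), (10, 10, 0), (10, 0, 0), (10, 9, 0), (10, 2, 0), (1, 5, 0), (1, 3, 0), (1, 4, 0), (1, 7, 0), (1, 8, 0), (1, 6, 0), (2, 7, 0), (2, 8, 0), (2, 6, 0), (2, 10, 0), (7, 2, 0), (7, 3, 0), (7, 1, 0), (7, 5, 0), (8, 5, 0), (8, 1, 0), (8, 2, 0), (8, 0, 0), (8, 4, 0), (9, 4, 0), (3, 10, 0), (6, 7, 0), (6, 3, 0), (6, 4, 0), (6, 2, 0), (6, 6, 0), (7, 6, 0), (1, 1, 0), (2, 0, 0), (4, 9, 0), (5, 8, 0), (10, 3, 0), (0, 3, 0), (0, 7, 0), (0, 5, 0), (0, 6, 0)], [(5, 0, 0), (6, 0, 0), (4, 0, 0), (8, 0, 0), (8, 0, 0), (3, 0, 0), (2, 0,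 0), (0, 0, 0), (10, 0, 0), (5, 0, 0), (5, 0, 0), (9, 0, 0), (7, 0, 0), (8, 0, 0), (4, 0, 0), (1, 0, 0), (7, 0, 0), (7, 0, 0), (0, 0, 0), (9, 0, 0), (10, 0, 0), (6, 0, 0), (6, 0, 0), (10, 0, 0), (8, 0, 0), (9, 0, 0), (1, 0, 0), (5, 0, 0), (3, 0, 0), (4, 0, 0), (5, 0, 0), (3, 0, 0), (4, 0, 0), (7, 0, 0), (8, 0, 0), (6, 0, 0), (9, 0, 0), (2, 0, 0), (0, 0, 0), (1, 0, 0), (2, 0, 0), (0, 0, 0), (1, 0, 0), (4, 0, 0), (5, 0, 0), (3, 0, 0), (8, 0, 0), (6, 0, 0), (7, 0, 0), (10, 0, 0), (0, 0, 0), (9, 0, 0), (10, 0, 0), (0, 0, 0), (9, 0, 0), (2, 0, 0), (7, 0, 0), (5, 0, 0), (6, 0, 0), (9, 0, 0), (10, 0, 0), (8, 0, 0), (9, 0, 0), (10, 0, 0), (8, 0, 0), (1, 0, 0), (4, 0, 0), (5, 0, 0), (3, 0, 0), (7, 0, 0), (7, 0, 0), (1, 0, 0), (2, 0, 0),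 (0, 0, 0), (4, 0, 0), (4, 0, 0), (10, 0, 0), (9, 0, 0), (9, 0, 0), (7, 0, 0), (8, 0, 0), (0, 0, 0), (1, 0, 0), (10, 0, 0), (0, 0, 0), (1, 0, 0), (10, 0, 0), (3, 0, 0), (6, 0, 0), (7, 0, 0), (5, 0, 0), (9, 0, 0), (9, 0, 0), (5, 0, 0), (6, 0, 0), (4, 0, 0), (8, 0, 0), (8, 0, 0), (3, 0, 0), (3, 0, 0), (4, 0, 0), (2, 0, 0), (6, 0, 0), (6, 0, 0), (1, 0, 0), (2, 0, 0), (3, 0, 0), (1, 0, 0), (5, 0, 0), (5, 0, 0), (8, 0, 0), (9, 0, 0), (7, 0, 0), (0, 0, 0), (8, 0, 0), (9, 0, 0), (7, 0, 0), (1, 0, 0), (2, 0, 0), (10, 0, 0), (1, 0, 0), (9, 0, 0), (10, 0, 0), (4, 0, 0), (2, 0, 0), (3, 0, 0), (0, 0, 0), (4, 0, 0), (2, 0, 0), (3, 0, 0), (6, 0, 0), (6, 0, 0), (10, 0, 0), (8, 0, 0), (9, 0, 0), (10, 0, 0), (5, 0, 0), (5, 0, 0), (9, 0, 0), (7,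 0, 0), (8, 0, 0), (8, 0, 0), (3, 0, 0), (3, 0, 0), (7, 0, 0), (5, 0, 0), (6, 0, 0), (2, 0, 0), (2, 0, 0), (6, 0, 0), (4, 0, 0), (5, 0, 0), (8, 0, 0), (1, 0, 0), (10, 0, 0), (0, 0, 0), (1, 0, 0), (10, 0, 0), (0, 0, 0), (3, 0, 0), (4, 0, 0), (2, 0, 0), (2, 0, 0), (1, 0, 0), (7, 0, 0), (7, 0, 0), (0, 0, 0), (9, 0, 0), (10, 0, 0), (4, 0, 0), (4, 0, 0), (8, 0, 0), (6, 0, 0), (7, 0, 0), (10, 0, 0), (3, 0, 0), (1, 0, 0), (2, 0, 0), (3, 0, 0), (1, 0, 0), (2, 0, 0), (5, 0, 0), (6, 0, 0), (4, 0, 0), (9, 0, 0), (2, 0, 0), (0, 0, 0), (1, 0, 0), (2, 0, 0), (0, 0, 0), (1, 0, 0), (4, 0, 0), (5, 0, 0), (3, 0, 0), (8, 0, 0), (6, 0, 0), (7, 0, 0), (10, 0, 0), (0, 0, 0), (9, 0, 0), (10, 0, 0), (0, 0, 0), (9, 0, 0), (2, 0, 0), (5, 0, 0), (3, 0, 0),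 (4, 0, 0), (7, 0, 0), (8, 0, 0), (6, 0, 0), (7, 0, 0), (8, 0, 0), (6, 0, 0), (10, 0, 0), (2, 0, 0), (3, 0, 0), (1, 0, 0), (5, 0, 0), (5, 0, 0), (1, 0, 0), (2, 0, 0), (0, 0, 0), (4, 0, 0), (4, 0, 0), (10, 0, 0), (7, 0, 0), (3, 0, 0), (4, 0, 0), (2, 0, 0), (6, 0, 0), (6, 0, 0), (1, 0, 0), (0, 0, 0), (9, 0, 0), (8, 0, 0), (3, 0, 0), (3, 0, 0), (7, 0, 0), (5, 0, 0), (6, 0, 0)], []],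
  [[(0, 5, 0), (0, 6, 0), (0, 4, 0), (0, 8, 0), (1, 8, 0), (8, 1, 0), (10, 10, 0), (5, 4, 0), (7, 2, 0), (3, 6, 0), (4, 6, 0), (4, 10, 0), (4, 8, 0), (4, 9, 0), (9, 0, 0), (6, 3, 0), (2, 7, 0), (3, 7, 0), (3, 0, 0), (3, 9, 0), (3, 10, 0), (4, 5, 0), (5, 5, 0), (5, 9, 0), (5, 7, 0), (5, 8, 0), (1, 9, 0), (1, 2, 0), (1, 0, 0), (1, 1, 0), (2, 2, 0), (2, 0, 0), (2, 1, 0), (2, 4, 0), (2, 5, 0), (2, 3, 0), (9, 1, 0), (9, 5, 0), (9, 3, 0), (9, 4, 0), (10, 5, 0), (10, 3, 0), (10, 4, 0), (10, 7, 0), (10, 8, 0), (10, 6, 0), (6, 9, 0), (6, 7, 0), (6, 8, 0), (6, 0, 0), (6, 1, 0), (6, 10, 0), (7, 0, 0), (7, 1, 0), (7, 10, 0), (7, 3, 0), (8, 7, 0), (8, 5, 0), (8, 6, 0), (8, 9, 0), (8, 10, 0), (8, 8, 0), (9, 9, 0), (9, 10, 0), (9, 8, 0), (9,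 1, 0), (5, 2, 0), (5, 3, 0), (5, 1, 0), (5, 5, 0), (6, 5, 0), (2, 5, 0), (2, 6, 0), (2, 4, 0), (2, 8, 0), (3, 8, 0), (10, 1, 0), (1, 10, 0), (7, 8, 0), (7, 6, 0), (7, 7, 0), (7, 10, 0), (7, 0, 0), (7, 9, 0), (8, 10, 0), (8, 0, 0), (8, 9, 0), (8, 2, 0), (4, 3, 0), (4, 4, 0), (4, 2, 0), (4, 6, 0), (5, 6, 0), (6, 1, 0), (6, 2, 0), (6, 0, 0), (6, 4, 0), (7, 4, 0), (3, 8, 0), (1, 6, 0), (1, 7, 0), (1, 5, 0), (1, 9, 0), (2, 9, 0), (9, 2, 0), (3, 4, 0), (3, 5, 0), (3, 3, 0), (3, 7, 0), (4, 7, 0), (10, 8, 0), (10, 9, 0), (10, 7, 0), (10, 0, 0), (0, 8, 0), (0, 9, 0), (0, 7, 0), (0, 1, 0), (0, 2, 0), (0, 10, 0), (0, 1, 0), (0, 9, 0), (0, 10, 0), (0, 4, 0), (0, 2, 0), (0, 3, 0), (1, 0, 0), (1, 4, 0), (1, 2, 0), (1, 3, 0), (7, 4, 0), (8, 4,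 0), (8, 8, 0), (8, 6, 0), (8, 7, 0), (2, 9, 0), (9, 2, 0), (10, 2, 0), (10, 6, 0), (10, 4, 0), (10, 5, 0), (8, 3, 0), (4, 7, 0), (5, 7, 0), (5, 0, 0), (5, 9, 0), (5, 10, 0), (6, 5, 0), (7, 5, 0), (7, 9, 0), (7, 7, 0), (7, 8, 0), (3, 9, 0), (3, 2, 0), (3, 0, 0), (3, 1, 0), (4, 2, 0), (4, 0, 0), (4, 1, 0), (4, 4, 0), (4, 5, 0), (4, 3, 0), (10, 1, 0), (1, 10, 0), (8, 3, 0), (9, 3, 0), (9, 7, 0), (9, 5, 0), (9, 6, 0), (5, 6, 0), (6, 6, 0), (6, 10, 0), (6, 8, 0), (6, 9, 0), (2, 10, 0), (2, 3, 0), (2, 1, 0), (2, 2, 0), (3, 3, 0), (3, 1, 0), (3, 2, 0), (3, 5, 0), (3, 6, 0), (3, 4, 0), (4, 8, 0), (4, 1, 0), (4, 10, 0), (4, 0, 0), (5, 1, 0), (5, 10, 0), (5, 0, 0), (5, 3, 0), (5, 4, 0), (5, 2, 0), (1, 5, 0), (1, 3, 0), (1, 4, 0), (1, 7,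 0), (1, 8, 0), (1, 6, 0), (2, 7, 0), (2, 8, 0), (2, 6, 0), (2, 10, 0), (9, 8, 0), (9, 6, 0), (9, 7, 0), (9, 10, 0), (9, 0, 0), (9, 9, 0), (10, 10, 0), (10, 0, 0), (10, 9, 0), (10, 2, 0), (6, 3, 0), (6, 4, 0), (6, 2, 0), (6, 6, 0), (7, 6, 0), (8, 1, 0), (8, 2, 0), (8, 0, 0), (8, 4, 0), (9, 4, 0), (5, 8, 0), (2, 0, 0), (7, 2, 0), (7, 3, 0), (7, 1, 0), (7, 5, 0), (8, 5, 0), (4, 9, 0), (6, 7, 0), (1, 1, 0), (3, 10, 0), (10, 3, 0), (0, 3, 0), (0, 7, 0), (0, 5, 0), (0, 6, 0)], [(5, 0, 0), (6, 0, 0), (4, 0, 0), (8, 0, 0), (8, 0, 0), (1, 0, 0), (10, 0, 0), (4, 0, 0), (2, 0, 0), (6, 0, 0), (6, 0, 0), (10, 0, 0), (8, 0, 0), (9, 0, 0), (0, 0, 0), (3, 0, 0), (7, 0, 0), (7, 0, 0), (0, 0, 0), (9, 0, 0), (10, 0, 0), (5, 0, 0), (5, 0, 0), (9,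 0, 0), (7, 0, 0), (8, 0, 0), (9, 0, 0), (2, 0, 0), (0, 0, 0), (1, 0, 0), (2, 0, 0), (0, 0, 0), (1, 0, 0), (4, 0, 0), (5, 0, 0), (3, 0, 0), (1, 0, 0), (5, 0, 0), (3, 0, 0), (4, 0, 0), (5, 0, 0), (3, 0, 0), (4, 0, 0), (7, 0, 0), (8, 0, 0), (6, 0, 0), (9, 0, 0), (7, 0, 0), (8, 0, 0), (0, 0, 0), (1, 0, 0), (10, 0, 0), (0, 0, 0), (1, 0, 0), (10, 0, 0), (3, 0, 0), (7, 0, 0), (5, 0, 0), (6, 0, 0), (9, 0, 0), (10, 0, 0), (8, 0, 0), (9, 0, 0), (10, 0, 0), (8, 0, 0), (1, 0, 0), (2, 0, 0), (3, 0, 0), (1, 0, 0), (5, 0, 0), (5, 0, 0), (5, 0, 0), (6, 0, 0), (4, 0, 0), (8, 0, 0), (8, 0, 0), (1, 0, 0), (10, 0, 0), (8, 0, 0), (6, 0, 0), (7, 0, 0), (10, 0, 0), (0, 0, 0), (9, 0, 0), (10, 0, 0), (0, 0, 0), (9, 0, 0), (2, 0, 0), (3, 0, 0), (4, 0, 0),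 (2, 0, 0), (6, 0, 0), (6, 0, 0), (1, 0, 0), (2, 0, 0), (0, 0, 0), (4, 0, 0), (4, 0, 0), (8, 0, 0), (6, 0, 0), (7, 0, 0), (5, 0, 0), (9, 0, 0), (9, 0, 0), (2, 0, 0), (4, 0, 0), (5, 0, 0), (3, 0, 0), (7, 0, 0), (7, 0, 0), (8, 0, 0), (9, 0, 0), (7, 0, 0), (0, 0, 0), (8, 0, 0), (9, 0, 0), (7, 0, 0), (1, 0, 0), (2, 0, 0), (10, 0, 0), (1, 0, 0), (9, 0, 0), (10, 0, 0), (4, 0, 0), (2, 0, 0), (3, 0, 0), (0, 0, 0), (4, 0, 0), (2, 0, 0), (3, 0, 0), (4, 0, 0), (4, 0, 0), (8, 0, 0), (6, 0, 0), (7, 0, 0), (9, 0, 0), (2, 0, 0), (2, 0, 0), (6, 0, 0), (4, 0, 0), (5, 0, 0), (3, 0, 0), (7, 0, 0), (7, 0, 0), (0, 0, 0), (9, 0, 0), (10, 0, 0), (5, 0, 0), (5, 0, 0), (9, 0, 0), (7, 0, 0), (8, 0, 0), (9, 0, 0), (2, 0, 0), (0, 0, 0), (1, 0, 0), (2, 0, 0),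 (0, 0, 0), (1, 0, 0), (4, 0, 0), (5, 0, 0), (3, 0, 0), (1, 0, 0), (10, 0, 0), (3, 0, 0), (3, 0, 0), (7, 0, 0), (5, 0, 0), (6, 0, 0), (6, 0, 0), (6, 0, 0), (10, 0, 0), (8, 0, 0), (9, 0, 0), (10, 0, 0), (3, 0, 0), (1, 0, 0), (2, 0, 0), (3, 0, 0), (1, 0, 0), (2, 0, 0), (5, 0, 0), (6, 0, 0), (4, 0, 0), (8, 0, 0), (1, 0, 0), (10, 0, 0), (0, 0, 0), (1, 0, 0), (10, 0, 0), (0, 0, 0), (3, 0, 0), (4, 0, 0), (2, 0, 0), (5, 0, 0), (3, 0, 0), (4, 0, 0), (7, 0, 0), (8, 0, 0), (6, 0, 0), (7, 0, 0), (8, 0, 0), (6, 0, 0), (10, 0, 0), (8, 0, 0), (6, 0, 0), (7, 0, 0), (10, 0, 0), (0, 0, 0), (9, 0, 0), (10, 0, 0), (0, 0, 0), (9, 0, 0), (2, 0, 0), (3, 0, 0), (4, 0, 0), (2, 0, 0), (6, 0, 0), (6, 0, 0), (1, 0, 0), (2, 0, 0), (0, 0, 0), (4, 0, 0), (4,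 0, 0), (8, 0, 0), (0, 0, 0), (2, 0, 0), (3, 0, 0), (1, 0, 0), (5, 0, 0), (5, 0, 0), (9, 0, 0), (7, 0, 0), (1, 0, 0), (10, 0, 0), (3, 0, 0), (3, 0, 0), (7, 0, 0), (5, 0, 0), (6, 0, 0)], []],
  [[(0, 5, 0), (0, 6, 0), (0, 4, 0), (0, 8, 0), (1, 8, 0), (8, 1, 0), (7, 2, 0), (3, 6, 0), (2, 7, 0), (9, 0, 0), (10, 0, 0), (10, 4, 0), (10, 2, 0), (10, 3, 0), (4, 5, 0), (10, 10, 0), (6, 3, 0), (7, 3, 0), (7, 7, 0), (7, 5, 0), (7, 6, 0), (5, 4, 0), (6, 4, 0), (6, 8, 0), (6, 6, 0), (6, 7, 0), (2, 8, 0), (2, 1, 0), (2, 10, 0), (2, 0, 0), (3, 1, 0), (3, 10, 0), (3, 0, 0), (3, 3, 0), (3, 4, 0), (3, 2, 0), (8, 2, 0), (8, 6, 0), (8, 4, 0), (8, 5, 0), (9, 6, 0), (9, 4, 0), (9, 5, 0), (9, 8, 0), (9, 9, 0), (9, 7, 0), (5, 10, 0), (5, 8, 0), (5, 9,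 0), (5, 1, 0), (5, 2, 0), (5, 0, 0), (6, 1, 0), (6, 2, 0), (6, 0, 0), (6, 4, 0), (4, 0, 0), (4, 9, 0), (4, 10, 0), (4, 2, 0), (4, 3, 0), (4, 1, 0), (5, 2, 0), (5, 3, 0), (5, 1, 0), (5, 5, 0), (1, 6, 0), (1, 7, 0), (1, 5, 0), (1, 9, 0), (2, 9, 0), (7, 0, 0), (7, 1, 0), (7, 10, 0), (7, 3, 0), (8, 3, 0), (4, 7, 0), (3, 8, 0), (1, 3, 0), (1, 1, 0), (1, 2, 0), (1, 5, 0), (1, 6, 0), (1, 4, 0), (2, 5, 0), (2, 6, 0), (2, 4, 0), (2, 8, 0), (9, 9, 0), (9, 10, 0), (9, 8, 0), (9, 1, 0), (10, 1, 0), (8, 10, 0), (8, 0, 0), (8, 9, 0), (8, 2, 0), (9, 2, 0), (5, 6, 0), (4, 3, 0), (4, 4, 0), (4, 2, 0), (4, 6, 0), (5, 6, 0), (1, 10, 0), (3, 4, 0), (3, 5, 0), (3, 3, 0), (3, 7, 0), (4, 7, 0), (10, 8, 0), (10, 9, 0), (10, 7, 0), (10, 0, 0), (0, 8, 0),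 (0, 9, 0), (0, 7, 0), (0, 1, 0), (0, 2, 0), (0, 10, 0), (0, 1, 0), (0, 9, 0), (0, 10, 0), (0, 4, 0), (0, 2, 0), (0, 3, 0), (1, 0, 0), (1, 4, 0), (1, 2, 0), (1, 3, 0), (7, 4, 0), (8, 4, 0), (8, 8, 0), (8, 6, 0), (8, 7, 0), (10, 1, 0), (6, 5, 0), (7, 5, 0), (7, 9, 0), (7, 7, 0), (7, 8, 0), (6, 5, 0), (2, 9, 0), (3, 9, 0), (3, 2, 0), (3, 0, 0), (3, 1, 0), (1, 10, 0), (2, 10, 0), (2, 3, 0), (2, 1, 0), (2, 2, 0), (9, 3, 0), (9, 7, 0), (9, 5, 0), (9, 6, 0), (10, 7, 0), (10, 5, 0), (10, 6, 0), (10, 9, 0), (10, 10, 0), (10, 8, 0), (8, 3, 0), (7, 4, 0), (3, 8, 0), (4, 8, 0), (4, 1, 0), (4, 10, 0), (4, 0, 0), (9, 2, 0), (10, 2, 0), (10, 6, 0), (10, 4, 0), (10, 5, 0), (6, 6, 0), (6, 10, 0), (6, 8, 0), (6, 9, 0), (7, 10, 0), (7, 8, 0), (7,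 9, 0), (7, 1, 0), (7, 2, 0), (7, 0, 0), (5, 7, 0), (5, 0, 0), (5, 9, 0), (5, 10, 0), (6, 0, 0), (6, 9, 0), (6, 10, 0), (6, 2, 0), (6, 3, 0), (6, 1, 0), (2, 4, 0), (2, 2, 0), (2, 3, 0), (2, 6, 0), (2, 7, 0), (2, 5, 0), (3, 6, 0), (3, 7, 0), (3, 5, 0), (3, 9, 0), (8, 9, 0), (8, 7, 0), (8, 8, 0), (8, 0, 0), (8, 1, 0), (8, 10, 0), (9, 0, 0), (9, 1, 0), (9, 10, 0), (9, 3, 0), (5, 4, 0), (5, 5, 0), (5, 3, 0), (5, 7, 0), (6, 7, 0), (4, 5, 0), (4, 6, 0), (4, 4, 0), (4, 8, 0), (5, 8, 0), (1, 1, 0), (7, 6, 0), (1, 8, 0), (1, 9, 0), (1, 7, 0), (1, 0, 0), (2, 0, 0), (9, 4, 0), (8, 5, 0), (4, 9, 0), (3, 10, 0), (10, 3, 0), (0, 3, 0), (0, 7, 0), (0, 5, 0), (0, 6, 0)], [(5, 0, 0), (6, 0, 0), (4, 0, 0), (8, 0, 0), (8, 0, 0), (1, 0, 0), (2, 0,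 0), (6, 0, 0), (7, 0, 0), (0, 0, 0), (0, 0, 0), (4, 0, 0), (2, 0, 0), (3, 0, 0), (5, 0, 0), (10, 0, 0), (3, 0, 0), (3, 0, 0), (7, 0, 0), (5, 0, 0), (6, 0, 0), (4, 0, 0), (4, 0, 0), (8, 0, 0), (6, 0, 0), (7, 0, 0), (8, 0, 0), (1, 0, 0), (10, 0, 0), (0, 0, 0), (1, 0, 0), (10, 0, 0), (0, 0, 0), (3, 0, 0), (4, 0, 0), (2, 0, 0), (2, 0, 0), (6, 0, 0), (4, 0, 0), (5, 0, 0), (6, 0, 0), (4, 0, 0), (5, 0, 0), (8, 0, 0), (9, 0, 0), (7, 0, 0), (10, 0, 0), (8, 0, 0), (9, 0, 0), (1, 0, 0), (2, 0, 0), (0, 0, 0), (1, 0, 0), (2, 0, 0), (0, 0, 0), (4, 0, 0), (0, 0, 0), (9, 0, 0), (10, 0, 0), (2, 0, 0), (3, 0, 0), (1, 0, 0), (2, 0, 0), (3, 0, 0), (1, 0, 0), (5, 0, 0), (6, 0, 0), (7, 0, 0), (5, 0, 0), (9, 0, 0), (9, 0, 0), (0, 0, 0), (1, 0, 0), (10,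 0, 0), (3, 0, 0), (3, 0, 0), (7, 0, 0), (8, 0, 0), (3, 0, 0), (1, 0, 0), (2, 0, 0), (5, 0, 0), (6, 0, 0), (4, 0, 0), (5, 0, 0), (6, 0, 0), (4, 0, 0), (8, 0, 0), (9, 0, 0), (10, 0, 0), (8, 0, 0), (1, 0, 0), (1, 0, 0), (10, 0, 0), (0, 0, 0), (9, 0, 0), (2, 0, 0), (2, 0, 0), (6, 0, 0), (3, 0, 0), (4, 0, 0), (2, 0, 0), (6, 0, 0), (6, 0, 0), (10, 0, 0), (4, 0, 0), (5, 0, 0), (3, 0, 0), (7, 0, 0), (7, 0, 0), (8, 0, 0), (9, 0, 0), (7, 0, 0), (0, 0, 0), (8, 0, 0), (9, 0, 0), (7, 0, 0), (1, 0, 0), (2, 0, 0), (10, 0, 0), (1, 0, 0), (9, 0, 0), (10, 0, 0), (4, 0, 0), (2, 0, 0), (3, 0, 0), (0, 0, 0), (4, 0, 0), (2, 0, 0), (3, 0, 0), (4, 0, 0), (4, 0, 0), (8, 0, 0), (6, 0, 0), (7, 0, 0), (1, 0, 0), (5, 0, 0), (5, 0, 0), (9, 0, 0), (7, 0, 0),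 (8, 0, 0), (5, 0, 0), (9, 0, 0), (9, 0, 0), (2, 0, 0), (0, 0, 0), (1, 0, 0), (10, 0, 0), (10, 0, 0), (3, 0, 0), (1, 0, 0), (2, 0, 0), (3, 0, 0), (7, 0, 0), (5, 0, 0), (6, 0, 0), (7, 0, 0), (5, 0, 0), (6, 0, 0), (9, 0, 0), (10, 0, 0), (8, 0, 0), (3, 0, 0), (4, 0, 0), (8, 0, 0), (8, 0, 0), (1, 0, 0), (10, 0, 0), (0, 0, 0), (2, 0, 0), (2, 0, 0), (6, 0, 0), (4, 0, 0), (5, 0, 0), (6, 0, 0), (10, 0, 0), (8, 0, 0), (9, 0, 0), (10, 0, 0), (8, 0, 0), (9, 0, 0), (1, 0, 0), (2, 0, 0), (0, 0, 0), (7, 0, 0), (0, 0, 0), (9, 0, 0), (10, 0, 0), (0, 0, 0), (9, 0, 0), (10, 0, 0), (2, 0, 0), (3, 0, 0), (1, 0, 0), (4, 0, 0), (2, 0, 0), (3, 0, 0), (6, 0, 0), (7, 0, 0), (5, 0, 0), (6, 0, 0), (7, 0, 0), (5, 0, 0), (9, 0, 0), (9, 0, 0), (7, 0, 0), (8,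 0, 0), (0, 0, 0), (1, 0, 0), (10, 0, 0), (0, 0, 0), (1, 0, 0), (10, 0, 0), (3, 0, 0), (4, 0, 0), (5, 0, 0), (3, 0, 0), (7, 0, 0), (7, 0, 0), (5, 0, 0), (6, 0, 0), (4, 0, 0), (8, 0, 0), (8, 0, 0), (1, 0, 0), (6, 0, 0), (8, 0, 0), (9, 0, 0), (7, 0, 0), (0, 0, 0), (0, 0, 0), (4, 0, 0), (5, 0, 0), (9, 0, 0), (10, 0, 0), (3, 0, 0), (3, 0, 0), (7, 0, 0), (5, 0, 0), (6, 0, 0)], []],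
  [[(9, 0, 0), (10, 0, 0), (4, 0, 0), (7, 0, 0), (6, 0, 0), (6, 0, 0), (6, 0, 0), (6, 0, 0), (6, 0, 0), (6, 0, 0), (5, 0, 0), (8, 0, 0), (2, 0, 0), (3, 0, 0), (6, 0, 0), (6, 0, 0), (6, 0, 0), (5, 0, 0), (8, 0, 0), (2, 0, 0), (3, 0, 0), (6, 0, 0), (5, 0, 0), (8, 0, 0), (2, 0, 0), (3, 0, 0), (5, 0, 0), (8, 0, 0), (2, 0, 0), (3, 0, 0), (7, 0, 0), (1, 0, 0), (2, 0, 0), (4, 0, 0), (5, 0, 0), (10, 0, 0), (5, 0, 0), (8, 0, 0), (2, 0, 0), (3, 0, 0), (7, 0, 0), (1, 0, 0), (2, 0, 0), (4, 0, 0), (5, 0, 0), (10, 0, 0), (7, 0, 0), (1, 0, 0), (2, 0, 0), (4, 0, 0), (5, 0, 0), (10, 0, 0), (3, 0, 0), (4, 0, 0), (9, 0, 0), (1, 0, 0), (7, 0, 0), (1, 0, 0), (2, 0, 0), (4, 0, 0), (5, 0, 0), (10, 0, 0), (3, 0, 0), (4, 0, 0), (9, 0, 0), (1, 0, 0), (3,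 0, 0), (4, 0, 0), (9, 0, 0), (1, 0, 0), (0, 0, 0), (3, 0, 0), (4, 0, 0), (9, 0, 0), (1, 0, 0), (0, 0, 0), (0, 0, 0), (0, 0, 0), (7, 0, 0), (1, 0, 0), (2, 0, 0), (4, 0, 0), (5, 0, 0), (10, 0, 0), (3, 0, 0), (4, 0, 0), (9, 0, 0), (1, 0, 0), (3, 0, 0), (4, 0, 0), (9, 0, 0), (1, 0, 0), (0, 0, 0), (3, 0, 0), (4, 0, 0), (9, 0, 0), (1, 0, 0), (0, 0, 0), (0, 0, 0), (3, 0, 0), (4, 0, 0), (9, 0, 0), (1, 0, 0), (0, 0, 0), (0, 0, 0), (3, 0, 0), (4, 0, 0), (9, 0, 0), (1, 0, 0), (0, 0, 0), (3, 0, 0), (4, 0, 0), (9, 0, 0), (1, 0, 0), (2, 0, 0), (3, 0, 0), (8, 0, 0), (5, 0, 0), (6, 0, 0), (10, 0, 0), (1, 0, 0), (5, 0, 0), (6, 0, 0), (3, 0, 0), (8, 0, 0), (9, 0, 0), (10, 0, 0), (2, 0, 0), (7, 0, 0), (8, 0, 0), (0, 0, 0), (10, 0, 0), (2, 0, 0),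 (7, 0, 0), (8, 0, 0), (0, 0, 0), (0, 0, 0), (10, 0, 0), (2, 0, 0), (7, 0, 0), (8, 0, 0), (0, 0, 0), (0, 0, 0), (10, 0, 0), (2, 0, 0), (7, 0, 0), (8, 0, 0), (0, 0, 0), (10, 0, 0), (2, 0, 0), (7, 0, 0), (8, 0, 0), (10, 0, 0), (2, 0, 0), (7, 0, 0), (8, 0, 0), (1, 0, 0), (6, 0, 0), (7, 0, 0), (9, 0, 0), (10, 0, 0), (4, 0, 0), (0, 0, 0), (0, 0, 0), (0, 0, 0), (10, 0, 0), (2, 0, 0), (7, 0, 0), (8, 0, 0), (0, 0, 0), (10, 0, 0), (2, 0, 0), (7, 0, 0), (8, 0, 0), (10, 0, 0), (2, 0, 0), (7, 0, 0), (8, 0, 0), (1, 0, 0), (6, 0, 0), (7, 0, 0), (9, 0, 0), (10, 0, 0), (4, 0, 0), (10, 0, 0), (2, 0, 0), (7, 0, 0), (8, 0, 0), (1, 0, 0), (6, 0, 0), (7, 0, 0), (9, 0, 0), (10, 0, 0), (4, 0, 0), (1, 0, 0), (6, 0, 0), (7, 0, 0), (9, 0, 0), (10, 0, 0),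 (4, 0, 0), (8, 0, 0), (9, 0, 0), (3, 0, 0), (6, 0, 0), (1, 0, 0), (6, 0, 0), (7, 0, 0), (9, 0, 0), (10, 0, 0), (4, 0, 0), (8, 0, 0), (9, 0, 0), (3, 0, 0), (6, 0, 0), (8, 0, 0), (9, 0, 0), (3, 0, 0), (6, 0, 0), (5, 0, 0), (8, 0, 0), (9, 0, 0), (3, 0, 0), (6, 0, 0), (5, 0, 0), (5, 0, 0), (5, 0, 0), (8, 0, 0), (9, 0, 0), (3, 0, 0), (6, 0, 0), (5, 0, 0), (5, 0, 0), (5, 0, 0), (5, 0, 0), (5, 0, 0), (5, 0, 0), (4, 0, 0), (7, 0, 0), (1, 0, 0), (2, 0, 0)], [], []],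
  [[(0, 9, 0), (0, 10, 0), (0, 4, 0), (0, 7, 0), (1, 7, 0), (10, 5, 0), (2, 8, 0), (4, 10, 0), (7, 2, 0), (5, 0, 0), (6, 0, 0), (6, 3, 0), (6, 8, 0), (6, 9, 0), (3, 9, 0), (8, 3, 0), (6, 1, 0), (7, 1, 0), (7, 4, 0), (7, 9, 0), (7, 10, 0), (9, 4, 0), (10, 4, 0), (10, 7, 0), (10, 1, 0), (10, 2, 0), (8, 2, 0), (8, 5, 0), (8, 10, 0), (8, 0, 0), (9, 5, 0), (9, 10, 0), (9, 0, 0), (9, 2, 0), (9, 3, 0), (9, 8, 0), (2, 7, 0), (2, 10, 0), (2, 4, 0), (2, 5, 0), (3, 10, 0), (3, 4, 0), (3, 5, 0), (3, 7, 0), (3, 8, 0), (3, 2, 0), (1, 8, 0), (1, 2, 0), (1, 3, 0), (1, 5, 0), (1, 6, 0), (1, 0, 0), (2, 5, 0), (2, 6, 0), (2, 0, 0), (2, 3, 0), (4, 0, 0), (4, 5, 0), (4, 6, 0), (4, 8, 0), (4, 9, 0), (4, 3, 0), (5, 8, 0), (5, 9, 0), (5, 3, 0), (5, 6,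 0), (3, 6, 0), (3, 7, 0), (3, 1, 0), (3, 4, 0), (4, 4, 0), (8, 0, 0), (8, 1, 0), (8, 6, 0), (8, 9, 0), (9, 9, 0), (7, 7, 0), (10, 10, 0), (5, 1, 0), (5, 6, 0), (5, 7, 0), (5, 9, 0), (5, 10, 0), (5, 4, 0), (6, 9, 0), (6, 10, 0), (6, 4, 0), (6, 7, 0), (4, 7, 0), (4, 8, 0), (4, 2, 0), (4, 5, 0), (5, 5, 0), (7, 10, 0), (7, 0, 0), (7, 5, 0), (7, 8, 0), (8, 8, 0), (6, 6, 0), (9, 1, 0), (9, 2, 0), (9, 7, 0), (9, 10, 0), (10, 10, 0), (8, 8, 0), (1, 4, 0), (1, 5, 0), (1, 10, 0), (1, 2, 0), (2, 2, 0), (10, 2, 0), (10, 3, 0), (10, 8, 0), (10, 0, 0), (0, 2, 0), (0, 3, 0), (0, 8, 0), (0, 5, 0), (0, 6, 0), (0, 10, 0), (0, 1, 0), (0, 5, 0), (0, 6, 0), (0, 3, 0), (0, 8, 0), (0, 9, 0), (1, 0, 0), (1, 3, 0), (1, 8, 0), (1, 9, 0), (9, 9, 0), (10,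 9, 0), (10, 1, 0), (10, 6, 0), (10, 7, 0), (3, 3, 0), (1, 1, 0), (2, 1, 0), (2, 4, 0), (2, 9, 0), (2, 10, 0), (5, 5, 0), (3, 3, 0), (4, 3, 0), (4, 6, 0), (4, 0, 0), (4, 1, 0), (6, 6, 0), (7, 6, 0), (7, 9, 0), (7, 3, 0), (7, 4, 0), (5, 4, 0), (5, 7, 0), (5, 1, 0), (5, 2, 0), (6, 7, 0), (6, 1, 0), (6, 2, 0), (6, 4, 0), (6, 5, 0), (6, 10, 0), (1, 1, 0), (4, 4, 0), (2, 2, 0), (3, 2, 0), (3, 5, 0), (3, 10, 0), (3, 0, 0), (7, 7, 0), (8, 7, 0), (8, 10, 0), (8, 4, 0), (8, 5, 0), (6, 5, 0), (6, 8, 0), (6, 2, 0), (6, 3, 0), (7, 8, 0), (7, 2, 0), (7, 3, 0), (7, 5, 0), (7, 6, 0), (7, 0, 0), (9, 8, 0), (9, 0, 0), (9, 5, 0), (9, 6, 0), (10, 0, 0), (10, 5, 0), (10, 6, 0), (10, 8, 0), (10, 9, 0), (10, 3, 0), (8, 9, 0), (8, 3, 0), (8, 4, 0), (8,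 6, 0), (8, 7, 0), (8, 1, 0), (9, 6, 0), (9, 7, 0), (9, 1, 0), (9, 4, 0), (2, 3, 0), (2, 8, 0), (2, 9, 0), (2, 0, 0), (2, 1, 0), (2, 6, 0), (3, 0, 0), (3, 1, 0), (3, 6, 0), (3, 9, 0), (1, 9, 0), (1, 10, 0), (1, 4, 0), (1, 7, 0), (2, 7, 0), (4, 1, 0), (4, 2, 0), (4, 7, 0), (4, 10, 0), (5, 10, 0), (3, 8, 0), (8, 2, 0), (5, 2, 0), (5, 3, 0), (5, 8, 0), (5, 0, 0), (6, 0, 0), (4, 9, 0), (7, 1, 0), (9, 3, 0), (1, 6, 0), (10, 4, 0), (0, 4, 0), (0, 7, 0), (0, 1, 0), (0, 2, 0)], [(9, 0, 0), (10, 0, 0), (4, 0, 0), (7, 0, 0), (7, 0, 0), (5, 0, 0), (8, 0, 0), (10, 0, 0), (2, 0, 0), (0, 0, 0), (0, 0, 0), (3, 0, 0), (8, 0, 0), (9, 0, 0), (9, 0, 0), (3, 0, 0), (1, 0, 0), (1, 0, 0), (4, 0, 0), (9, 0, 0), (10, 0, 0), (4, 0, 0), (4, 0, 0), (7, 0,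 0), (1, 0, 0), (2, 0, 0), (2, 0, 0), (5, 0, 0), (10, 0, 0), (0, 0, 0), (5, 0, 0), (10, 0, 0), (0, 0, 0), (2, 0, 0), (3, 0, 0), (8, 0, 0), (7, 0, 0), (10, 0, 0), (4, 0, 0), (5, 0, 0), (10, 0, 0), (4, 0, 0), (5, 0, 0), (7, 0, 0), (8, 0, 0), (2, 0, 0), (8, 0, 0), (2, 0, 0), (3, 0, 0), (5, 0, 0), (6, 0, 0), (0, 0, 0), (5, 0, 0), (6, 0, 0), (0, 0, 0), (3, 0, 0), (0, 0, 0), (5, 0, 0), (6, 0, 0), (8, 0, 0), (9, 0, 0), (3, 0, 0), (8, 0, 0), (9, 0, 0), (3, 0, 0), (6, 0, 0), (6, 0, 0), (7, 0, 0), (1, 0, 0), (4, 0, 0), (4, 0, 0), (0, 0, 0), (1, 0, 0), (6, 0, 0), (9, 0, 0), (9, 0, 0), (7, 0, 0), (10, 0, 0), (1, 0, 0), (6, 0, 0), (7, 0, 0), (9, 0, 0), (10, 0, 0), (4, 0, 0), (9, 0, 0), (10, 0, 0), (4, 0, 0), (7, 0, 0), (7, 0, 0), (8, 0, 0),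 (2, 0, 0), (5, 0, 0), (5, 0, 0), (10, 0, 0), (0, 0, 0), (5, 0, 0), (8, 0, 0), (8, 0, 0), (6, 0, 0), (1, 0, 0), (2, 0, 0), (7, 0, 0), (10, 0, 0), (10, 0, 0), (8, 0, 0), (4, 0, 0), (5, 0, 0), (10, 0, 0), (2, 0, 0), (2, 0, 0), (2, 0, 0), (3, 0, 0), (8, 0, 0), (0, 0, 0), (2, 0, 0), (3, 0, 0), (8, 0, 0), (5, 0, 0), (6, 0, 0), (10, 0, 0), (1, 0, 0), (5, 0, 0), (6, 0, 0), (3, 0, 0), (8, 0, 0), (9, 0, 0), (0, 0, 0), (3, 0, 0), (8, 0, 0), (9, 0, 0), (9, 0, 0), (9, 0, 0), (1, 0, 0), (6, 0, 0), (7, 0, 0), (3, 0, 0), (1, 0, 0), (1, 0, 0), (4, 0, 0), (9, 0, 0), (10, 0, 0), (5, 0, 0), (3, 0, 0), (3, 0, 0), (6, 0, 0), (0, 0, 0), (1, 0, 0), (6, 0, 0), (6, 0, 0), (9, 0, 0), (3, 0, 0), (4, 0, 0), (4, 0, 0), (7, 0, 0), (1, 0, 0), (2, 0, 0), (7, 0,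 0), (1, 0, 0), (2, 0, 0), (4, 0, 0), (5, 0, 0), (10, 0, 0), (1, 0, 0), (4, 0, 0), (2, 0, 0), (2, 0, 0), (5, 0, 0), (10, 0, 0), (0, 0, 0), (7, 0, 0), (7, 0, 0), (10, 0, 0), (4, 0, 0), (5, 0, 0), (5, 0, 0), (8, 0, 0), (2, 0, 0), (3, 0, 0), (8, 0, 0), (2, 0, 0), (3, 0, 0), (5, 0, 0), (6, 0, 0), (0, 0, 0), (8, 0, 0), (0, 0, 0), (5, 0, 0), (6, 0, 0), (0, 0, 0), (5, 0, 0), (6, 0, 0), (8, 0, 0), (9, 0, 0), (3, 0, 0), (9, 0, 0), (3, 0, 0), (4, 0, 0), (6, 0, 0), (7, 0, 0), (1, 0, 0), (6, 0, 0), (7, 0, 0), (1, 0, 0), (4, 0, 0), (3, 0, 0), (8, 0, 0), (9, 0, 0), (0, 0, 0), (1, 0, 0), (6, 0, 0), (0, 0, 0), (1, 0, 0), (6, 0, 0), (9, 0, 0), (9, 0, 0), (10, 0, 0), (4, 0, 0), (7, 0, 0), (7, 0, 0), (1, 0, 0), (2, 0, 0), (7, 0, 0), (10, 0, 0), (10,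 0, 0), (8, 0, 0), (2, 0, 0), (2, 0, 0), (3, 0, 0), (8, 0, 0), (0, 0, 0), (0, 0, 0), (9, 0, 0), (1, 0, 0), (3, 0, 0), (6, 0, 0), (4, 0, 0), (4, 0, 0), (7, 0, 0), (1, 0, 0), (2, 0, 0)], []],
  [[(0, 9, 0), (0, 10, 0), (0, 4, 0), (0, 7, 0), (1, 7, 0), (6, 1, 0), (7, 2, 0), (9, 4, 0), (10, 5, 0), (4, 10, 0), (5, 10, 0), (5, 2, 0), (5, 7, 0), (5, 8, 0), (5, 0, 0), (8, 3, 0), (2, 8, 0), (3, 8, 0), (3, 0, 0), (3, 5, 0), (3, 6, 0), (3, 9, 0), (4, 9, 0), (4, 1, 0), (4, 6, 0), (4, 7, 0), (9, 3, 0), (9, 6, 0), (9, 0, 0), (9, 1, 0), (10, 6, 0), (10, 0, 0), (10, 1, 0), (10, 3, 0), (10, 4, 0), (10, 9, 0), (1, 6, 0), (1, 9, 0), (1, 3, 0), (1, 4, 0), (2, 9, 0), (2, 3, 0), (2, 4, 0), (2, 6, 0), (2, 7, 0), (2, 1, 0), (7, 3, 0), (7, 8, 0), (7, 9,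 0), (7, 0, 0), (7, 1, 0), (7, 6, 0), (8, 0, 0), (8, 1, 0), (8, 6, 0), (8, 9, 0), (8, 4, 0), (8, 9, 0), (8, 10, 0), (8, 1, 0), (8, 2, 0), (8, 7, 0), (9, 1, 0), (9, 2, 0), (9, 7, 0), (9, 10, 0), (3, 6, 0), (3, 7, 0), (3, 1, 0), (3, 4, 0), (4, 4, 0), (6, 9, 0), (6, 10, 0), (6, 4, 0), (6, 7, 0), (7, 7, 0), (1, 1, 0), (2, 2, 0), (6, 2, 0), (6, 7, 0), (6, 8, 0), (6, 10, 0), (6, 0, 0), (6, 5, 0), (7, 10, 0), (7, 0, 0), (7, 5, 0), (7, 8, 0), (1, 4, 0), (1, 5, 0), (1, 10, 0), (1, 2, 0), (2, 2, 0), (2, 5, 0), (2, 6, 0), (2, 0, 0), (2, 3, 0), (3, 3, 0), (8, 8, 0), (4, 7, 0), (4, 8, 0), (4, 2, 0), (4, 5, 0), (5, 5, 0), (10, 10, 0), (5, 8, 0), (5, 9, 0), (5, 3, 0), (5, 6, 0), (6, 6, 0), (10, 2, 0), (10, 3, 0), (10, 8, 0), (10, 0, 0), (0, 2,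 0), (0, 3, 0), (0, 8, 0), (0, 5, 0), (0, 6, 0), (0, 10, 0), (0, 1, 0), (0, 5, 0), (0, 6, 0), (0, 3, 0), (0, 8, 0), (0, 9, 0), (1, 0, 0), (1, 3, 0), (1, 8, 0), (1, 9, 0), (5, 5, 0), (6, 5, 0), (6, 8, 0), (6, 2, 0), (6, 3, 0), (1, 1, 0), (6, 6, 0), (7, 6, 0), (7, 9, 0), (7, 3, 0), (7, 4, 0), (3, 3, 0), (8, 8, 0), (9, 8, 0), (9, 0, 0), (9, 5, 0), (9, 6, 0), (9, 9, 0), (10, 9, 0), (10, 1, 0), (10, 6, 0), (10, 7, 0), (4, 3, 0), (4, 6, 0), (4, 0, 0), (4, 1, 0), (5, 6, 0), (5, 0, 0), (5, 1, 0), (5, 3, 0), (5, 4, 0), (5, 9, 0), (9, 9, 0), (10, 10, 0), (4, 4, 0), (5, 4, 0), (5, 7, 0), (5, 1, 0), (5, 2, 0), (7, 7, 0), (8, 7, 0), (8, 10, 0), (8, 4, 0), (8, 5, 0), (2, 1, 0), (2, 4, 0), (2, 9, 0), (2, 10, 0), (3, 4, 0), (3, 9, 0), (3, 10, 0),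 (3, 1, 0), (3, 2, 0), (3, 7, 0), (3, 2, 0), (3, 5, 0), (3, 10, 0), (3, 0, 0), (4, 5, 0), (4, 10, 0), (4, 0, 0), (4, 2, 0), (4, 3, 0), (4, 8, 0), (9, 10, 0), (9, 4, 0), (9, 5, 0), (9, 7, 0), (9, 8, 0), (9, 2, 0), (10, 7, 0), (10, 8, 0), (10, 2, 0), (10, 5, 0), (1, 2, 0), (1, 7, 0), (1, 8, 0), (1, 10, 0), (1, 0, 0), (1, 5, 0), (2, 10, 0), (2, 0, 0), (2, 5, 0), (2, 8, 0), (7, 4, 0), (7, 5, 0), (7, 10, 0), (7, 2, 0), (8, 2, 0), (8, 5, 0), (8, 6, 0), (8, 0, 0), (8, 3, 0), (9, 3, 0), (3, 8, 0), (6, 0, 0), (6, 3, 0), (6, 4, 0), (6, 9, 0), (6, 1, 0), (7, 1, 0), (1, 6, 0), (2, 7, 0), (4, 9, 0), (5, 10, 0), (10, 4, 0), (0, 4, 0), (0, 7, 0), (0, 1, 0), (0, 2, 0)], [(9, 0, 0), (10, 0, 0), (4, 0, 0), (7, 0, 0), (7, 0, 0), (1, 0, 0), (2, 0,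 0), (4, 0, 0), (5, 0, 0), (10, 0, 0), (10, 0, 0), (2, 0, 0), (7, 0, 0), (8, 0, 0), (0, 0, 0), (3, 0, 0), (8, 0, 0), (8, 0, 0), (0, 0, 0), (5, 0, 0), (6, 0, 0), (9, 0, 0), (9, 0, 0), (1, 0, 0), (6, 0, 0), (7, 0, 0), (3, 0, 0), (6, 0, 0), (0, 0, 0), (1, 0, 0), (6, 0, 0), (0, 0, 0), (1, 0, 0), (3, 0, 0), (4, 0, 0), (9, 0, 0), (6, 0, 0), (9, 0, 0), (3, 0, 0), (4, 0, 0), (9, 0, 0), (3, 0, 0), (4, 0, 0), (6, 0, 0), (7, 0, 0), (1, 0, 0), (3, 0, 0), (8, 0, 0), (9, 0, 0), (0, 0, 0), (1, 0, 0), (6, 0, 0), (0, 0, 0), (1, 0, 0), (6, 0, 0), (9, 0, 0), (4, 0, 0), (9, 0, 0), (10, 0, 0), (1, 0, 0), (2, 0, 0), (7, 0, 0), (1, 0, 0), (2, 0, 0), (7, 0, 0), (10, 0, 0), (6, 0, 0), (7, 0, 0), (1, 0, 0), (4, 0, 0), (4, 0, 0), (9, 0, 0), (10, 0, 0), (4,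 0, 0), (7, 0, 0), (7, 0, 0), (1, 0, 0), (2, 0, 0), (2, 0, 0), (7, 0, 0), (8, 0, 0), (10, 0, 0), (0, 0, 0), (5, 0, 0), (10, 0, 0), (0, 0, 0), (5, 0, 0), (8, 0, 0), (4, 0, 0), (5, 0, 0), (10, 0, 0), (2, 0, 0), (2, 0, 0), (5, 0, 0), (6, 0, 0), (0, 0, 0), (3, 0, 0), (3, 0, 0), (8, 0, 0), (7, 0, 0), (8, 0, 0), (2, 0, 0), (5, 0, 0), (5, 0, 0), (10, 0, 0), (8, 0, 0), (9, 0, 0), (3, 0, 0), (6, 0, 0), (6, 0, 0), (2, 0, 0), (3, 0, 0), (8, 0, 0), (0, 0, 0), (2, 0, 0), (3, 0, 0), (8, 0, 0), (5, 0, 0), (6, 0, 0), (10, 0, 0), (1, 0, 0), (5, 0, 0), (6, 0, 0), (3, 0, 0), (8, 0, 0), (9, 0, 0), (0, 0, 0), (3, 0, 0), (8, 0, 0), (9, 0, 0), (5, 0, 0), (5, 0, 0), (8, 0, 0), (2, 0, 0), (3, 0, 0), (1, 0, 0), (6, 0, 0), (6, 0, 0), (9, 0, 0), (3, 0, 0),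 (4, 0, 0), (3, 0, 0), (8, 0, 0), (8, 0, 0), (0, 0, 0), (5, 0, 0), (6, 0, 0), (9, 0, 0), (9, 0, 0), (1, 0, 0), (6, 0, 0), (7, 0, 0), (3, 0, 0), (6, 0, 0), (0, 0, 0), (1, 0, 0), (6, 0, 0), (0, 0, 0), (1, 0, 0), (3, 0, 0), (4, 0, 0), (9, 0, 0), (9, 0, 0), (10, 0, 0), (4, 0, 0), (4, 0, 0), (7, 0, 0), (1, 0, 0), (2, 0, 0), (7, 0, 0), (7, 0, 0), (10, 0, 0), (4, 0, 0), (5, 0, 0), (1, 0, 0), (4, 0, 0), (9, 0, 0), (10, 0, 0), (4, 0, 0), (9, 0, 0), (10, 0, 0), (1, 0, 0), (2, 0, 0), (7, 0, 0), (2, 0, 0), (5, 0, 0), (10, 0, 0), (0, 0, 0), (5, 0, 0), (10, 0, 0), (0, 0, 0), (2, 0, 0), (3, 0, 0), (8, 0, 0), (10, 0, 0), (4, 0, 0), (5, 0, 0), (7, 0, 0), (8, 0, 0), (2, 0, 0), (7, 0, 0), (8, 0, 0), (2, 0, 0), (5, 0, 0), (2, 0, 0), (7, 0, 0), (8,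 0, 0), (10, 0, 0), (0, 0, 0), (5, 0, 0), (10, 0, 0), (0, 0, 0), (5, 0, 0), (8, 0, 0), (4, 0, 0), (5, 0, 0), (10, 0, 0), (2, 0, 0), (2, 0, 0), (5, 0, 0), (6, 0, 0), (0, 0, 0), (3, 0, 0), (3, 0, 0), (8, 0, 0), (0, 0, 0), (3, 0, 0), (4, 0, 0), (9, 0, 0), (1, 0, 0), (1, 0, 0), (6, 0, 0), (7, 0, 0), (9, 0, 0), (10, 0, 0), (4, 0, 0), (4, 0, 0), (7, 0, 0), (1, 0, 0), (2, 0, 0)], []],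
  [[(0, 9, 0), (0, 10, 0), (0, 4, 0), (0, 7, 0), (1, 7, 0), (8, 3, 0), (10, 5, 0), (5, 0, 0), (7, 2, 0), (3, 9, 0), (4, 9, 0), (4, 1, 0), (4, 6, 0), (4, 7, 0), (9, 4, 0), (6, 1, 0), (2, 8, 0), (3, 8, 0), (3, 0, 0), (3, 5, 0), (3, 6, 0), (4, 10, 0), (5, 10, 0), (5, 2, 0), (5, 7, 0), (5, 8, 0), (1, 6, 0), (1, 9, 0), (1, 3, 0), (1, 4, 0), (2, 9, 0), (2, 3, 0), (2, 4, 0), (2, 6, 0), (2, 7, 0), (2, 1, 0), (9, 3, 0), (9, 6, 0), (9, 0, 0), (9, 1, 0), (10, 6, 0), (10, 0, 0), (10, 1, 0), (10, 3, 0), (10, 4, 0), (10, 9, 0), (6, 2, 0), (6, 7, 0), (6, 8, 0), (6, 10, 0), (6, 0, 0), (6, 5, 0), (7, 10, 0), (7, 0, 0), (7, 5, 0), (7, 8, 0), (8, 4, 0), (8, 9, 0), (8, 10, 0), (8, 1, 0), (8, 2, 0), (8, 7, 0), (9, 1, 0), (9, 2, 0), (9, 7, 0), (9, 10,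 0), (5, 8, 0), (5, 9, 0), (5, 3, 0), (5, 6, 0), (6, 6, 0), (2, 5, 0), (2, 6, 0), (2, 0, 0), (2, 3, 0), (3, 3, 0), (10, 10, 0), (1, 1, 0), (7, 3, 0), (7, 8, 0), (7, 9, 0), (7, 0, 0), (7, 1, 0), (7, 6, 0), (8, 0, 0), (8, 1, 0), (8, 6, 0), (8, 9, 0), (4, 7, 0), (4, 8, 0), (4, 2, 0), (4, 5, 0), (5, 5, 0), (6, 9, 0), (6, 10, 0), (6, 4, 0), (6, 7, 0), (7, 7, 0), (3, 3, 0), (1, 4, 0), (1, 5, 0), (1, 10, 0), (1, 2, 0), (2, 2, 0), (9, 9, 0), (3, 6, 0), (3, 7, 0), (3, 1, 0), (3, 4, 0), (4, 4, 0), (10, 2, 0), (10, 3, 0), (10, 8, 0), (10, 0, 0), (0, 2, 0), (0, 3, 0), (0, 8, 0), (0, 5, 0), (0, 6, 0), (0, 10, 0), (0, 1, 0), (0, 5, 0), (0, 6, 0), (0, 3, 0), (0, 8, 0), (0, 9, 0), (1, 0, 0), (1, 3, 0), (1, 8, 0), (1, 9, 0), (7, 7, 0), (8, 7, 0),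 (8, 10, 0), (8, 4, 0), (8, 5, 0), (2, 2, 0), (9, 9, 0), (10, 9, 0), (10, 1, 0), (10, 6, 0), (10, 7, 0), (8, 8, 0), (4, 4, 0), (5, 4, 0), (5, 7, 0), (5, 1, 0), (5, 2, 0), (6, 6, 0), (7, 6, 0), (7, 9, 0), (7, 3, 0), (7, 4, 0), (3, 2, 0), (3, 5, 0), (3, 10, 0), (3, 0, 0), (4, 5, 0), (4, 10, 0), (4, 0, 0), (4, 2, 0), (4, 3, 0), (4, 8, 0), (10, 10, 0), (1, 1, 0), (8, 8, 0), (9, 8, 0), (9, 0, 0), (9, 5, 0), (9, 6, 0), (5, 5, 0), (6, 5, 0), (6, 8, 0), (6, 2, 0), (6, 3, 0), (2, 1, 0), (2, 4, 0), (2, 9, 0), (2, 10, 0), (3, 4, 0), (3, 9, 0), (3, 10, 0), (3, 1, 0), (3, 2, 0), (3, 7, 0), (4, 3, 0), (4, 6, 0), (4, 0, 0), (4, 1, 0), (5, 6, 0), (5, 0, 0), (5, 1, 0), (5, 3, 0), (5, 4, 0), (5, 9, 0), (1, 2, 0), (1, 7, 0), (1, 8, 0), (1, 10, 0),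 (1, 0, 0), (1, 5, 0), (2, 10, 0), (2, 0, 0), (2, 5, 0), (2, 8, 0), (9, 10, 0), (9, 4, 0), (9, 5, 0), (9, 7, 0), (9, 8, 0), (9, 2, 0), (10, 7, 0), (10, 8, 0), (10, 2, 0), (10, 5, 0), (6, 3, 0), (6, 4, 0), (6, 9, 0), (6, 1, 0), (7, 1, 0), (8, 5, 0), (8, 6, 0), (8, 0, 0), (8, 3, 0), (9, 3, 0), (5, 10, 0), (2, 7, 0), (7, 4, 0), (7, 5, 0), (7, 10, 0), (7, 2, 0), (8, 2, 0), (4, 9, 0), (6, 0, 0), (1, 6, 0), (3, 8, 0), (10, 4, 0), (0, 4, 0), (0, 7, 0), (0, 1, 0), (0, 2, 0)], [(9, 0, 0), (10, 0, 0), (4, 0, 0), (7, 0, 0), (7, 0, 0), (3, 0, 0), (5, 0, 0), (0, 0, 0), (2, 0, 0), (9, 0, 0), (9, 0, 0), (1, 0, 0), (6, 0, 0), (7, 0, 0), (4, 0, 0), (1, 0, 0), (8, 0, 0), (8, 0, 0), (0, 0, 0), (5, 0, 0), (6, 0, 0), (10, 0, 0), (10, 0, 0), (2, 0, 0),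 (7, 0, 0), (8, 0, 0), (6, 0, 0), (9, 0, 0), (3, 0, 0), (4, 0, 0), (9, 0, 0), (3, 0, 0), (4, 0, 0), (6, 0, 0), (7, 0, 0), (1, 0, 0), (3, 0, 0), (6, 0, 0), (0, 0, 0), (1, 0, 0), (6, 0, 0), (0, 0, 0), (1, 0, 0), (3, 0, 0), (4, 0, 0), (9, 0, 0), (2, 0, 0), (7, 0, 0), (8, 0, 0), (10, 0, 0), (0, 0, 0), (5, 0, 0), (10, 0, 0), (0, 0, 0), (5, 0, 0), (8, 0, 0), (4, 0, 0), (9, 0, 0), (10, 0, 0), (1, 0, 0), (2, 0, 0), (7, 0, 0), (1, 0, 0), (2, 0, 0), (7, 0, 0), (10, 0, 0), (8, 0, 0), (9, 0, 0), (3, 0, 0), (6, 0, 0), (6, 0, 0), (5, 0, 0), (6, 0, 0), (0, 0, 0), (3, 0, 0), (3, 0, 0), (10, 0, 0), (1, 0, 0), (3, 0, 0), (8, 0, 0), (9, 0, 0), (0, 0, 0), (1, 0, 0), (6, 0, 0), (0, 0, 0), (1, 0, 0), (6, 0, 0), (9, 0, 0), (7, 0, 0), (8, 0, 0), (2, 0,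 0), (5, 0, 0), (5, 0, 0), (9, 0, 0), (10, 0, 0), (4, 0, 0), (7, 0, 0), (7, 0, 0), (3, 0, 0), (4, 0, 0), (5, 0, 0), (10, 0, 0), (2, 0, 0), (2, 0, 0), (9, 0, 0), (6, 0, 0), (7, 0, 0), (1, 0, 0), (4, 0, 0), (4, 0, 0), (2, 0, 0), (3, 0, 0), (8, 0, 0), (0, 0, 0), (2, 0, 0), (3, 0, 0), (8, 0, 0), (5, 0, 0), (6, 0, 0), (10, 0, 0), (1, 0, 0), (5, 0, 0), (6, 0, 0), (3, 0, 0), (8, 0, 0), (9, 0, 0), (0, 0, 0), (3, 0, 0), (8, 0, 0), (9, 0, 0), (7, 0, 0), (7, 0, 0), (10, 0, 0), (4, 0, 0), (5, 0, 0), (2, 0, 0), (9, 0, 0), (9, 0, 0), (1, 0, 0), (6, 0, 0), (7, 0, 0), (8, 0, 0), (4, 0, 0), (4, 0, 0), (7, 0, 0), (1, 0, 0), (2, 0, 0), (6, 0, 0), (6, 0, 0), (9, 0, 0), (3, 0, 0), (4, 0, 0), (2, 0, 0), (5, 0, 0), (10, 0, 0), (0, 0, 0), (5, 0, 0), (10,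 0, 0), (0, 0, 0), (2, 0, 0), (3, 0, 0), (8, 0, 0), (10, 0, 0), (1, 0, 0), (8, 0, 0), (8, 0, 0), (0, 0, 0), (5, 0, 0), (6, 0, 0), (5, 0, 0), (5, 0, 0), (8, 0, 0), (2, 0, 0), (3, 0, 0), (1, 0, 0), (4, 0, 0), (9, 0, 0), (10, 0, 0), (4, 0, 0), (9, 0, 0), (10, 0, 0), (1, 0, 0), (2, 0, 0), (7, 0, 0), (3, 0, 0), (6, 0, 0), (0, 0, 0), (1, 0, 0), (6, 0, 0), (0, 0, 0), (1, 0, 0), (3, 0, 0), (4, 0, 0), (9, 0, 0), (2, 0, 0), (7, 0, 0), (8, 0, 0), (10, 0, 0), (0, 0, 0), (5, 0, 0), (10, 0, 0), (0, 0, 0), (5, 0, 0), (8, 0, 0), (10, 0, 0), (4, 0, 0), (5, 0, 0), (7, 0, 0), (8, 0, 0), (2, 0, 0), (7, 0, 0), (8, 0, 0), (2, 0, 0), (5, 0, 0), (3, 0, 0), (4, 0, 0), (9, 0, 0), (1, 0, 0), (1, 0, 0), (5, 0, 0), (6, 0, 0), (0, 0, 0), (3, 0, 0), (3, 0, 0),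 (10, 0, 0), (7, 0, 0), (4, 0, 0), (5, 0, 0), (10, 0, 0), (2, 0, 0), (2, 0, 0), (9, 0, 0), (0, 0, 0), (6, 0, 0), (8, 0, 0), (4, 0, 0), (4, 0, 0), (7, 0, 0), (1, 0, 0), (2, 0, 0)], []],
  [[(0, 9, 0), (0, 10, 0), (0, 4, 0), (0, 7, 0), (1, 7, 0), (8, 3, 0), (7, 2, 0), (3, 9, 0), (2, 8, 0), (9, 4, 0), (10, 4, 0), (10, 7, 0), (10, 1, 0), (10, 2, 0), (4, 10, 0), (10, 5, 0), (6, 1, 0), (7, 1, 0), (7, 4, 0), (7, 9, 0), (7, 10, 0), (5, 0, 0), (6, 0, 0), (6, 3, 0), (6, 8, 0), (6, 9, 0), (2, 7, 0), (2, 10, 0), (2, 4, 0), (2, 5, 0), (3, 10, 0), (3, 4, 0), (3, 5, 0), (3, 7, 0), (3, 8, 0), (3, 2, 0), (8, 2, 0), (8, 5, 0), (8, 10, 0), (8, 0, 0), (9, 5, 0), (9, 10, 0), (9, 0, 0), (9, 2, 0), (9, 3, 0), (9, 8, 0), (5, 1, 0), (5, 6, 0), (5, 7, 0),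 (5, 9, 0), (5, 10, 0), (5, 4, 0), (6, 9, 0), (6, 10, 0), (6, 4, 0), (6, 7, 0), (4, 0, 0), (4, 5, 0), (4, 6, 0), (4, 8, 0), (4, 9, 0), (4, 3, 0), (5, 8, 0), (5, 9, 0), (5, 3, 0), (5, 6, 0), (1, 4, 0), (1, 5, 0), (1, 10, 0), (1, 2, 0), (2, 2, 0), (7, 10, 0), (7, 0, 0), (7, 5, 0), (7, 8, 0), (8, 8, 0), (4, 4, 0), (3, 3, 0), (1, 8, 0), (1, 2, 0), (1, 3, 0), (1, 5, 0), (1, 6, 0), (1, 0, 0), (2, 5, 0), (2, 6, 0), (2, 0, 0), (2, 3, 0), (9, 1, 0), (9, 2, 0), (9, 7, 0), (9, 10, 0), (10, 10, 0), (8, 0, 0), (8, 1, 0), (8, 6, 0), (8, 9, 0), (9, 9, 0), (5, 5, 0), (4, 7, 0), (4, 8, 0), (4, 2, 0), (4, 5, 0), (5, 5, 0), (1, 1, 0), (3, 6, 0), (3, 7, 0), (3, 1, 0), (3, 4, 0), (4, 4, 0), (10, 2, 0), (10, 3, 0), (10, 8, 0), (10, 0, 0), (0, 2, 0),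 (0, 3, 0), (0, 8, 0), (0, 5, 0), (0, 6, 0), (0, 10, 0), (0, 1, 0), (0, 5, 0), (0, 6, 0), (0, 3, 0), (0, 8, 0), (0, 9, 0), (1, 0, 0), (1, 3, 0), (1, 8, 0), (1, 9, 0), (7, 7, 0), (8, 7, 0), (8, 10, 0), (8, 4, 0), (8, 5, 0), (10, 10, 0), (6, 6, 0), (7, 6, 0), (7, 9, 0), (7, 3, 0), (7, 4, 0), (6, 6, 0), (2, 2, 0), (3, 2, 0), (3, 5, 0), (3, 10, 0), (3, 0, 0), (1, 1, 0), (2, 1, 0), (2, 4, 0), (2, 9, 0), (2, 10, 0), (9, 8, 0), (9, 0, 0), (9, 5, 0), (9, 6, 0), (10, 0, 0), (10, 5, 0), (10, 6, 0), (10, 8, 0), (10, 9, 0), (10, 3, 0), (8, 8, 0), (7, 7, 0), (3, 3, 0), (4, 3, 0), (4, 6, 0), (4, 0, 0), (4, 1, 0), (9, 9, 0), (10, 9, 0), (10, 1, 0), (10, 6, 0), (10, 7, 0), (6, 5, 0), (6, 8, 0), (6, 2, 0), (6, 3, 0), (7, 8, 0), (7, 2, 0), (7, 3,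 0), (7, 5, 0), (7, 6, 0), (7, 0, 0), (5, 4, 0), (5, 7, 0), (5, 1, 0), (5, 2, 0), (6, 7, 0), (6, 1, 0), (6, 2, 0), (6, 4, 0), (6, 5, 0), (6, 10, 0), (2, 3, 0), (2, 8, 0), (2, 9, 0), (2, 0, 0), (2, 1, 0), (2, 6, 0), (3, 0, 0), (3, 1, 0), (3, 6, 0), (3, 9, 0), (8, 9, 0), (8, 3, 0), (8, 4, 0), (8, 6, 0), (8, 7, 0), (8, 1, 0), (9, 6, 0), (9, 7, 0), (9, 1, 0), (9, 4, 0), (5, 2, 0), (5, 3, 0), (5, 8, 0), (5, 0, 0), (6, 0, 0), (4, 1, 0), (4, 2, 0), (4, 7, 0), (4, 10, 0), (5, 10, 0), (1, 6, 0), (7, 1, 0), (1, 9, 0), (1, 10, 0), (1, 4, 0), (1, 7, 0), (2, 7, 0), (9, 3, 0), (8, 2, 0), (4, 9, 0), (3, 8, 0), (10, 4, 0), (0, 4, 0), (0, 7, 0), (0, 1, 0), (0, 2, 0)], [(9, 0, 0), (10, 0, 0), (4, 0, 0), (7, 0, 0), (7, 0, 0), (3, 0, 0), (2, 0, 0),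 (9, 0, 0), (8, 0, 0), (4, 0, 0), (4, 0, 0), (7, 0, 0), (1, 0, 0), (2, 0, 0), (10, 0, 0), (5, 0, 0), (1, 0, 0), (1, 0, 0), (4, 0, 0), (9, 0, 0), (10, 0, 0), (0, 0, 0), (0, 0, 0), (3, 0, 0), (8, 0, 0), (9, 0, 0), (7, 0, 0), (10, 0, 0), (4, 0, 0), (5, 0, 0), (10, 0, 0), (4, 0, 0), (5, 0, 0), (7, 0, 0), (8, 0, 0), (2, 0, 0), (2, 0, 0), (5, 0, 0), (10, 0, 0), (0, 0, 0), (5, 0, 0), (10, 0, 0), (0, 0, 0), (2, 0, 0), (3, 0, 0), (8, 0, 0), (1, 0, 0), (6, 0, 0), (7, 0, 0), (9, 0, 0), (10, 0, 0), (4, 0, 0), (9, 0, 0), (10, 0, 0), (4, 0, 0), (7, 0, 0), (0, 0, 0), (5, 0, 0), (6, 0, 0), (8, 0, 0), (9, 0, 0), (3, 0, 0), (8, 0, 0), (9, 0, 0), (3, 0, 0), (6, 0, 0), (4, 0, 0), (5, 0, 0), (10, 0, 0), (2, 0, 0), (2, 0, 0), (10, 0, 0), (0, 0, 0), (5,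 0, 0), (8, 0, 0), (8, 0, 0), (4, 0, 0), (3, 0, 0), (8, 0, 0), (2, 0, 0), (3, 0, 0), (5, 0, 0), (6, 0, 0), (0, 0, 0), (5, 0, 0), (6, 0, 0), (0, 0, 0), (3, 0, 0), (1, 0, 0), (2, 0, 0), (7, 0, 0), (10, 0, 0), (10, 0, 0), (0, 0, 0), (1, 0, 0), (6, 0, 0), (9, 0, 0), (9, 0, 0), (5, 0, 0), (7, 0, 0), (8, 0, 0), (2, 0, 0), (5, 0, 0), (5, 0, 0), (1, 0, 0), (6, 0, 0), (7, 0, 0), (1, 0, 0), (4, 0, 0), (4, 0, 0), (2, 0, 0), (3, 0, 0), (8, 0, 0), (0, 0, 0), (2, 0, 0), (3, 0, 0), (8, 0, 0), (5, 0, 0), (6, 0, 0), (10, 0, 0), (1, 0, 0), (5, 0, 0), (6, 0, 0), (3, 0, 0), (8, 0, 0), (9, 0, 0), (0, 0, 0), (3, 0, 0), (8, 0, 0), (9, 0, 0), (7, 0, 0), (7, 0, 0), (10, 0, 0), (4, 0, 0), (5, 0, 0), (10, 0, 0), (6, 0, 0), (6, 0, 0), (9, 0, 0), (3, 0, 0),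 (4, 0, 0), (6, 0, 0), (2, 0, 0), (2, 0, 0), (5, 0, 0), (10, 0, 0), (0, 0, 0), (1, 0, 0), (1, 0, 0), (4, 0, 0), (9, 0, 0), (10, 0, 0), (8, 0, 0), (0, 0, 0), (5, 0, 0), (6, 0, 0), (0, 0, 0), (5, 0, 0), (6, 0, 0), (8, 0, 0), (9, 0, 0), (3, 0, 0), (8, 0, 0), (7, 0, 0), (3, 0, 0), (3, 0, 0), (6, 0, 0), (0, 0, 0), (1, 0, 0), (9, 0, 0), (9, 0, 0), (1, 0, 0), (6, 0, 0), (7, 0, 0), (5, 0, 0), (8, 0, 0), (2, 0, 0), (3, 0, 0), (8, 0, 0), (2, 0, 0), (3, 0, 0), (5, 0, 0), (6, 0, 0), (0, 0, 0), (4, 0, 0), (7, 0, 0), (1, 0, 0), (2, 0, 0), (7, 0, 0), (1, 0, 0), (2, 0, 0), (4, 0, 0), (5, 0, 0), (10, 0, 0), (3, 0, 0), (8, 0, 0), (9, 0, 0), (0, 0, 0), (1, 0, 0), (6, 0, 0), (0, 0, 0), (1, 0, 0), (6, 0, 0), (9, 0, 0), (9, 0, 0), (3, 0, 0), (4, 0, 0),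 (6, 0, 0), (7, 0, 0), (1, 0, 0), (6, 0, 0), (7, 0, 0), (1, 0, 0), (4, 0, 0), (2, 0, 0), (3, 0, 0), (8, 0, 0), (0, 0, 0), (0, 0, 0), (1, 0, 0), (2, 0, 0), (7, 0, 0), (10, 0, 0), (10, 0, 0), (6, 0, 0), (1, 0, 0), (9, 0, 0), (10, 0, 0), (4, 0, 0), (7, 0, 0), (7, 0, 0), (3, 0, 0), (2, 0, 0), (9, 0, 0), (8, 0, 0), (4, 0, 0), (4, 0, 0), (7, 0, 0), (1, 0, 0), (2, 0, 0)], []],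
  [[(4, 0, 0), (5, 0, 0), (8, 0, 0), (6, 0, 0), (9, 0, 0), (9, 0, 0), (9, 0, 0), (9, 0, 0), (9, 0, 0), (9, 0, 0), (1, 0, 0), (10, 0, 0), (2, 0, 0), (3, 0, 0), (9, 0, 0), (9, 0, 0), (9, 0, 0), (1, 0, 0), (10, 0, 0), (2, 0, 0), (3, 0, 0), (9, 0, 0), (1, 0, 0), (10, 0, 0), (2, 0, 0), (3, 0, 0), (1, 0, 0), (10, 0, 0), (2, 0, 0), (3, 0, 0), (2, 0, 0), (5, 0, 0), (6, 0, 0), (3, 0, 0), (4, 0, 0), (7, 0, 0), (1, 0, 0), (10, 0, 0), (2, 0, 0), (3, 0, 0), (2, 0, 0), (5, 0, 0), (6, 0, 0), (3, 0, 0), (4, 0, 0), (7, 0, 0), (2, 0, 0), (5, 0, 0), (6, 0, 0), (3, 0, 0), (4, 0, 0), (7, 0, 0), (6, 0, 0), (7, 0, 0), (10, 0, 0), (8, 0, 0), (2, 0, 0), (5, 0, 0), (6, 0, 0), (3, 0, 0), (4, 0, 0), (7, 0, 0), (6, 0, 0), (7, 0, 0), (10, 0, 0), (8, 0, 0),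 (6, 0, 0), (7, 0, 0), (10, 0, 0), (8, 0, 0), (0, 0, 0), (6, 0, 0), (7, 0, 0), (10, 0, 0), (8, 0, 0), (0, 0, 0), (0, 0, 0), (0, 0, 0), (2, 0, 0), (5, 0, 0), (6, 0, 0), (3, 0, 0), (4, 0, 0), (7, 0, 0), (6, 0, 0), (7, 0, 0), (10, 0, 0), (8, 0, 0), (6, 0, 0), (7, 0, 0), (10, 0, 0), (8, 0, 0), (0, 0, 0), (6, 0, 0), (7, 0, 0), (10, 0, 0), (8, 0, 0), (0, 0, 0), (0, 0, 0), (6, 0, 0), (7, 0, 0), (10, 0, 0), (8, 0, 0), (0, 0, 0), (0, 0, 0), (6, 0, 0), (7, 0, 0), (10, 0, 0), (8, 0, 0), (0, 0, 0), (6, 0, 0), (7, 0, 0), (10, 0, 0), (8, 0, 0), (9, 0, 0), (10, 0, 0), (2, 0, 0), (7, 0, 0), (8, 0, 0), (10, 0, 0), (1, 0, 0), (3, 0, 0), (4, 0, 0), (9, 0, 0), (1, 0, 0), (2, 0, 0), (3, 0, 0), (1, 0, 0), (4, 0, 0), (5, 0, 0), (0, 0, 0), (3, 0, 0), (1,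 0, 0), (4, 0, 0), (5, 0, 0), (0, 0, 0), (0, 0, 0), (3, 0, 0), (1, 0, 0), (4, 0, 0), (5, 0, 0), (0, 0, 0), (0, 0, 0), (3, 0, 0), (1, 0, 0), (4, 0, 0), (5, 0, 0), (0, 0, 0), (3, 0, 0), (1, 0, 0), (4, 0, 0), (5, 0, 0), (3, 0, 0), (1, 0, 0), (4, 0, 0), (5, 0, 0), (4, 0, 0), (7, 0, 0), (8, 0, 0), (5, 0, 0), (6, 0, 0), (9, 0, 0), (0, 0, 0), (0, 0, 0), (0, 0, 0), (3, 0, 0), (1, 0, 0), (4, 0, 0), (5, 0, 0), (0, 0, 0), (3, 0, 0), (1, 0, 0), (4, 0, 0), (5, 0, 0), (3, 0, 0), (1, 0, 0), (4, 0, 0), (5, 0, 0), (4, 0, 0), (7, 0, 0), (8, 0, 0), (5, 0, 0), (6, 0, 0), (9, 0, 0), (3, 0, 0), (1, 0, 0), (4, 0, 0), (5, 0, 0), (4, 0, 0), (7, 0, 0), (8, 0, 0), (5, 0, 0), (6, 0, 0), (9, 0, 0), (4, 0, 0), (7, 0, 0), (8, 0, 0), (5, 0, 0), (6, 0, 0), (9,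 0, 0), (8, 0, 0), (9, 0, 0), (1, 0, 0), (10, 0, 0), (4, 0, 0), (7, 0, 0), (8, 0, 0), (5, 0, 0), (6, 0, 0), (9, 0, 0), (8, 0, 0), (9, 0, 0), (1, 0, 0), (10, 0, 0), (8, 0, 0), (9, 0, 0), (1, 0, 0), (10, 0, 0), (2, 0, 0), (8, 0, 0), (9, 0, 0), (1, 0, 0), (10, 0, 0), (2, 0, 0), (2, 0, 0), (2, 0, 0), (8, 0, 0), (9, 0, 0), (1, 0, 0), (10, 0, 0), (2, 0, 0), (2, 0, 0), (2, 0, 0), (2, 0, 0), (2, 0, 0), (2, 0, 0), (5, 0, 0), (3, 0, 0), (6, 0, 0), (7, 0, 0)], [], []],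
  [[(0, 4, 0), (0, 5, 0), (0, 8, 0), (0, 6, 0), (1, 6, 0), (10, 1, 0), (2, 3, 0), (4, 8, 0), (7, 10, 0), (5, 5, 0), (6, 5, 0), (6, 3, 0), (6, 6, 0), (6, 7, 0), (3, 0, 0), (8, 7, 0), (6, 2, 0), (7, 2, 0), (7, 0, 0), (7, 3, 0), (7, 4, 0), (9, 4, 0), (10, 4, 0), (10, 2, 0), (10, 5, 0), (10, 6, 0), (8, 10, 0), (8, 8, 0), (8, 0, 0), (8, 1, 0), (9, 8, 0), (9, 0, 0), (9, 1, 0), (9, 9, 0), (9, 10, 0), (9, 2, 0), (2, 6, 0), (2, 4, 0), (2, 7, 0), (2, 8, 0), (3, 4, 0), (3, 7, 0), (3, 8, 0), (3, 5, 0), (3, 6, 0), (3, 9, 0), (1, 10, 0), (1, 2, 0), (1, 3, 0), (1, 0, 0), (1, 1, 0), (1, 4, 0), (2, 0, 0), (2, 1, 0), (2, 4, 0), (2, 2, 0), (4, 1, 0), (4, 4, 0), (4, 5, 0), (4, 2, 0), (4, 3, 0), (4, 6, 0), (5, 2, 0), (5, 3, 0), (5, 6, 0), (5, 4, 0),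 (3, 8, 0), (3, 9, 0), (3, 1, 0), (3, 10, 0), (4, 10, 0), (8, 4, 0), (8, 5, 0), (8, 8, 0), (8, 6, 0), (9, 6, 0), (7, 1, 0), (10, 3, 0), (5, 9, 0), (5, 1, 0), (5, 2, 0), (5, 10, 0), (5, 0, 0), (5, 3, 0), (6, 10, 0), (6, 0, 0), (6, 3, 0), (6, 1, 0), (4, 5, 0), (4, 6, 0), (4, 9, 0), (4, 7, 0), (5, 7, 0), (7, 7, 0), (7, 8, 0), (7, 0, 0), (7, 9, 0), (8, 9, 0), (6, 4, 0), (9, 1, 0), (9, 2, 0), (9, 5, 0), (9, 3, 0), (10, 3, 0), (8, 9, 0), (1, 3, 0), (1, 4, 0), (1, 7, 0), (1, 5, 0), (2, 5, 0), (10, 9, 0), (10, 10, 0), (10, 2, 0), (10, 0, 0), (0, 9, 0), (0, 10, 0), (0, 2, 0), (0, 7, 0), (0, 8, 0), (0, 10, 0), (0, 1, 0), (0, 3, 0), (0, 4, 0), (0, 9, 0), (0, 1, 0), (0, 2, 0), (1, 0, 0), (1, 9, 0), (1, 1, 0), (1, 2, 0), (9, 6, 0), (10, 6, 0),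 (10, 4, 0), (10, 7, 0), (10, 8, 0), (3, 2, 0), (1, 8, 0), (2, 8, 0), (2, 6, 0), (2, 9, 0), (2, 10, 0), (5, 7, 0), (3, 2, 0), (4, 2, 0), (4, 0, 0), (4, 3, 0), (4, 4, 0), (6, 4, 0), (7, 4, 0), (7, 2, 0), (7, 5, 0), (7, 6, 0), (5, 10, 0), (5, 8, 0), (5, 0, 0), (5, 1, 0), (6, 8, 0), (6, 0, 0), (6, 1, 0), (6, 9, 0), (6, 10, 0), (6, 2, 0), (1, 8, 0), (4, 10, 0), (2, 5, 0), (3, 5, 0), (3, 3, 0), (3, 6, 0), (3, 7, 0), (7, 1, 0), (8, 1, 0), (8, 10, 0), (8, 2, 0), (8, 3, 0), (6, 7, 0), (6, 5, 0), (6, 8, 0), (6, 9, 0), (7, 5, 0), (7, 8, 0), (7, 9, 0), (7, 6, 0), (7, 7, 0), (7, 10, 0), (9, 9, 0), (9, 7, 0), (9, 10, 0), (9, 0, 0), (10, 7, 0), (10, 10, 0), (10, 0, 0), (10, 8, 0), (10, 9, 0), (10, 1, 0), (8, 2, 0), (8, 5, 0), (8, 6, 0), (8, 3,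 0), (8, 4, 0), (8, 7, 0), (9, 3, 0), (9, 4, 0), (9, 7, 0), (9, 5, 0), (2, 9, 0), (2, 1, 0), (2, 2, 0), (2, 10, 0), (2, 0, 0), (2, 3, 0), (3, 10, 0), (3, 0, 0), (3, 3, 0), (3, 1, 0), (1, 5, 0), (1, 6, 0), (1, 9, 0), (1, 7, 0), (2, 7, 0), (4, 7, 0), (4, 8, 0), (4, 0, 0), (4, 9, 0), (5, 9, 0), (3, 4, 0), (8, 0, 0), (5, 4, 0), (5, 5, 0), (5, 8, 0), (5, 6, 0), (6, 6, 0), (4, 1, 0), (7, 3, 0), (9, 8, 0), (1, 10, 0), (10, 5, 0), (0, 5, 0), (0, 3, 0), (0, 6, 0), (0, 7, 0)], [(4, 0, 0), (5, 0, 0), (8, 0, 0), (6, 0, 0), (6, 0, 0), (1, 0, 0), (3, 0, 0), (8, 0, 0), (10, 0, 0), (5, 0, 0), (5, 0, 0), (3, 0, 0), (6, 0, 0), (7, 0, 0), (0, 0, 0), (7, 0, 0), (2, 0, 0), (2, 0, 0), (0, 0, 0), (3, 0, 0), (4, 0, 0), (4, 0, 0), (4, 0, 0), (2, 0, 0),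 (5, 0, 0), (6, 0, 0), (10, 0, 0), (8, 0, 0), (0, 0, 0), (1, 0, 0), (8, 0, 0), (0, 0, 0), (1, 0, 0), (9, 0, 0), (10, 0, 0), (2, 0, 0), (6, 0, 0), (4, 0, 0), (7, 0, 0), (8, 0, 0), (4, 0, 0), (7, 0, 0), (8, 0, 0), (5, 0, 0), (6, 0, 0), (9, 0, 0), (10, 0, 0), (2, 0, 0), (3, 0, 0), (0, 0, 0), (1, 0, 0), (4, 0, 0), (0, 0, 0), (1, 0, 0), (4, 0, 0), (2, 0, 0), (1, 0, 0), (4, 0, 0), (5, 0, 0), (2, 0, 0), (3, 0, 0), (6, 0, 0), (2, 0, 0), (3, 0, 0), (6, 0, 0), (4, 0, 0), (8, 0, 0), (9, 0, 0), (1, 0, 0), (10, 0, 0), (10, 0, 0), (4, 0, 0), (5, 0, 0), (8, 0, 0), (6, 0, 0), (6, 0, 0), (1, 0, 0), (3, 0, 0), (9, 0, 0), (1, 0, 0), (2, 0, 0), (10, 0, 0), (0, 0, 0), (3, 0, 0), (10, 0, 0), (0, 0, 0), (3, 0, 0), (1, 0, 0), (5, 0, 0), (6, 0, 0), (9,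 0, 0), (7, 0, 0), (7, 0, 0), (7, 0, 0), (8, 0, 0), (0, 0, 0), (9, 0, 0), (9, 0, 0), (4, 0, 0), (1, 0, 0), (2, 0, 0), (5, 0, 0), (3, 0, 0), (3, 0, 0), (9, 0, 0), (3, 0, 0), (4, 0, 0), (7, 0, 0), (5, 0, 0), (5, 0, 0), (9, 0, 0), (10, 0, 0), (2, 0, 0), (0, 0, 0), (9, 0, 0), (10, 0, 0), (2, 0, 0), (7, 0, 0), (8, 0, 0), (10, 0, 0), (1, 0, 0), (3, 0, 0), (4, 0, 0), (9, 0, 0), (1, 0, 0), (2, 0, 0), (0, 0, 0), (9, 0, 0), (1, 0, 0), (2, 0, 0), (6, 0, 0), (6, 0, 0), (4, 0, 0), (7, 0, 0), (8, 0, 0), (2, 0, 0), (8, 0, 0), (8, 0, 0), (6, 0, 0), (9, 0, 0), (10, 0, 0), (7, 0, 0), (2, 0, 0), (2, 0, 0), (0, 0, 0), (3, 0, 0), (4, 0, 0), (4, 0, 0), (4, 0, 0), (2, 0, 0), (5, 0, 0), (6, 0, 0), (10, 0, 0), (8, 0, 0), (0, 0, 0), (1, 0, 0), (8, 0, 0),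 (0, 0, 0), (1, 0, 0), (9, 0, 0), (10, 0, 0), (2, 0, 0), (8, 0, 0), (10, 0, 0), (5, 0, 0), (5, 0, 0), (3, 0, 0), (6, 0, 0), (7, 0, 0), (1, 0, 0), (1, 0, 0), (10, 0, 0), (2, 0, 0), (3, 0, 0), (7, 0, 0), (5, 0, 0), (8, 0, 0), (9, 0, 0), (5, 0, 0), (8, 0, 0), (9, 0, 0), (6, 0, 0), (7, 0, 0), (10, 0, 0), (9, 0, 0), (7, 0, 0), (10, 0, 0), (0, 0, 0), (7, 0, 0), (10, 0, 0), (0, 0, 0), (8, 0, 0), (9, 0, 0), (1, 0, 0), (2, 0, 0), (5, 0, 0), (6, 0, 0), (3, 0, 0), (4, 0, 0), (7, 0, 0), (3, 0, 0), (4, 0, 0), (7, 0, 0), (5, 0, 0), (9, 0, 0), (1, 0, 0), (2, 0, 0), (10, 0, 0), (0, 0, 0), (3, 0, 0), (10, 0, 0), (0, 0, 0), (3, 0, 0), (1, 0, 0), (5, 0, 0), (6, 0, 0), (9, 0, 0), (7, 0, 0), (7, 0, 0), (7, 0, 0), (8, 0, 0), (0, 0, 0), (9, 0, 0), (9,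 0, 0), (4, 0, 0), (0, 0, 0), (4, 0, 0), (5, 0, 0), (8, 0, 0), (6, 0, 0), (6, 0, 0), (1, 0, 0), (3, 0, 0), (8, 0, 0), (10, 0, 0), (5, 0, 0), (5, 0, 0), (3, 0, 0), (6, 0, 0), (7, 0, 0)], []],
  [[(0, 4, 0), (0, 5, 0), (0, 8, 0), (0, 6, 0), (1, 6, 0), (6, 2, 0), (7, 10, 0), (9, 4, 0), (10, 1, 0), (4, 8, 0), (5, 8, 0), (5, 6, 0), (5, 9, 0), (5, 10, 0), (5, 5, 0), (8, 7, 0), (2, 3, 0), (3, 3, 0), (3, 1, 0), (3, 4, 0), (3, 5, 0), (3, 0, 0), (4, 0, 0), (4, 9, 0), (4, 1, 0), (4, 2, 0), (9, 7, 0), (9, 5, 0), (9, 8, 0), (9, 9, 0), (10, 5, 0), (10, 8, 0), (10, 9, 0), (10, 6, 0), (10, 7, 0), (10, 10, 0), (1, 9, 0), (1, 7, 0), (1, 10, 0), (1, 0, 0), (2, 7, 0), (2, 10, 0), (2, 0, 0), (2, 8, 0), (2, 9, 0), (2, 1, 0), (7, 3, 0), (7, 6, 0), (7,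 7, 0), (7, 4, 0), (7, 5, 0), (7, 8, 0), (8, 4, 0), (8, 5, 0), (8, 8, 0), (8, 6, 0), (8, 0, 0), (8, 3, 0), (8, 4, 0), (8, 1, 0), (8, 2, 0), (8, 5, 0), (9, 1, 0), (9, 2, 0), (9, 5, 0), (9, 3, 0), (3, 8, 0), (3, 9, 0), (3, 1, 0), (3, 10, 0), (4, 10, 0), (6, 10, 0), (6, 0, 0), (6, 3, 0), (6, 1, 0), (7, 1, 0), (1, 8, 0), (2, 5, 0), (6, 6, 0), (6, 9, 0), (6, 10, 0), (6, 7, 0), (6, 8, 0), (6, 0, 0), (7, 7, 0), (7, 8, 0), (7, 0, 0), (7, 9, 0), (1, 3, 0), (1, 4, 0), (1, 7, 0), (1, 5, 0), (2, 5, 0), (2, 0, 0), (2, 1, 0), (2, 4, 0), (2, 2, 0), (3, 2, 0), (8, 9, 0), (4, 5, 0), (4, 6, 0), (4, 9, 0), (4, 7, 0), (5, 7, 0), (10, 3, 0), (5, 2, 0), (5, 3, 0), (5, 6, 0), (5, 4, 0), (6, 4, 0), (10, 9, 0), (10, 10, 0), (10, 2, 0), (10, 0, 0), (0, 9,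 0), (0, 10, 0), (0, 2, 0), (0, 7, 0), (0, 8, 0), (0, 10, 0), (0, 1, 0), (0, 3, 0), (0, 4, 0), (0, 9, 0), (0, 1, 0), (0, 2, 0), (1, 0, 0), (1, 9, 0), (1, 1, 0), (1, 2, 0), (5, 7, 0), (6, 7, 0), (6, 5, 0), (6, 8, 0), (6, 9, 0), (1, 8, 0), (6, 4, 0), (7, 4, 0), (7, 2, 0), (7, 5, 0), (7, 6, 0), (3, 2, 0), (8, 9, 0), (9, 9, 0), (9, 7, 0), (9, 10, 0), (9, 0, 0), (9, 6, 0), (10, 6, 0), (10, 4, 0), (10, 7, 0), (10, 8, 0), (4, 2, 0), (4, 0, 0), (4, 3, 0), (4, 4, 0), (5, 0, 0), (5, 3, 0), (5, 4, 0), (5, 1, 0), (5, 2, 0), (5, 5, 0), (9, 6, 0), (10, 3, 0), (4, 10, 0), (5, 10, 0), (5, 8, 0), (5, 0, 0), (5, 1, 0), (7, 1, 0), (8, 1, 0), (8, 10, 0), (8, 2, 0), (8, 3, 0), (2, 8, 0), (2, 6, 0), (2, 9, 0), (2, 10, 0), (3, 6, 0), (3, 9, 0), (3, 10,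 0), (3, 7, 0), (3, 8, 0), (3, 0, 0), (3, 5, 0), (3, 3, 0), (3, 6, 0), (3, 7, 0), (4, 3, 0), (4, 6, 0), (4, 7, 0), (4, 4, 0), (4, 5, 0), (4, 8, 0), (9, 10, 0), (9, 2, 0), (9, 3, 0), (9, 0, 0), (9, 1, 0), (9, 4, 0), (10, 0, 0), (10, 1, 0), (10, 4, 0), (10, 2, 0), (1, 1, 0), (1, 4, 0), (1, 5, 0), (1, 2, 0), (1, 3, 0), (1, 6, 0), (2, 2, 0), (2, 3, 0), (2, 6, 0), (2, 4, 0), (7, 9, 0), (7, 10, 0), (7, 2, 0), (7, 0, 0), (8, 0, 0), (8, 6, 0), (8, 7, 0), (8, 10, 0), (8, 8, 0), (9, 8, 0), (3, 4, 0), (6, 6, 0), (6, 1, 0), (6, 2, 0), (6, 5, 0), (6, 3, 0), (7, 3, 0), (1, 10, 0), (2, 7, 0), (4, 1, 0), (5, 9, 0), (10, 5, 0), (0, 5, 0), (0, 3, 0), (0, 6, 0), (0, 7, 0)], [(4, 0, 0), (5, 0, 0), (8, 0, 0), (6, 0, 0), (6, 0, 0), (2, 0, 0), (10, 0,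 0), (4, 0, 0), (1, 0, 0), (8, 0, 0), (8, 0, 0), (6, 0, 0), (9, 0, 0), (10, 0, 0), (5, 0, 0), (7, 0, 0), (3, 0, 0), (3, 0, 0), (1, 0, 0), (4, 0, 0), (5, 0, 0), (0, 0, 0), (0, 0, 0), (9, 0, 0), (1, 0, 0), (2, 0, 0), (7, 0, 0), (5, 0, 0), (8, 0, 0), (9, 0, 0), (5, 0, 0), (8, 0, 0), (9, 0, 0), (6, 0, 0), (7, 0, 0), (10, 0, 0), (9, 0, 0), (7, 0, 0), (10, 0, 0), (0, 0, 0), (7, 0, 0), (10, 0, 0), (0, 0, 0), (8, 0, 0), (9, 0, 0), (1, 0, 0), (3, 0, 0), (6, 0, 0), (7, 0, 0), (4, 0, 0), (5, 0, 0), (8, 0, 0), (4, 0, 0), (5, 0, 0), (8, 0, 0), (6, 0, 0), (0, 0, 0), (3, 0, 0), (4, 0, 0), (1, 0, 0), (2, 0, 0), (5, 0, 0), (1, 0, 0), (2, 0, 0), (5, 0, 0), (3, 0, 0), (8, 0, 0), (9, 0, 0), (1, 0, 0), (10, 0, 0), (10, 0, 0), (10, 0, 0), (0, 0, 0),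 (3, 0, 0), (1, 0, 0), (1, 0, 0), (8, 0, 0), (5, 0, 0), (6, 0, 0), (9, 0, 0), (10, 0, 0), (7, 0, 0), (8, 0, 0), (0, 0, 0), (7, 0, 0), (8, 0, 0), (0, 0, 0), (9, 0, 0), (3, 0, 0), (4, 0, 0), (7, 0, 0), (5, 0, 0), (5, 0, 0), (0, 0, 0), (1, 0, 0), (4, 0, 0), (2, 0, 0), (2, 0, 0), (9, 0, 0), (5, 0, 0), (6, 0, 0), (9, 0, 0), (7, 0, 0), (7, 0, 0), (3, 0, 0), (2, 0, 0), (3, 0, 0), (6, 0, 0), (4, 0, 0), (4, 0, 0), (9, 0, 0), (10, 0, 0), (2, 0, 0), (0, 0, 0), (9, 0, 0), (10, 0, 0), (2, 0, 0), (7, 0, 0), (8, 0, 0), (10, 0, 0), (1, 0, 0), (3, 0, 0), (4, 0, 0), (9, 0, 0), (1, 0, 0), (2, 0, 0), (0, 0, 0), (9, 0, 0), (1, 0, 0), (2, 0, 0), (7, 0, 0), (7, 0, 0), (5, 0, 0), (8, 0, 0), (9, 0, 0), (8, 0, 0), (4, 0, 0), (4, 0, 0), (2, 0, 0), (5, 0,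 0), (6, 0, 0), (2, 0, 0), (9, 0, 0), (9, 0, 0), (7, 0, 0), (10, 0, 0), (0, 0, 0), (6, 0, 0), (6, 0, 0), (4, 0, 0), (7, 0, 0), (8, 0, 0), (2, 0, 0), (0, 0, 0), (3, 0, 0), (4, 0, 0), (0, 0, 0), (3, 0, 0), (4, 0, 0), (1, 0, 0), (2, 0, 0), (5, 0, 0), (6, 0, 0), (3, 0, 0), (10, 0, 0), (10, 0, 0), (8, 0, 0), (0, 0, 0), (1, 0, 0), (1, 0, 0), (1, 0, 0), (10, 0, 0), (2, 0, 0), (3, 0, 0), (8, 0, 0), (6, 0, 0), (9, 0, 0), (10, 0, 0), (6, 0, 0), (9, 0, 0), (10, 0, 0), (7, 0, 0), (8, 0, 0), (0, 0, 0), (5, 0, 0), (3, 0, 0), (6, 0, 0), (7, 0, 0), (3, 0, 0), (6, 0, 0), (7, 0, 0), (4, 0, 0), (5, 0, 0), (8, 0, 0), (10, 0, 0), (2, 0, 0), (3, 0, 0), (0, 0, 0), (1, 0, 0), (4, 0, 0), (0, 0, 0), (1, 0, 0), (4, 0, 0), (2, 0, 0), (1, 0, 0), (4, 0, 0),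 (5, 0, 0), (2, 0, 0), (3, 0, 0), (6, 0, 0), (2, 0, 0), (3, 0, 0), (6, 0, 0), (4, 0, 0), (9, 0, 0), (10, 0, 0), (2, 0, 0), (0, 0, 0), (0, 0, 0), (6, 0, 0), (7, 0, 0), (10, 0, 0), (8, 0, 0), (8, 0, 0), (4, 0, 0), (6, 0, 0), (1, 0, 0), (2, 0, 0), (5, 0, 0), (3, 0, 0), (3, 0, 0), (10, 0, 0), (7, 0, 0), (1, 0, 0), (9, 0, 0), (5, 0, 0), (5, 0, 0), (3, 0, 0), (6, 0, 0), (7, 0, 0)], []],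
  [[(0, 4, 0), (0, 5, 0), (0, 8, 0), (0, 6, 0), (1, 6, 0), (8, 7, 0), (10, 1, 0), (5, 5, 0), (7, 10, 0), (3, 0, 0), (4, 0, 0), (4, 9, 0), (4, 1, 0), (4, 2, 0), (9, 4, 0), (6, 2, 0), (2, 3, 0), (3, 3, 0), (3, 1, 0), (3, 4, 0), (3, 5, 0), (4, 8, 0), (5, 8, 0), (5, 6, 0), (5, 9, 0), (5, 10, 0), (1, 9, 0), (1, 7, 0), (1, 10, 0), (1, 0, 0), (2, 7, 0), (2, 10, 0), (2, 0, 0), (2, 8, 0), (2, 9, 0), (2, 1, 0), (9, 7, 0), (9, 5, 0), (9, 8, 0), (9, 9, 0), (10, 5, 0), (10, 8, 0), (10, 9, 0), (10, 6, 0), (10, 7, 0), (10, 10, 0), (6, 6, 0), (6, 9, 0), (6, 10, 0), (6, 7, 0), (6, 8, 0), (6, 0, 0), (7, 7, 0), (7, 8, 0), (7, 0, 0), (7, 9, 0), (8, 0, 0), (8, 3, 0), (8, 4, 0), (8, 1, 0), (8, 2, 0), (8, 5, 0), (9, 1, 0), (9, 2, 0), (9, 5, 0), (9, 3,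 0), (5, 2, 0), (5, 3, 0), (5, 6, 0), (5, 4, 0), (6, 4, 0), (2, 0, 0), (2, 1, 0), (2, 4, 0), (2, 2, 0), (3, 2, 0), (10, 3, 0), (1, 8, 0), (7, 3, 0), (7, 6, 0), (7, 7, 0), (7, 4, 0), (7, 5, 0), (7, 8, 0), (8, 4, 0), (8, 5, 0), (8, 8, 0), (8, 6, 0), (4, 5, 0), (4, 6, 0), (4, 9, 0), (4, 7, 0), (5, 7, 0), (6, 10, 0), (6, 0, 0), (6, 3, 0), (6, 1, 0), (7, 1, 0), (3, 2, 0), (1, 3, 0), (1, 4, 0), (1, 7, 0), (1, 5, 0), (2, 5, 0), (9, 6, 0), (3, 8, 0), (3, 9, 0), (3, 1, 0), (3, 10, 0), (4, 10, 0), (10, 9, 0), (10, 10, 0), (10, 2, 0), (10, 0, 0), (0, 9, 0), (0, 10, 0), (0, 2, 0), (0, 7, 0), (0, 8, 0), (0, 10, 0), (0, 1, 0), (0, 3, 0), (0, 4, 0), (0, 9, 0), (0, 1, 0), (0, 2, 0), (1, 0, 0), (1, 9, 0), (1, 1, 0), (1, 2, 0), (7, 1, 0), (8, 1,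 0), (8, 10, 0), (8, 2, 0), (8, 3, 0), (2, 5, 0), (9, 6, 0), (10, 6, 0), (10, 4, 0), (10, 7, 0), (10, 8, 0), (8, 9, 0), (4, 10, 0), (5, 10, 0), (5, 8, 0), (5, 0, 0), (5, 1, 0), (6, 4, 0), (7, 4, 0), (7, 2, 0), (7, 5, 0), (7, 6, 0), (3, 5, 0), (3, 3, 0), (3, 6, 0), (3, 7, 0), (4, 3, 0), (4, 6, 0), (4, 7, 0), (4, 4, 0), (4, 5, 0), (4, 8, 0), (10, 3, 0), (1, 8, 0), (8, 9, 0), (9, 9, 0), (9, 7, 0), (9, 10, 0), (9, 0, 0), (5, 7, 0), (6, 7, 0), (6, 5, 0), (6, 8, 0), (6, 9, 0), (2, 8, 0), (2, 6, 0), (2, 9, 0), (2, 10, 0), (3, 6, 0), (3, 9, 0), (3, 10, 0), (3, 7, 0), (3, 8, 0), (3, 0, 0), (4, 2, 0), (4, 0, 0), (4, 3, 0), (4, 4, 0), (5, 0, 0), (5, 3, 0), (5, 4, 0), (5, 1, 0), (5, 2, 0), (5, 5, 0), (1, 1, 0), (1, 4, 0), (1, 5, 0), (1, 2,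 0), (1, 3, 0), (1, 6, 0), (2, 2, 0), (2, 3, 0), (2, 6, 0), (2, 4, 0), (9, 10, 0), (9, 2, 0), (9, 3, 0), (9, 0, 0), (9, 1, 0), (9, 4, 0), (10, 0, 0), (10, 1, 0), (10, 4, 0), (10, 2, 0), (6, 1, 0), (6, 2, 0), (6, 5, 0), (6, 3, 0), (7, 3, 0), (8, 6, 0), (8, 7, 0), (8, 10, 0), (8, 8, 0), (9, 8, 0), (5, 9, 0), (2, 7, 0), (7, 9, 0), (7, 10, 0), (7, 2, 0), (7, 0, 0), (8, 0, 0), (4, 1, 0), (6, 6, 0), (1, 10, 0), (3, 4, 0), (10, 5, 0), (0, 5, 0), (0, 3, 0), (0, 6, 0), (0, 7, 0)], [(4, 0, 0), (5, 0, 0), (8, 0, 0), (6, 0, 0), (6, 0, 0), (7, 0, 0), (1, 0, 0), (5, 0, 0), (10, 0, 0), (0, 0, 0), (0, 0, 0), (9, 0, 0), (1, 0, 0), (2, 0, 0), (4, 0, 0), (2, 0, 0), (3, 0, 0), (3, 0, 0), (1, 0, 0), (4, 0, 0), (5, 0, 0), (8, 0, 0), (8, 0, 0), (6, 0,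 0), (9, 0, 0), (10, 0, 0), (9, 0, 0), (7, 0, 0), (10, 0, 0), (0, 0, 0), (7, 0, 0), (10, 0, 0), (0, 0, 0), (8, 0, 0), (9, 0, 0), (1, 0, 0), (7, 0, 0), (5, 0, 0), (8, 0, 0), (9, 0, 0), (5, 0, 0), (8, 0, 0), (9, 0, 0), (6, 0, 0), (7, 0, 0), (10, 0, 0), (6, 0, 0), (9, 0, 0), (10, 0, 0), (7, 0, 0), (8, 0, 0), (0, 0, 0), (7, 0, 0), (8, 0, 0), (0, 0, 0), (9, 0, 0), (0, 0, 0), (3, 0, 0), (4, 0, 0), (1, 0, 0), (2, 0, 0), (5, 0, 0), (1, 0, 0), (2, 0, 0), (5, 0, 0), (3, 0, 0), (2, 0, 0), (3, 0, 0), (6, 0, 0), (4, 0, 0), (4, 0, 0), (0, 0, 0), (1, 0, 0), (4, 0, 0), (2, 0, 0), (2, 0, 0), (3, 0, 0), (8, 0, 0), (3, 0, 0), (6, 0, 0), (7, 0, 0), (4, 0, 0), (5, 0, 0), (8, 0, 0), (4, 0, 0), (5, 0, 0), (8, 0, 0), (6, 0, 0), (5, 0, 0), (6, 0, 0), (9,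 0, 0), (7, 0, 0), (7, 0, 0), (10, 0, 0), (0, 0, 0), (3, 0, 0), (1, 0, 0), (1, 0, 0), (2, 0, 0), (3, 0, 0), (4, 0, 0), (7, 0, 0), (5, 0, 0), (5, 0, 0), (6, 0, 0), (8, 0, 0), (9, 0, 0), (1, 0, 0), (10, 0, 0), (10, 0, 0), (9, 0, 0), (10, 0, 0), (2, 0, 0), (0, 0, 0), (9, 0, 0), (10, 0, 0), (2, 0, 0), (7, 0, 0), (8, 0, 0), (10, 0, 0), (1, 0, 0), (3, 0, 0), (4, 0, 0), (9, 0, 0), (1, 0, 0), (2, 0, 0), (0, 0, 0), (9, 0, 0), (1, 0, 0), (2, 0, 0), (1, 0, 0), (1, 0, 0), (10, 0, 0), (2, 0, 0), (3, 0, 0), (5, 0, 0), (6, 0, 0), (6, 0, 0), (4, 0, 0), (7, 0, 0), (8, 0, 0), (9, 0, 0), (10, 0, 0), (10, 0, 0), (8, 0, 0), (0, 0, 0), (1, 0, 0), (4, 0, 0), (4, 0, 0), (2, 0, 0), (5, 0, 0), (6, 0, 0), (5, 0, 0), (3, 0, 0), (6, 0, 0), (7, 0, 0), (3, 0,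 0), (6, 0, 0), (7, 0, 0), (4, 0, 0), (5, 0, 0), (8, 0, 0), (3, 0, 0), (8, 0, 0), (9, 0, 0), (9, 0, 0), (7, 0, 0), (10, 0, 0), (0, 0, 0), (7, 0, 0), (7, 0, 0), (5, 0, 0), (8, 0, 0), (9, 0, 0), (8, 0, 0), (6, 0, 0), (9, 0, 0), (10, 0, 0), (6, 0, 0), (9, 0, 0), (10, 0, 0), (7, 0, 0), (8, 0, 0), (0, 0, 0), (2, 0, 0), (0, 0, 0), (3, 0, 0), (4, 0, 0), (0, 0, 0), (3, 0, 0), (4, 0, 0), (1, 0, 0), (2, 0, 0), (5, 0, 0), (1, 0, 0), (4, 0, 0), (5, 0, 0), (2, 0, 0), (3, 0, 0), (6, 0, 0), (2, 0, 0), (3, 0, 0), (6, 0, 0), (4, 0, 0), (10, 0, 0), (2, 0, 0), (3, 0, 0), (0, 0, 0), (1, 0, 0), (4, 0, 0), (0, 0, 0), (1, 0, 0), (4, 0, 0), (2, 0, 0), (1, 0, 0), (2, 0, 0), (5, 0, 0), (3, 0, 0), (3, 0, 0), (6, 0, 0), (7, 0, 0), (10, 0, 0), (8, 0, 0), (8,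 0, 0), (9, 0, 0), (7, 0, 0), (9, 0, 0), (10, 0, 0), (2, 0, 0), (0, 0, 0), (0, 0, 0), (1, 0, 0), (6, 0, 0), (10, 0, 0), (4, 0, 0), (5, 0, 0), (5, 0, 0), (3, 0, 0), (6, 0, 0), (7, 0, 0)], []],
  [[(0, 4, 0), (0, 5, 0), (0, 8, 0), (0, 6, 0), (1, 6, 0), (8, 7, 0), (7, 10, 0), (3, 0, 0), (2, 3, 0), (9, 4, 0), (10, 4, 0), (10, 2, 0), (10, 5, 0), (10, 6, 0), (4, 8, 0), (10, 1, 0), (6, 2, 0), (7, 2, 0), (7, 0, 0), (7, 3, 0), (7, 4, 0), (5, 5, 0), (6, 5, 0), (6, 3, 0), (6, 6, 0), (6, 7, 0), (2, 6, 0), (2, 4, 0), (2, 7, 0), (2, 8, 0), (3, 4, 0), (3, 7, 0), (3, 8, 0), (3, 5, 0), (3, 6, 0), (3, 9, 0), (8, 10, 0), (8, 8, 0), (8, 0, 0), (8, 1, 0), (9, 8, 0), (9, 0, 0), (9, 1, 0), (9, 9, 0), (9, 10, 0), (9, 2, 0), (5, 9, 0), (5, 1, 0), (5, 2,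 0), (5, 10, 0), (5, 0, 0), (5, 3, 0), (6, 10, 0), (6, 0, 0), (6, 3, 0), (6, 1, 0), (4, 1, 0), (4, 4, 0), (4, 5, 0), (4, 2, 0), (4, 3, 0), (4, 6, 0), (5, 2, 0), (5, 3, 0), (5, 6, 0), (5, 4, 0), (1, 3, 0), (1, 4, 0), (1, 7, 0), (1, 5, 0), (2, 5, 0), (7, 7, 0), (7, 8, 0), (7, 0, 0), (7, 9, 0), (8, 9, 0), (4, 10, 0), (3, 2, 0), (1, 10, 0), (1, 2, 0), (1, 3, 0), (1, 0, 0), (1, 1, 0), (1, 4, 0), (2, 0, 0), (2, 1, 0), (2, 4, 0), (2, 2, 0), (9, 1, 0), (9, 2, 0), (9, 5, 0), (9, 3, 0), (10, 3, 0), (8, 4, 0), (8, 5, 0), (8, 8, 0), (8, 6, 0), (9, 6, 0), (5, 7, 0), (4, 5, 0), (4, 6, 0), (4, 9, 0), (4, 7, 0), (5, 7, 0), (1, 8, 0), (3, 8, 0), (3, 9, 0), (3, 1, 0), (3, 10, 0), (4, 10, 0), (10, 9, 0), (10, 10, 0), (10, 2, 0), (10, 0, 0), (0, 9,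 0), (0, 10, 0), (0, 2, 0), (0, 7, 0), (0, 8, 0), (0, 10, 0), (0, 1, 0), (0, 3, 0), (0, 4, 0), (0, 9, 0), (0, 1, 0), (0, 2, 0), (1, 0, 0), (1, 9, 0), (1, 1, 0), (1, 2, 0), (7, 1, 0), (8, 1, 0), (8, 10, 0), (8, 2, 0), (8, 3, 0), (10, 3, 0), (6, 4, 0), (7, 4, 0), (7, 2, 0), (7, 5, 0), (7, 6, 0), (6, 4, 0), (2, 5, 0), (3, 5, 0), (3, 3, 0), (3, 6, 0), (3, 7, 0), (1, 8, 0), (2, 8, 0), (2, 6, 0), (2, 9, 0), (2, 10, 0), (9, 9, 0), (9, 7, 0), (9, 10, 0), (9, 0, 0), (10, 7, 0), (10, 10, 0), (10, 0, 0), (10, 8, 0), (10, 9, 0), (10, 1, 0), (8, 9, 0), (7, 1, 0), (3, 2, 0), (4, 2, 0), (4, 0, 0), (4, 3, 0), (4, 4, 0), (9, 6, 0), (10, 6, 0), (10, 4, 0), (10, 7, 0), (10, 8, 0), (6, 7, 0), (6, 5, 0), (6, 8, 0), (6, 9, 0), (7, 5, 0), (7, 8, 0), (7,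 9, 0), (7, 6, 0), (7, 7, 0), (7, 10, 0), (5, 10, 0), (5, 8, 0), (5, 0, 0), (5, 1, 0), (6, 8, 0), (6, 0, 0), (6, 1, 0), (6, 9, 0), (6, 10, 0), (6, 2, 0), (2, 9, 0), (2, 1, 0), (2, 2, 0), (2, 10, 0), (2, 0, 0), (2, 3, 0), (3, 10, 0), (3, 0, 0), (3, 3, 0), (3, 1, 0), (8, 2, 0), (8, 5, 0), (8, 6, 0), (8, 3, 0), (8, 4, 0), (8, 7, 0), (9, 3, 0), (9, 4, 0), (9, 7, 0), (9, 5, 0), (5, 4, 0), (5, 5, 0), (5, 8, 0), (5, 6, 0), (6, 6, 0), (4, 7, 0), (4, 8, 0), (4, 0, 0), (4, 9, 0), (5, 9, 0), (1, 10, 0), (7, 3, 0), (1, 5, 0), (1, 6, 0), (1, 9, 0), (1, 7, 0), (2, 7, 0), (9, 8, 0), (8, 0, 0), (4, 1, 0), (3, 4, 0), (10, 5, 0), (0, 5, 0), (0, 3, 0), (0, 6, 0), (0, 7, 0)], [(4, 0, 0), (5, 0, 0), (8, 0, 0), (6, 0, 0), (6, 0, 0), (7, 0, 0), (10, 0,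 0), (0, 0, 0), (3, 0, 0), (4, 0, 0), (4, 0, 0), (2, 0, 0), (5, 0, 0), (6, 0, 0), (8, 0, 0), (1, 0, 0), (2, 0, 0), (2, 0, 0), (0, 0, 0), (3, 0, 0), (4, 0, 0), (5, 0, 0), (5, 0, 0), (3, 0, 0), (6, 0, 0), (7, 0, 0), (6, 0, 0), (4, 0, 0), (7, 0, 0), (8, 0, 0), (4, 0, 0), (7, 0, 0), (8, 0, 0), (5, 0, 0), (6, 0, 0), (9, 0, 0), (10, 0, 0), (8, 0, 0), (0, 0, 0), (1, 0, 0), (8, 0, 0), (0, 0, 0), (1, 0, 0), (9, 0, 0), (10, 0, 0), (2, 0, 0), (9, 0, 0), (1, 0, 0), (2, 0, 0), (10, 0, 0), (0, 0, 0), (3, 0, 0), (10, 0, 0), (0, 0, 0), (3, 0, 0), (1, 0, 0), (1, 0, 0), (4, 0, 0), (5, 0, 0), (2, 0, 0), (3, 0, 0), (6, 0, 0), (2, 0, 0), (3, 0, 0), (6, 0, 0), (4, 0, 0), (3, 0, 0), (4, 0, 0), (7, 0, 0), (5, 0, 0), (5, 0, 0), (7, 0, 0), (8, 0, 0), (0,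 0, 0), (9, 0, 0), (9, 0, 0), (10, 0, 0), (2, 0, 0), (10, 0, 0), (2, 0, 0), (3, 0, 0), (0, 0, 0), (1, 0, 0), (4, 0, 0), (0, 0, 0), (1, 0, 0), (4, 0, 0), (2, 0, 0), (1, 0, 0), (2, 0, 0), (5, 0, 0), (3, 0, 0), (3, 0, 0), (4, 0, 0), (5, 0, 0), (8, 0, 0), (6, 0, 0), (6, 0, 0), (7, 0, 0), (5, 0, 0), (6, 0, 0), (9, 0, 0), (7, 0, 0), (7, 0, 0), (8, 0, 0), (8, 0, 0), (9, 0, 0), (1, 0, 0), (10, 0, 0), (10, 0, 0), (9, 0, 0), (10, 0, 0), (2, 0, 0), (0, 0, 0), (9, 0, 0), (10, 0, 0), (2, 0, 0), (7, 0, 0), (8, 0, 0), (10, 0, 0), (1, 0, 0), (3, 0, 0), (4, 0, 0), (9, 0, 0), (1, 0, 0), (2, 0, 0), (0, 0, 0), (9, 0, 0), (1, 0, 0), (2, 0, 0), (1, 0, 0), (1, 0, 0), (10, 0, 0), (2, 0, 0), (3, 0, 0), (3, 0, 0), (4, 0, 0), (4, 0, 0), (2, 0, 0), (5, 0,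 0), (6, 0, 0), (4, 0, 0), (5, 0, 0), (5, 0, 0), (3, 0, 0), (6, 0, 0), (7, 0, 0), (8, 0, 0), (8, 0, 0), (6, 0, 0), (9, 0, 0), (10, 0, 0), (9, 0, 0), (7, 0, 0), (10, 0, 0), (0, 0, 0), (7, 0, 0), (10, 0, 0), (0, 0, 0), (8, 0, 0), (9, 0, 0), (1, 0, 0), (9, 0, 0), (1, 0, 0), (2, 0, 0), (2, 0, 0), (0, 0, 0), (3, 0, 0), (4, 0, 0), (6, 0, 0), (6, 0, 0), (4, 0, 0), (7, 0, 0), (8, 0, 0), (7, 0, 0), (5, 0, 0), (8, 0, 0), (9, 0, 0), (5, 0, 0), (8, 0, 0), (9, 0, 0), (6, 0, 0), (7, 0, 0), (10, 0, 0), (10, 0, 0), (8, 0, 0), (0, 0, 0), (1, 0, 0), (8, 0, 0), (0, 0, 0), (1, 0, 0), (9, 0, 0), (10, 0, 0), (2, 0, 0), (9, 0, 0), (1, 0, 0), (2, 0, 0), (10, 0, 0), (0, 0, 0), (3, 0, 0), (10, 0, 0), (0, 0, 0), (3, 0, 0), (1, 0, 0), (2, 0, 0), (5, 0, 0),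 (6, 0, 0), (3, 0, 0), (4, 0, 0), (7, 0, 0), (3, 0, 0), (4, 0, 0), (7, 0, 0), (5, 0, 0), (4, 0, 0), (5, 0, 0), (8, 0, 0), (6, 0, 0), (6, 0, 0), (7, 0, 0), (8, 0, 0), (0, 0, 0), (9, 0, 0), (9, 0, 0), (10, 0, 0), (3, 0, 0), (5, 0, 0), (6, 0, 0), (9, 0, 0), (7, 0, 0), (7, 0, 0), (8, 0, 0), (0, 0, 0), (1, 0, 0), (4, 0, 0), (5, 0, 0), (5, 0, 0), (3, 0, 0), (6, 0, 0), (7, 0, 0)], []]]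

/-- The data of an element. -/
def solAt (i : ℕ) : SolD := sols.getD i ⟨[], [], []⟩

end CfsgLib.Known.E8L32.D11
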