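import Cfsg.Agent.Lib.Known.E8L32.Ops

/-!
# The elements of the special linear group in the model
-/

set_option autoImplicit false
set_option maxRecDepth 20000

namespace CfsgLib.Known.E8L32

open Matrix

variable {F : Type*} [Field F] [DecidableEq F]

/-- The special linear group of degree two. -/
abbrev SLF (F : Type*) [Field F] := Matrix.SpecialLinearGroup (Fin 2) F

/-- The element with given entries. -/
def mk (a b c d : F) : SLF F :=
  if h : a * d - b * c = 1 then ⟨!![a, b; c, d], by rw [Matrix.det_fin_two_of, h]⟩ else 1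

theorem mk_val {a b c d : F} (h : a * d - b * c = 1) : (mk a b c d).1 = !![a, b; c, d] := by
  exact congrArg Subtype.val (dif_pos h : mk a b c d = _)

theorem mk_mul {a b c d a' b' c' d' : F} (h : a * d - b * c = 1) (h' : a' * d' - b' * c' = 1) :
    mk a b c d * mk a' b' c' d' = mk (a * a' + b * c') (a * b' + b * d') (c * a' + d * c') (c * b' + d * d') :=
  Subtype.ext (by
    rw [Matrix.SpecialLinearGroup.coe_mul, mk_val h, mk_val h', mk_val, Matrix.mul_fin_two]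
    linear_combination (a' * d' - b' * c') * h + h')

theorem mk_one : mk (1 : F) 0 0 1 = 1 := Subtype.ext (by
  rw [mk_val (by ring), Matrix.SpecialLinearGroup.coe_one, Matrix.one_fin_two])

/-- The unipotent elements. -/
def us (x : F) : SLF F := mk 1 x 0 1
/-- The diagonal elements. -/
def ts (a : F) : SLF F := mk a 0 0 a⁻¹
/-- The antidiagonal elements. -/
def ws (a : F) : SLF F := mk 0 a⁻¹ a 0

variable [CharP F 2]

theorem det_ws {a : F} (ha : a ≠ 0) : (0 : F) * 0 - a⁻¹ * a = 1 := by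
  rw [inv_mul_cancel₀ ha, mul_zero, zero_sub, CharTwo.neg_eq]

omit [CharP F 2] in
theorem det_us (x : F) : (1 : F) * 1 - x * 0 = 1 := by ring

omit [CharP F 2] in
theorem det_ts {a : F} (ha : a ≠ 0) : a * a⁻¹ - 0 * 0 = 1 := by
  rw [mul_inv_cancel₀ ha, mul_zero, sub_zero]

omit [CharP F 2] in
theorem us_mul (x y : F) : us x * us y = us (x + y) := by
  rw [us, us, mk_mul (det_us x) (det_us y), us]
  congr 1 <;> ring

omit [CharP F 2] in
theorem us_zero : us (0 : F) = 1 := mk_one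

omit [CharP F 2] in
theorem ts_one : ts (1 : F) = 1 := by rw [ts, inv_one, mk_one]

omit [CharP F 2] in
theorem ts_mul {a b : F} (ha : a ≠ 0) (hb : b ≠ 0) : ts a * ts b = ts (a * b) := by
  rw [ts, ts, mk_mul (det_ts ha) (det_ts hb), ts]
  congr 1 <;> field_simp <;> ring

omit [CharP F 2] in
theorem ts_us {a : F} (ha : a ≠ 0) (y : F) : ts a * us y = us (a * a * y) * ts a := by
  rw [us, ts, mk_mul (det_ts ha) (det_us y), us, mk_mul (det_us _) (det_ts ha)]
  congr 1 <;> field_simp <;> ring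

theorem ws_us_ws {a c x : F} (ha : a ≠ 0) (hc : c ≠ 0) (hx : x ≠ 0) :
    ws a * us x * ws c = us (a * a * x)⁻¹ * ws (a * x * c) * us (c * c * x)⁻¹ := by
  have h2 : (2 : F) = 0 := CharTwo.two_eq_zero
  have hA : a * x * c ≠ 0 := mul_ne_zero (mul_ne_zero ha hx) hc
  rw [ws, ws, ws, us, us, us, mk_mul (det_ws ha) (det_us x),
    mk_mul (by linear_combination det_ws ha) (det_ws hc), mk_mul (det_us _) (det_ws hA),
    mk_mul (by linear_combination det_ws hA) (det_us _)]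
  congr 1
  · field_simp; ring
  · field_simp
    linear_combination (-(a * c)) * h2
  · ring
  · field_simp; ring

theorem ws_ws {a c : F} (ha : a ≠ 0) (hc : c ≠ 0) : ws a * ws c = ts (c * a⁻¹) := by
  rw [ws, ws, mk_mul (det_ws ha) (det_ws hc), ts]
  congr 1 <;> field_simp <;> ring

theorem us_ws {a : F} (ha : a ≠ 0) (x : F) : us x * ws a = mk (x * a) a⁻¹ a 0 := by
  rw [us, ws, mk_mul (det_us x) (det_ws ha)]
  congr 1 <;> ring

variable (g : F)

/-- The element of a matrix of the model. -/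
def el (m : Mat) : SLF F := mk (enc g m.1) (enc g m.2.1) (enc g m.2.2.1) (enc g m.2.2.2)

/-- The entries are digits. -/
def Small (m : Mat) : Prop := m.1 < 32 ∧ m.2.1 < 32 ∧ m.2.2.1 < 32 ∧ m.2.2.2 < 32

theorem okM_spec {m : Mat} (hg : g ^ 5 = g ^ 2 + 1) (h : okM m = true) : Small m ∧
    enc g m.1 * enc g m.2.2.2 - enc g m.2.1 * enc g m.2.2.1 = 1 := by
  simp only [okM, Bool.and_eq_true, decide_eq_true_eq] at h
  obtain ⟨⟨⟨⟨h1, h2⟩, h3⟩, h4⟩, h5⟩ := h
  refine ⟨⟨h1, h2, h3, h4⟩, ?_⟩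
  rw [CharTwo.sub_eq_add, ← enc_mul hg h1 h4, ← enc_mul hg h2 h3, ← enc_xor, Nat.eq_of_beq_eq_true h5, enc_one]

theorem el_mm {m n : Mat} (hg : g ^ 5 = g ^ 2 + 1) (hm : Small m) (hn : Small n)
    (dm : enc g m.1 * enc g m.2.2.2 - enc g m.2.1 * enc g m.2.2.1 = 1)
    (dn : enc g n.1 * enc g n.2.2.2 - enc g n.2.1 * enc g n.2.2.1 = 1) : el g (mm m n) = el g m * el g n := by
  obtain ⟨a, b, c, d⟩ := m
  obtain ⟨a', b', c', d'⟩ := n
  obtain ⟨h1, h2, h3, h4⟩ := hm
  obtain ⟨k1, k2, k3, k4⟩ := hn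
  simp only [el] at *
  rw [mk_mul dm dn]
  simp only [mm, enc_xor, enc_mul hg h1 k1, enc_mul hg h2 k3, enc_mul hg h1 k2, enc_mul hg h2 k4, enc_mul hg h3 k1,
    enc_mul hg h4 k3, enc_mul hg h3 k2, enc_mul hg h4 k4]

theorem el_one : el g oneM = 1 := by
  simp only [el, oneM, enc_one, enc_zero, mk_one]

theorem mm_small {m n : Mat} (hm : Small m) (hn : Small n) : Small (mm m n) := by
  obtain ⟨a, b, c, d⟩ := m
  obtain ⟨a', b', c', d'⟩ := n
  obtain ⟨h1, h2, h3, h4⟩ := hm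
  obtain ⟨k1, k2, k3, k4⟩ := hn
  exact ⟨xor_lt32 _ (mulN_lt _ h1 _ k1) _ (mulN_lt _ h2 _ k3), xor_lt32 _ (mulN_lt _ h1 _ k2) _ (mulN_lt _ h2 _ k4),
    xor_lt32 _ (mulN_lt _ h3 _ k1) _ (mulN_lt _ h4 _ k3), xor_lt32 _ (mulN_lt _ h3 _ k2) _ (mulN_lt _ h4 _ k4)⟩

theorem mm_det {m n : Mat} (hg : g ^ 5 = g ^ 2 + 1) (hm : Small m) (hn : Small n)
    (dm : enc g m.1 * enc g m.2.2.2 - enc g m.2.1 * enc g m.2.2.1 = 1)
    (dn : enc g n.1 * enc g n.2.2.2 - enc g n.2.1 * enc g n.2.2.1 = 1) :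
    enc g (mm m n).1 * enc g (mm m n).2.2.2 - enc g (mm m n).2.1 * enc g (mm m n).2.2.1 = 1 := by
  obtain ⟨a, b, c, d⟩ := m
  obtain ⟨a', b', c', d'⟩ := n
  obtain ⟨h1, h2, h3, h4⟩ := hm
  obtain ⟨k1, k2, k3, k4⟩ := hn
  simp only at *
  simp only [mm, enc_xor, enc_mul hg h1 k1, enc_mul hg h2 k3, enc_mul hg h1 k2, enc_mul hg h2 k4, enc_mul hg h3 k1,
    enc_mul hg h4 k3, enc_mul hg h3 k2, enc_mul hg h4 k4]
  linear_combination (enc g a' * enc g d' - enc g b' * enc g c') * dm + dn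

theorem el_pow {m : Mat} (hg : g ^ 5 = g ^ 2 + 1) (hm : okM m = true) :
    ∀ k, Small (powM m k) ∧ enc g (powM m k).1 * enc g (powM m k).2.2.2 -
      enc g (powM m k).2.1 * enc g (powM m k).2.2.1 = 1 ∧ el g (powM m k) = el g m ^ k
  | 0 => ⟨by simp [Small, powM, oneM], by simp [powM, oneM, enc_one, enc_zero],
      by rw [powM, el_one, pow_zero]⟩
  | k + 1 => by
    obtain ⟨hs, hd, he⟩ := el_pow hg hm k
    obtain ⟨hsm, hdm⟩ := okM_spec g hg hm
    exact ⟨mm_small hsm hs, mm_det g hg hsm hs hdm hd, by rw [powM, el_mm g hg hsm hs hdm hd, he, pow_succ']⟩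

end CfsgLib.Known.E8L32
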