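import Cfsg.Agent.Lib.Known.E8L32.Check11
import Cfsg.Agent.Lib.Known.E8SL2.Setup

/-!
# The trace of the elements of order 11 of the group of type E8 over three elements
-/

set_option autoImplicit false
set_option maxRecDepth 100000
set_option maxHeartbeats 1000000

namespace CfsgLib.Known.E8L32

open Module
open Cfsg.Lie (chevE8)
open CfsgLib.Lie.Chev hiding monP
open CfsgLib.Known.AltE6 (wq keyW rep rep_apply monMatrix monP cartBlock_one)
open CfsgLib.Known.E8SL2
open CfsgLib.Known.ChevFixed (groupMap groupMap_injective)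
open scoped Matrix

namespace D11

instance : Fact (Nat.Prime scanS.M) := ⟨(by norm_num : Nat.Prime 11)⟩
instance : NeZero scanS.M := ⟨by decide⟩

theorem hscale (c : ZMod scanS.M) (hc : IsUnit c) :
    scaleOK scanS.M scanS.no (fun x => scanS.orb (scanS.cls x)) (fun c o => c * o % 11) scanS.ks c.val = true := by
  have h0 : c.val ≠ 0 := fun e => hc.ne_zero ((ZMod.val_eq_zero c).1 e)
  exact List.all_eq_true.1 scale_ok c.val (List.mem_range'_1.2 ⟨by omega, by
    have := ZMod.val_lt c; exact this⟩)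

theorem three_five : (3 : ZMod 11) ^ 5 = 1 := by decide

theorem two_ne : (2 : ZMod 11) ≠ 0 := by decide

theorem three_pow : ∀ r < 5, r ≠ 0 → (3 : ZMod 11) ^ r ≠ 1 := by decide

/-- The key of an element of order eleven. -/
theorem key_eq {F : Type*} [Field F] {G : Type*} [Group G] (R : Rel chevE8 auxE8 F G) [Finite R.WQ]
    (f : Fin 8 → ZMod 11) (hne : f ≠ 0) (π : R.WQ)
    (hπ : ∀ r : Fin chevE8.nroots, fv f (R.qact π r : ℕ) = 3 * fv f (r : ℕ)) :
    keyv 11 (fun x => x) f ∈ keys := by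
  haveI : Fact (Nat.Prime 5) := ⟨by norm_num⟩
  haveI : Fact (Nat.Prime 11) := ⟨by norm_num⟩
  have hiter : ∀ (n : ℕ) (r : Fin chevE8.nroots), fv f (R.qact (π ^ n) r : ℕ) = 3 ^ n * fv f (r : ℕ) := by
    intro n
    induction n with
    | zero => intro r; simp
    | succ n ih => intro r; rw [pow_succ' π, map_mul, Equiv.Perm.mul_apply, hπ, ih]; ring
  obtain ⟨o, ho⟩ : ∃ o, o = orderOf π := ⟨_, rfl⟩
  have h3 : (3 : ZMod 11) ^ o = 1 := by
    obtain ⟨j, hj⟩ := Function.ne_iff.1 hne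
    have e := hiter o (R.sroot j)
    rw [ho, pow_orderOf_eq_one, map_one, Equiv.Perm.one_apply,
      show ((R.sroot j : Fin chevE8.nroots) : ℕ) = chevE8.simple j from rfl, fv_simple, ← ho] at e
    exact mul_right_cancel₀ hj (by rw [one_mul]; exact e.symm)
  have h5 : 5 ∣ o := by
    refine Nat.dvd_of_mod_eq_zero (by_contra fun hc => three_pow (o % 5) (Nat.mod_lt _ (by norm_num)) hc ?_)
    rw [← pow_eq_pow_mod o three_five]
    exact h3
  have ho0 : o ≠ 0 := ho ▸ (orderOf_pos π).ne'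
  obtain ⟨b, hb⟩ : ∃ b, b = o / 5 ^ o.factorization 5 := ⟨_, rfl⟩
  obtain ⟨a, hab⟩ : ∃ a, 5 ^ a * b = o := ⟨_, hb ▸ Nat.ordProj_mul_ordCompl_eq_self o 5⟩
  have hb5 : ¬ 5 ∣ b := hb ▸ Nat.not_dvd_ordCompl (by norm_num) ho0
  obtain ⟨u, hu⟩ : ∃ u, u = π ^ (b ^ 4) := ⟨_, rfl⟩
  have hu5 : u ^ (5 ^ a) = 1 := by
    rw [hu, ← pow_mul, show b ^ 4 * 5 ^ a = o * b ^ 3 by rw [← hab]; ring, pow_mul, ho, pow_orderOf_eq_one, one_pow]
  have hb4 : b ^ 4 % 5 = 1 := by
    rw [Nat.pow_mod]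
    have : b % 5 ≠ 0 := fun e => hb5 (Nat.dvd_of_mod_eq_zero e)
    have hlt := Nat.mod_lt b (show 0 < 5 by norm_num)
    interval_cases b % 5 <;> simp at this ⊢
  have hueig : ∀ r : Fin chevE8.nroots, fv f (R.qact u r : ℕ) = 3 * fv f (r : ℕ) := fun r => by
    rw [hu, hiter, pow_eq_pow_mod (b ^ 4) three_five, hb4, pow_one]
  have hp : IsPGroup 5 (Subgroup.zpowers u) := by
    rintro ⟨z, k, rfl⟩
    refine ⟨a, Subtype.ext ?_⟩
    show (u ^ k) ^ (5 ^ a) = 1
    rw [← zpow_natCast, ← zpow_mul, mul_comm, zpow_mul, zpow_natCast, hu5, one_zpow]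
  obtain ⟨w, hw⟩ := fiveT_ok.conj_into R (p := 5) (N := 27869184)
    (by rw [AltE8.card_WQ_E8]) (by norm_num) hp
  obtain ⟨i, hi⟩ := fiveT_ok.exists_of_mem _ (hw _ (Subgroup.mem_zpowers _))
  obtain ⟨f', hf'⟩ : ∃ f', f' = comp R f w⁻¹ := ⟨_, rfl⟩
  have heig : ∀ r : Fin chevE8.nroots, fv f' (R.qact (wq R (D121.fiveT.wd i)) r : ℕ) = 3 * fv f' (r : ℕ) := fun r => by
    rw [← hi, hf', fv_comp, fv_comp, ← Equiv.Perm.mul_apply, ← map_mul,
      show w⁻¹ * (w * u * w⁻¹) = u * w⁻¹ by group, map_mul, Equiv.Perm.mul_apply, hueig]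
  have hne' : f' ≠ 0 := fun h => hne (funext fun j => by
    obtain ⟨s, hs⟩ : ∃ s, R.qact w⁻¹ s = R.sroot j := (R.qact w⁻¹).surjective _
    have h1 : fv f' (s : ℕ) = 0 := by rw [h]; simp [fv]
    rwa [hf', fv_comp, hs, show ((R.sroot j : Fin chevE8.nroots) : ℕ) = chevE8.simple j from rfl, fv_simple] at h1)
  have hgood : Good f' := hf' ▸ Good.comp R (f := f) ⟨R.qact π, hπ⟩ w⁻¹
  rw [← keyv_comp R 11 (fun x => x) f w⁻¹, ← hf']
  rcases sols_ok i with h | hok
  · refine absurd ?_ hne'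
    have e : wq R (D121.fiveT.wd i) = 1 := (AltE6.wq_eq R h).trans (AltE6.wq_nil R)
    funext j
    have h1 := heig (R.sroot j)
    rw [e, map_one, Equiv.Perm.one_apply, show ((R.sroot j : Fin chevE8.nroots) : ℕ) = chevE8.simple j from rfl,
      fv_simple] at h1
    have h2 : (2 : ZMod 11) * f' j = 0 := by linear_combination -h1
    exact (mul_eq_zero.1 h2).resolve_left two_ne
  · obtain ⟨x, y, z, e⟩ := SolD.eq hok (f := f') fun k => eigA_eq R _ _ heig k
    rw [toF_zv, zero_add] at e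
    have hL : (List.range 240).length < 256 ∧ ∀ r ∈ List.range 240, r < 240 :=
      ⟨by simp, fun r hr => List.mem_range.1 hr⟩
    exact key_of_span scanS scanS_ok (by decide) hL (solAt i) (tr := fun k => (fams.getD (i : ℕ) []).getD k [])
      (fun k hk => List.all_eq_true.1 (List.all_eq_true.1 fams_ok (i : ℕ) (List.mem_range.2 i.2)) k
        (List.mem_range.2 hk)) hscale hgood (fun c => rep_all scanS _) hne' e

end D11

theorem trace_monMatrix_one {K : Type*} [Field K] (a : Fin chevE8.nroots → Kˣ) :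
    (monMatrix (chevRel certE8 K) 1 a).trace = 8 + ∑ r, ((a r : Kˣ) : K) := by
  have hr : chevE8.rank = 8 := rfl
  simp [monMatrix, cartBlock_one, Matrix.trace, Fintype.sum_sum_type, monP, hr]

theorem trace_order_eleven (x : ↥(chevE8.group (ZMod 3))) (hx : x ^ 11 = 1) (hx1 : x ≠ 1) :
    LinearMap.trace (ZMod 3) _ (rep chevE8 (ZMod 3) x) = 0 := by
  classical
  haveI : Fact (Nat.Prime 3) := ⟨Nat.prime_three⟩
  haveI : Fact (Nat.Prime 11) := ⟨by norm_num⟩
  letI : Fintype (GaloisField 3 5) := Fintype.ofFinite _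
  haveI : Finite ↥(chevE8.group (GaloisField 3 5)) := (chevRel certE8 (GaloisField 3 5)).Finite_of_field
  haveI : Finite (chevRel certE8 (GaloisField 3 5)).WQ :=
    Finite.of_injective _ (chevRel certE8 (GaloisField 3 5)).qact_injective
  have hK : Fintype.card (GaloisField 3 5) = 243 := by
    rw [← Nat.card_eq_fintype_card, GaloisField.card 3 5 (by norm_num)]; norm_num
  obtain ⟨τ, hτ⟩ : ∃ τ : GaloisField 3 5 ≃+* GaloisField 3 5, ∀ a, τ a = a ^ 3 :=
    ⟨frobeniusEquiv _ 3, fun a => rfl⟩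
  obtain ⟨ζ, hζ⟩ : ∃ ζ : (GaloisField 3 5)ˣ, orderOf ζ = 11 := exists_orderOf (by
    rw [Nat.card_eq_fintype_card, Fintype.card_units, hK]; norm_num)
  obtain ⟨j, hj⟩ : ∃ j : ZMod 3 →+* GaloisField 3 5, j = ZMod.castHom dvd_rfl _ := ⟨_, rfl⟩
  obtain ⟨y, hy⟩ : ∃ y, y = groupMap chevE8 j x := ⟨_, rfl⟩
  have hy11 : y ^ 11 = 1 := by rw [hy, ← map_pow, hx, map_one]
  have hy1 : y ≠ 1 := fun h => hx1 (groupMap_injective j (by rw [← hy, h, map_one]))
  have hτj : ∀ a : ZMod 3, τ (j a) = j a := fun a => by rw [hτ, ← map_pow, ZMod.pow_card]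
  have hfix : fieldAut chevE8 τ y = y := by
    rw [hy]; exact Subtype.ext (Units.ext (Matrix.ext fun a b => hτj _))
  have hp : IsPGroup 11 (Subgroup.zpowers y) := by
    rintro ⟨z, k, rfl⟩
    refine ⟨1, Subtype.ext ?_⟩
    show (y ^ k) ^ (11 ^ 1) = 1
    rw [pow_one, ← zpow_natCast, ← zpow_mul, mul_comm, zpow_mul, zpow_natCast, hy11, one_zpow]
  obtain ⟨g, hg⟩ := AltTorus.exists_conj_into
    (not_dvd_index_HS (K := GaloisField 3 5) (l := 11) (by rw [hK]; norm_num) (by norm_num) (by norm_num)) hp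
  have hh := hg y (Subgroup.mem_zpowers y)
  obtain ⟨f, hf⟩ := exists_exp hζ hh (by rw [conj_pow, hy11, mul_one, mul_inv_cancel])
  have hne : f ≠ 0 := fun h0 => hy1 (by
    have h := eq_one_of_smul_eq_zero hζ hf (d := 1) (by rw [h0, smul_zero])
    rwa [pow_one, mul_inv_eq_one, mul_eq_left] at h)
  obtain ⟨π, hπ⟩ := exists_wq_of_frob τ hτ hζ hfix hh hf
  have hkey := D11.key_eq (chevRel certE8 (GaloisField 3 5)) f hne π hπ
  simp only [D11.keys, List.mem_singleton] at hkey
  have hcnt : ∀ o < 11, (Finset.univ.filter fun r : Fin chevE8.nroots => (fv f (r : ℕ)).val = o).card =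
      if o = 0 then 20 else 22 := by
    intro o ho
    have e := congrArg (fun l : List ℕ => l.getD o 0) hkey
    simp only [keyv] at e
    rw [List.getD_eq_getElem _ _ (by simpa using ho), List.getElem_map, List.getElem_range] at e
    interval_cases o <;> simp at e ⊢ <;> omega
  refine j.injective ?_
  rw [map_zero, rep_apply certE8, Matrix.trace_toLin'_eq]
  have htr : j ((chevRel certE8 (ZMod 3)).mat x).trace = ((chevRel certE8 (GaloisField 3 5)).mat y).trace := by
    rw [hy, Matrix.trace, Matrix.trace, map_sum]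
    exact Finset.sum_congr rfl fun i _ => rfl
  have hconj : ((chevRel certE8 (GaloisField 3 5)).mat y).trace =
      ((chevRel certE8 (GaloisField 3 5)).mat (g * y * g⁻¹)).trace := by
    rw [(chevRel certE8 _).mat_mul, (chevRel certE8 _).mat_mul, Matrix.trace_mul_cycle, ← (chevRel certE8 _).mat_mul,
      inv_mul_cancel, (chevRel certE8 _).mat_one, one_mul]
  rw [htr, hconj, hf, trace_monMatrix_one]
  have hprim : IsPrimitiveRoot (ζ : GaloisField 3 5) 11 :=
    (hζ ▸ IsPrimitiveRoot.orderOf ζ).map_of_injective (f := Units.coeHom (GaloisField 3 5)) Units.val_injective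
  rw [← Finset.sum_fiberwise_of_maps_to (t := Finset.range 11) (g := fun r : Fin chevE8.nroots => (fv f (r : ℕ)).val)
    fun r _ => Finset.mem_range.2 (ZMod.val_lt _)]
  rw [Finset.sum_congr rfl fun o ho => show (∑ r ∈ Finset.univ.filter fun r : Fin chevE8.nroots =>
      (fv f (r : ℕ)).val = o, ((ζ ^ (fv f (r : ℕ)).val : (GaloisField 3 5)ˣ) : GaloisField 3 5)) =
        22 * (ζ : GaloisField 3 5) ^ o - if o = 0 then 2 else 0 by
    rw [Finset.sum_congr rfl fun (r : Fin chevE8.nroots) hr => show ((ζ ^ (fv f (r : ℕ)).val : (GaloisField 3 5)ˣ) : GaloisField 3 5) =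
      (ζ : GaloisField 3 5) ^ o by rw [(Finset.mem_filter.1 hr).2, Units.val_pow_eq_pow_val], Finset.sum_const,
      hcnt o (Finset.mem_range.1 ho), nsmul_eq_mul]
    split_ifs with h
    · subst h; norm_num
    · simp]
  rw [Finset.sum_sub_distrib, ← Finset.mul_sum, hprim.geom_sum_eq_zero (by norm_num), Finset.sum_ite_eq',
    if_pos (Finset.mem_range.2 (by norm_num))]
  have h3 : (3 : GaloisField 3 5) = 0 := by
    have := CharP.cast_eq_zero (GaloisField 3 5) 3
    simpa using this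
  linear_combination 2 * h3

end CfsgLib.Known.E8L32
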