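import Cfsg.Agent.Lib.Known.E8L32.Rank
import Cfsg.Agent.Lib.Known.E8L32.Trace11

/-!
# The group of type E8 over three elements has no subgroup PSL(2, 32)
-/

set_option autoImplicit false
set_option maxRecDepth 20000

namespace CfsgLib.Known.E8L32

open Cfsg.Lie (chevE8)
open CfsgLib.Lie.Chev (chevRel certE8)
open CfsgLib.Known.AltE6 (rep)

theorem charP_two (F : Type*) [Field F] [Fintype F] (h : Fintype.card F = 32) : CharP F 2 := by
  obtain ⟨p, hp⟩ := CharP.exists F
  obtain ⟨m, hp', hm⟩ := @FiniteField.card F _ _ p hp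
  obtain rfl : p = 2 := (Nat.prime_dvd_prime_iff_eq hp' Nat.prime_two).1
    (hp'.dvd_of_dvd_pow (show p ∣ 2 ^ 5 from (h.trans (by norm_num) : Fintype.card F = 2 ^ 5) ▸ hm ▸ dvd_pow_self p m.pos.ne'))
  exact hp

theorem no_psl_32 {F : Type*} [Field F] [Fintype F] (h : Fintype.card F = 32)
    {H : Subgroup ↥(chevE8.group (ZMod 3))} (e : ↥H ≃* Matrix.ProjectiveSpecialLinearGroup (Fin 2) F) : False := by
  classical
  haveI := charP_two F h
  haveI : Fact (Nat.Prime 3) := ⟨Nat.prime_three⟩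
  obtain ⟨g, hg⟩ := exists_gen F h
  obtain ⟨ψ, hψ⟩ : ∃ ψ : SLF F →* ↥(chevE8.group (ZMod 3)),
      ψ = H.subtype.comp (e.symm.toMonoidHom.comp (QuotientGroup.mk' _)) := ⟨_, rfl⟩
  have hker : ∀ s, ψ s = 1 → s = 1 := by
    intro s hs
    rw [hψ, MonoidHom.comp_apply, MonoidHom.comp_apply] at hs
    have h1 : QuotientGroup.mk' (Subgroup.center (SLF F)) s = 1 := by
      apply e.symm.injective
      rw [map_one]
      exact H.subtype_injective (hs.trans (map_one _).symm)
    obtain ⟨r, hr, hrs⟩ := Matrix.SpecialLinearGroup.mem_center_iff.1 ((QuotientGroup.eq_one_iff s).1 h1)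
    rw [Fintype.card_fin] at hr
    have hr1 : r = 1 := by
      have h2 : (r - 1) ^ 2 = 0 := by rw [sub_pow_char (p := 2) r 1, hr, one_pow, sub_self]
      exact sub_eq_zero.1 (pow_eq_zero_iff two_ne_zero |>.1 h2)
    refine Subtype.ext ?_
    rw [← hrs, hr1, map_one, Matrix.SpecialLinearGroup.coe_one]
  refine no_rep ((rep chevE8 (ZMod 3)).comp ψ) g hg ?_ fun s hs hs1 => ?_
  · rw [Module.finrank_fintype_fun_eq_card]
    show Fintype.card (Fin chevE8.rank ⊕ Fin chevE8.nroots) = 248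
    rw [Fintype.card_sum, Fintype.card_fin, Fintype.card_fin]
    rfl
  · exact trace_order_eleven (ψ s) (by rw [← map_pow, hs, map_one]) fun hh => hs1 (hker s hh)

end CfsgLib.Known.E8L32
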