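import Mathlib

/-!
# The field with thirty-two elements in binary notation
-/

set_option autoImplicit false
set_option maxRecDepth 20000

namespace CfsgLib.Known.E8L32

open Polynomial

/-- The product with the generator. -/
def xt (a : ℕ) : ℕ := if 2 * a < 32 then 2 * a else Nat.xor (2 * a) 37

/-- The product, by shifting. -/
def mulAux : ℕ → ℕ → ℕ → ℕ
  | 0, _, _ => 0
  | f + 1, a, b => Nat.xor (if b % 2 = 1 then a else 0) (mulAux f (xt a) (b / 2))

/-- The product, by a table. -/
def mulN (a b : ℕ) : ℕ := Nat.land (Nat.shiftRight 10804790320877618230182117722110324247614311659395506013029330458997937962479251515344884204855750806294404612440622969529606692591460676258168946100208577849486992125330899329987181609298549197604516901755941091564125036713748707747426776247516584619205259216802546159557607166465616855139081203028281054714227357570768599207195163043960719676316000398369598614255276185713700286144109153885428982506324610699611158552261227059438789379260467764380627842086609520042949883487516427845390931885887392836135045154207535938958535084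6896032637281038213167798410357414190746885591238672396555286314927225104490276004281802275612186310538897012821309466952071474062567291510724844240328231794507178969064997669581675260890171579661861804781287947179868346279216925369372792570769878690061895251633690187934766853249525474952930834331809573725942322942128859614576856896107208964457676110404290123549830361915177833475321143338419370844702955843687682335496728704246540419906221753620676385508341937256156840096544712112163214344887431563846620792143299057294129562689729500658535791013600437345014523103774325441249963724119162034606046898190840942821086017654297642452944418259132037807734164211605724739782819781353435761009390836216362900777584713462606884327330779408941635095127726452318274311602862610838031905185084111375203469849716078223880040803555184033898903431904408499901976387979014468435507345745772488651003084902781458751948967454175797339287002946443741078296424767125593778879332774650111994871979244289813779477452088152162304 (5 * (32 * a + b))) 31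

/-- The inverse, by a table. -/
def invN (a : ℕ) : ℕ := Nat.land (Nat.shiftRight 1262539949331657191584015143012150064589853050912 (5 * a)) 31

/-- The additive character with values signs, by a table. -/
def sgnN (a : ℕ) : ℕ := Nat.land (Nat.shiftRight 1437226410 a) 1 + 1

theorem xt_lt : ∀ a < 32, xt a < 32 := by decide +kernel

theorem mulN_eq : ∀ a < 32, ∀ b < 32, mulN a b = mulAux 5 a b := by decide +kernel

theorem mulN_lt : ∀ a < 32, ∀ b < 32, mulN a b < 32 := by decide +kernel

theorem invN_mul : ∀ a < 32, a ≠ 0 → invN a < 32 ∧ mulN a (invN a) = 1 := by decide +kernel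

theorem sgn_xor : ∀ a < 32, ∀ b < 32, sgnN (Nat.xor a b) % 3 = sgnN a * sgnN b % 3 := by decide +kernel

theorem xor_lt32 : ∀ a < 32, ∀ b < 32, Nat.xor a b < 32 := by decide +kernel

theorem xt_split : ∀ a < 32, xt a = Nat.xor (2 * (a % 16)) (5 * (a / 16)) ∧
    a = Nat.xor (a % 16) (16 * (a / 16)) := by decide +kernel

variable {F : Type*} [Field F]

/-- The element with given binary digits, to a given length. -/
def encA (g : F) : ℕ → ℕ → F
  | 0, _ => 0
  | f + 1, n => ((n % 2 : ℕ) : F) + g * encA g f (n / 2)

/-- The element with given binary digits. -/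
def enc (g : F) (n : ℕ) : F := encA g 5 n

variable [CharP F 2]

theorem encA_xor (g : F) : ∀ f a b, encA g f (Nat.xor a b) = encA g f a + encA g f b
  | 0, _, _ => by simp [encA]
  | f + 1, a, b => by
    have h1 : Nat.xor a b / 2 = Nat.xor (a / 2) (b / 2) := Nat.xor_div_two
    have h2 : ((Nat.xor a b % 2 : ℕ) : F) = ((a % 2 : ℕ) : F) + ((b % 2 : ℕ) : F) := by
      rw [show Nat.xor a b % 2 = (a + b) % 2 from Nat.xor_mod_two_eq, Nat.add_mod]
      rcases Nat.mod_two_eq_zero_or_one a with ea | ea <;> rcases Nat.mod_two_eq_zero_or_one b with eb | eb <;>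
        simp [ea, eb, CharTwo.add_self_eq_zero]
    simp only [encA, h1, encA_xor g f, h2]
    ring

theorem enc_xor (g : F) (a b : ℕ) : enc g (Nat.xor a b) = enc g a + enc g b := encA_xor g 5 a b

theorem enc_zero (g : F) : enc g 0 = 0 := by simp [enc, encA]

theorem enc_one (g : F) : enc g 1 = 1 := by simp [enc, encA]

theorem encA_double (g : F) (f : ℕ) (a : ℕ) : encA g (f + 1) (2 * a) = g * encA g f a := by
  simp [encA]

theorem encA_small (g : F) : ∀ f a, a < 2 ^ f → encA g (f + 1) a = encA g f a
  | 0, a, h => by
    obtain rfl : a = 0 := by simpa using h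
    simp [encA]
  | f + 1, a, h => by
    show ((a % 2 : ℕ) : F) + g * encA g (f + 1) (a / 2) = ((a % 2 : ℕ) : F) + g * encA g f (a / 2)
    rw [encA_small g f (a / 2) (by rw [pow_succ] at h; omega)]

theorem enc_xt {g : F} (hg : g ^ 5 = g ^ 2 + 1) (a : ℕ) (ha : a < 32) : enc g (xt a) = g * enc g a := by
  obtain ⟨h1, h2⟩ := xt_split a ha
  have hb : ∀ b < 16, enc g (2 * b) = g * enc g b := fun b hb => by
    rw [enc, enc, encA_double g 4 b, encA_small g 4 b (by norm_num; exact hb)]
  have h5 : enc g (5 * (a / 16)) = g * enc g (16 * (a / 16)) := by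
    have : a / 16 = 0 ∨ a / 16 = 1 := by omega
    rcases this with e | e <;> rw [e]
    · simp [enc_zero]
    · simp [enc, encA]
      linear_combination -hg
  conv_rhs => rw [h2]
  rw [h1, enc_xor, enc_xor, hb _ (Nat.mod_lt _ (by norm_num)), h5, mul_add]

theorem enc_mulAux {g : F} (hg : g ^ 5 = g ^ 2 + 1) :
    ∀ f a b, a < 32 → b < 2 ^ f → enc g (mulAux f a b) = enc g a * encA g f b
  | 0, a, b, _, _ => by simp [mulAux, encA, enc_zero]
  | f + 1, a, b, ha, hb => by
    have ih := enc_mulAux hg f (xt a) (b / 2) (xt_lt a ha) (by rw [pow_succ] at hb; omega)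
    have : b % 2 = 0 ∨ b % 2 = 1 := by omega
    rcases this with e | e <;> simp only [mulAux, encA, e, enc_xor, ih, enc_xt hg a ha] <;> simp [enc_zero] <;> ring

theorem enc_mul {g : F} (hg : g ^ 5 = g ^ 2 + 1) {a b : ℕ} (ha : a < 32) (hb : b < 32) :
    enc g (mulN a b) = enc g a * enc g b := by
  rw [mulN_eq a ha b hb]
  exact enc_mulAux hg 5 a b ha (by norm_num; exact hb)

theorem enc_ne_zero {g : F} (hg : g ^ 5 = g ^ 2 + 1) {a : ℕ} (ha : a < 32) (h0 : a ≠ 0) : enc g a ≠ 0 := fun e => by
  obtain ⟨h1, h2⟩ := invN_mul a ha h0
  have h := enc_mul hg ha h1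
  rw [h2, enc_one, e, zero_mul] at h
  exact one_ne_zero h

theorem enc_inj {g : F} (hg : g ^ 5 = g ^ 2 + 1) {a b : ℕ} (ha : a < 32) (hb : b < 32) (h : enc g a = enc g b) :
    a = b := by
  by_contra hne
  have hx : Nat.xor a b ≠ 0 := fun e => hne (Nat.xor_eq_zero_iff.1 e)
  refine enc_ne_zero hg (xor_lt32 a ha b hb) hx ?_
  rw [enc_xor, h, CharTwo.add_self_eq_zero]

theorem exists_gen (F : Type*) [Field F] [Fintype F] [CharP F 2] (hF : Fintype.card F = 32) :
    ∃ g : F, g ^ 5 = g ^ 2 + 1 := by
  classical
  obtain ⟨Q, hQ⟩ : ∃ Q : F[X], Q = X ^ 27 + X ^ 24 + X ^ 22 + X ^ 21 + X ^ 18 + X ^ 17 + X ^ 16 + X ^ 15 + X ^ 14 +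
      X ^ 10 + X ^ 9 + X ^ 7 + X ^ 6 + X ^ 5 + X ^ 3 + X := ⟨_, rfl⟩
  have h2 : (2 : F) = 0 := by
    have := CharP.cast_eq_zero F 2
    simpa using this
  by_contra hno
  simp only [not_exists] at hno
  have hroot : ∀ a : F, Q.eval a = 0 := by
    intro a
    have hP : a ^ 5 + a ^ 2 + 1 ≠ 0 := fun e => hno a (by linear_combination e - (a ^ 2 + 1) * h2)
    have ha : a ^ 32 = a := by
      have := FiniteField.pow_card a
      rwa [hF] at this
    have e : (a ^ 5 + a ^ 2 + 1) * Q.eval a = 0 := by
      simp only [hQ, eval_add, eval_pow, eval_X]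
      linear_combination ha + (a ^ 1 + a ^ 3 + a ^ 5 + a ^ 6 + a ^ 7 + a ^ 8 + a ^ 9 + a ^ 10 + a ^ 11 + a ^ 12 + a ^ 14 + a ^ 15 + a ^ 16 +
        a ^ 17 + a ^ 18 + a ^ 19 + a ^ 20 + a ^ 21 + a ^ 22 + a ^ 23 + a ^ 24 + a ^ 26 + a ^ 27 + a ^ 29) * h2
    exact (mul_eq_zero.1 e).resolve_left hP
  have hdeg : Q.natDegree ≤ 27 := by rw [hQ]; compute_degree
  have h0 : Q = 0 := Polynomial.eq_zero_of_natDegree_lt_card_of_eval_eq_zero Q (f := fun a : F => a)
    Function.injective_id hroot (by omega)
  have h27 := congrArg (fun p : F[X] => p.coeff 27) h0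
  simp [hQ, coeff_X] at h27

end CfsgLib.Known.E8L32
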