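import Cfsg.Agent.Lib.Known.E8L32.Data

/-!
# The structure constants and the checks of the certificate
-/

set_option autoImplicit false
set_option maxRecDepth 100000
set_option maxHeartbeats 1000000

namespace CfsgLib.Known.E8L32

/-- A matrix of the model. -/
abbrev Mat := ℕ × ℕ × ℕ × ℕ

/-- The product of matrices. -/
def mm (g h : Mat) : Mat :=
  (Nat.xor (mulN g.1 h.1) (mulN g.2.1 h.2.2.1), Nat.xor (mulN g.1 h.2.1) (mulN g.2.1 h.2.2.2),
    Nat.xor (mulN g.2.2.1 h.1) (mulN g.2.2.2 h.2.2.1), Nat.xor (mulN g.2.2.1 h.2.1) (mulN g.2.2.2 h.2.2.2))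

/-- The unit. -/
def oneM : Mat := (1, 0, 0, 1)
/-- The companion elements. -/
def cM (τ : ℕ) : Mat := (0, 1, 1, τ)

/-- Membership in the group. -/
def okM (g : Mat) : Bool :=
  decide (g.1 < 32) && decide (g.2.1 < 32) && decide (g.2.2.1 < 32) && decide (g.2.2.2 < 32) &&
    Nat.beq (Nat.xor (mulN g.1 g.2.2.2) (mulN g.2.1 g.2.2.1)) 1

/-- The powers. -/
def powM (g : Mat) : ℕ → Mat
  | 0 => oneM
  | n + 1 => mm g (powM g n)

/-- The square root. -/
def sqrtN (a : ℕ) : ℕ := mulN (mulN (mulN (mulN a a) (mulN a a)) (mulN (mulN a a) (mulN a a)))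
  (mulN (mulN (mulN a a) (mulN a a)) (mulN (mulN a a) (mulN a a)))

/-- An element conjugating into the companion element. -/
def conjM (g : Mat) : Mat :=
  let v : ℕ × ℕ := if g.2.2.1 ≠ 0 then (1, 0) else if g.2.1 ≠ 0 then (0, 1) else (1, 1)
  let gv : ℕ × ℕ := (Nat.xor (mulN g.1 v.1) (mulN g.2.1 v.2), Nat.xor (mulN g.2.2.1 v.1) (mulN g.2.2.2 v.2))
  let s := invN (sqrtN (Nat.xor (mulN v.1 gv.2) (mulN gv.1 v.2)))
  (mulN s v.1, mulN s gv.1, mulN s v.2, mulN s gv.2)

/-- The coefficient of a term of a product of two operators. -/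
def absC (a c x : ℕ) : ℕ :=
  if x = 0 then (if a = c then 1 else 0) else sgnN (invN (mulN (mulN a a) x)) * sgnN (invN (mulN (mulN c c) x))

/-- The index of a term of a product of two operators. -/
def absI (a c x : ℕ) : ℕ := if x = 0 then 0 else mulN (mulN a x) c

/-- A digit. -/
def dig (h i : ℕ) : ℕ := h / 65536 ^ i % 65536

/-- A structure constant. -/
def sc (a c i : ℕ) : ℕ := dig ((consT.getD a []).getD c 0) i

/-- The structure constants of a product, packed. -/
def scPack (a c : ℕ) : ℕ := ((List.range 32).map fun x => 2 * sgnN x * absC a c x * 65536 ^ absI a c x).sum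

/-- The product in the algebra, packed. -/
def prodP (p q : List ℕ) : ℕ :=
  ((List.range 32).map fun a => if Nat.beq (p.getD a 0) 0 then 0 else
    p.getD a 0 * ((List.range 32).map fun c => if Nat.beq (q.getD c 0) 0 then 0 else
      q.getD c 0 * (consT.getD a []).getD c 0).sum).sum

/-- A product has given coordinates. -/
def prodIs (p q r : List ℕ) : Bool := (List.range 32).all fun i => Nat.beq (dig (prodP p q) i % 3) (r.getD i 0)

/-- The group element of a term of the trace of an operator. -/
def termM (a x : ℕ) : Mat := if a = 0 then (1, x, 0, 1) else (mulN x a, invN a, a, 0)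

/-- Its trace. -/
def termT (a x : ℕ) : ℕ := if a = 0 then 0 else mulN x a

/-- The coefficient of the trace at a class in the trace of the idempotent. -/
def coefTau (τ : ℕ) : ℕ :=
  ((List.range 32).map fun a => if Nat.beq (eV.getD a 0) 0 then 0 else ((List.range 32).map fun x =>
    if !(Nat.beq a 0 && Nat.beq x 0) && Nat.beq (termT a x) τ then eV.getD a 0 * 2 * sgnN x else 0).sum).sum % 3

theorem consT_ok : ((List.range 32).all fun a => (List.range 32).all fun c =>
    Nat.beq (((List.range 32).map fun i => sc a c i * 65536 ^ i).sum) ((consT.getD a []).getD c 0) &&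
      (List.range 32).all fun i => decide (sc a c i < 3)) = true := by decide +kernel

theorem absI_ok : ((List.range' 1 31).all fun a => (List.range' 1 31).all fun c => (List.range' 1 31).all fun x =>
    decide (mulN (mulN a x) c < 32) && !(Nat.beq (mulN (mulN a x) c) 0)) = true := by decide +kernel

theorem sc_ok : ((List.range' 1 31).all fun a => (List.range' 1 31).all fun c => (List.range 32).all fun i =>
    Nat.beq (dig (scPack a c) i % 3) (sc a c i)) = true := by decide +kernel

theorem sc_zero : ((List.range 32).all fun a => (List.range 32).all fun i =>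
    Nat.beq (sc 0 a i) (if a = i then 1 else 0) && Nat.beq (sc a 0 i) (if a = i then 1 else 0)) = true := by decide +kernel

theorem cert_ok : prodIs eV eV eV = true ∧ prodIs rV dV eV = true ∧ prodIs eV (zV.getD 0 []) (zV.getD 0 []) = true ∧
    prodIs (zV.getD 0 []) eV (zV.getD 0 []) = true ∧ zV.getD 10 [] = eV ∧
    ((List.range 10).all fun j => prodIs (zV.getD j []) (zV.getD 0 []) (zV.getD (j + 1) [])) = true := by
  decide +kernel

theorem vec_ok : ((List.range 32).all fun i => decide (eV.getD i 0 < 3) && decide (rV.getD i 0 < 3) &&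
    decide (dV.getD i 0 < 3) && ((List.range 11).all fun j => decide ((zV.getD j []).getD i 0 < 3)) &&
    Nat.beq (((zV.getD 0 []).getD i 0 + 2 * eV.getD i 0) % 3) (dV.getD i 0)) = true := by decide +kernel

theorem terms_ok : ((List.range 32).all fun a => (List.range 32).all fun x =>
    okM (termM a x) && Nat.beq (Nat.xor (termM a x).1 (termM a x).2.2.2) (termT a x) && decide (termT a x < 32) &&
      ((Nat.beq a 0 && Nat.beq x 0) || (okM (conjM (termM a x)) && okM (cM (termT a x)) &&
        decide (mm (termM a x) (conjM (termM a x)) = mm (conjM (termM a x)) (cM (termT a x)))))) = true := by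
  decide +kernel

theorem coef_ok : ((List.range 32).all fun τ => Nat.beq (coefTau τ) 0 || special.contains τ) = true := by
  decide +kernel

theorem coef_one : eV.getD 0 0 * 2 * sgnN 0 % 3 = 2 := by decide +kernel

theorem special_ok : (special.all fun τ => decide (powM (cM τ) 11 = oneM)) = true := by decide +kernel

theorem distinct_ok : ((List.range' 2 30).all fun d => (List.range 32).any fun y =>
    !(Nat.beq (sgnN (mulN (mulN d d) y)) (sgnN y))) = true := by decide +kernel

end CfsgLib.Known.E8L32
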