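import Cfsg.Agent.Lib.Known.E8L32.TraceSum

/-!
# There is no representation with trace zero at the elements of order eleven
-/

set_option autoImplicit false
set_option maxRecDepth 20000

namespace CfsgLib.Known.E8L32

theorem rank_arith : ∀ r < 9, 3 ^ r % 11 = 1 → r % 3 = 1 → False := by decide

theorem two_eq_neg_one : ((2 : ℕ) : ZMod 3) = -1 := by decide

theorem card_pow_of_perm {W : Type*} [Finite W] [AddCommGroup W] (π : Equiv.Perm W) (h11 : π ^ 11 = 1) (h0 : π 0 = 0)
    (hfix : ∀ w, π w = w → w = 0) : Nat.card W % 11 = 1 := by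
  haveI : Fact (Nat.Prime 11) := ⟨by norm_num⟩
  have hp : IsPGroup 11 (Subgroup.zpowers π) := by
    rintro ⟨z, k, rfl⟩
    refine ⟨1, Subtype.ext ?_⟩
    show (π ^ k) ^ (11 ^ 1) = 1
    rw [pow_one, ← zpow_natCast, ← zpow_mul, mul_comm, zpow_mul, zpow_natCast, h11, one_zpow]
  have h := hp.card_modEq_card_fixedPoints (α := W)
  have e : MulAction.fixedPoints (Subgroup.zpowers π) W = {0} := by
    ext w
    simp only [MulAction.mem_fixedPoints, Set.mem_singleton_iff]
    refine ⟨fun hw => hfix w (hw ⟨π, Subgroup.mem_zpowers π⟩), fun hw m => ?_⟩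
    subst hw
    obtain ⟨m, hm⟩ := m
    show m (0 : W) = 0
    exact (Subgroup.zpowers_le (H := MulAction.stabilizer (Equiv.Perm W) (0 : W))).2 h0 hm
  rw [e, show Nat.card ({0} : Set W) = 1 from Nat.card_unique] at h
  exact h

variable {F : Type*} [Field F] [DecidableEq F] [CharP F 2]
variable {V : Type*} [AddCommGroup V] [Module (ZMod 3) V] [FiniteDimensional (ZMod 3) V]

theorem no_rep (ρ : SLF F →* Module.End (ZMod 3) V) (g : F) (hg : g ^ 5 = g ^ 2 + 1)
    (h248 : Module.finrank (ZMod 3) V = 248)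
    (h11 : ∀ s, s ^ 11 = 1 → s ≠ 1 → LinearMap.trace (ZMod 3) V (ρ s) = 0) : False := by
  haveI : Fact (Nat.Prime 3) := ⟨Nat.prime_three⟩
  haveI : Finite V := Module.finite_of_finite (ZMod 3)
  have hlt : ∀ i < 32, eV.getD i 0 < 3 ∧ rV.getD i 0 < 3 ∧ dV.getD i 0 < 3 ∧
      (∀ j < 11, (zV.getD j []).getD i 0 < 3) ∧ ((zV.getD 0 []).getD i 0 + 2 * eV.getD i 0) % 3 = dV.getD i 0 := by
    intro i hi
    have h := List.all_eq_true.1 vec_ok i (List.mem_range.2 hi)
    simp only [Bool.and_eq_true, decide_eq_true_eq, List.all_eq_true, List.mem_range] at h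
    exact ⟨h.1.1.1.1, h.1.1.1.2, h.1.1.2, h.1.2, Nat.eq_of_beq_eq_true h.2⟩
  obtain ⟨hee, hrd, hez, hze, hz10, hpow⟩ := cert_ok
  have he3 := fun i hi => (hlt i hi).1
  have hz3 : ∀ j < 11, ∀ i < 32, (zV.getD j []).getD i 0 < 3 := fun j hj i hi => (hlt i hi).2.2.2.1 j hj
  obtain ⟨E, hE⟩ : ∃ E, E = Phi ρ g eV := ⟨_, rfl⟩
  obtain ⟨Z, hZ⟩ : ∃ Z, Z = Phi ρ g (zV.getD 0 []) := ⟨_, rfl⟩
  have hEE : E * E = E := by rw [hE, Phi_mul hg he3 he3 hee]
  have hEZ : E * Z = Z := by rw [hE, hZ, Phi_mul hg he3 (hz3 0 (by norm_num)) hez]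
  have hZj : ∀ j < 11, Z ^ (j + 1) = Phi ρ g (zV.getD j []) := by
    intro j hj
    induction j with
    | zero => rw [pow_one, hZ]
    | succ j ih => rw [pow_succ, ih (by omega), hZ, Phi_mul hg (hz3 j (by omega)) (hz3 0 (by norm_num))
        (List.all_eq_true.1 hpow j (List.mem_range.2 (by omega)))]
  have hZ11 : Z ^ 11 = E := by rw [hZj 10 (by norm_num), hz10, hE]
  have hD : Phi ρ g dV = Z - E := by
    rw [hE, hZ, sub_eq_add_neg, ← neg_one_smul (ZMod 3) (Phi ρ g eV)]
    simp only [Phi, Finset.smul_sum, ← Finset.sum_add_distrib, smul_smul, ← add_smul]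
    refine Finset.sum_congr rfl fun i hi => congrArg (· • Bs ρ g i) ?_
    rw [← (hlt i (Finset.mem_range.1 hi)).2.2.2.2, cast_mod3, Nat.cast_add, Nat.cast_mul,
      two_eq_neg_one]
  obtain ⟨W, hW⟩ : ∃ W : Submodule (ZMod 3) V, W = LinearMap.range E := ⟨_, rfl⟩
  have hEW : ∀ w ∈ W, E w = w := by
    intro w hw
    rw [hW] at hw
    obtain ⟨v, rfl⟩ := hw
    rw [← Module.End.mul_apply, hEE]
  -- the trace
  obtain ⟨r, hr⟩ : ∃ r, r = Module.finrank (ZMod 3) W := ⟨_, rfl⟩
  have hr1 : r % 3 = 1 := by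
    have hp : LinearMap.IsProj W E := ⟨fun x => hW ▸ ⟨x, rfl⟩, hEW⟩
    have h := hp.trace
    rw [hE, trace_Phi_eV hg h248 h11, ← hr] at h
    have := congrArg ZMod.val h
    rw [ZMod.val_one, ZMod.val_natCast] at this
    omega
  -- the bound
  have hPB : ∀ b < 32, Pr ρ g * Bs ρ g b = Bs ρ g b := fun b _ => by
    rw [Bs]; split_ifs
    · exact Pr_mul_Pr
    · rw [← mul_assoc, ← mul_assoc, Pr_mul_Pr]
  have hPW : ∀ w ∈ W, Pr ρ g w = w := by
    intro w hw
    conv_rhs => rw [← hEW w hw]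
    conv_lhs => rw [← hEW w hw]
    rw [← Module.End.mul_apply, hE, Phi, Finset.mul_sum]
    refine congrArg (fun T : Module.End (ZMod 3) V => T w) (Finset.sum_congr rfl fun b hb => ?_)
    rw [mul_smul_comm, hPB b (Finset.mem_range.1 hb)]
  have hr8 : r < 9 := by
    obtain ⟨L, hL⟩ : ∃ L : (Fin 31 → W) →ₗ[ZMod 3] V,
        L = ∑ b : Fin 31, (ρ (ts (enc g ((b : ℕ) + 1)))).comp (W.subtype.comp (LinearMap.proj b)) := ⟨_, rfl⟩
    have hinj : Function.Injective L := by
      rw [← LinearMap.ker_eq_bot, LinearMap.ker_eq_bot']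
      intro w hw
      funext c
      have hc : (c : ℕ) + 1 < 32 := by omega
      have ec := enc_ne_zero hg hc (Nat.succ_ne_zero _)
      obtain ⟨hi, hii⟩ := invN_mul _ hc (Nat.succ_ne_zero (c : ℕ))
      have ei : (enc g ((c : ℕ) + 1))⁻¹ = enc g (invN ((c : ℕ) + 1)) :=
        inv_eq_of_mul_eq_one_right (by rw [← enc_mul hg hc hi, hii, enc_one])
      have h := congrArg (fun v => Pr ρ g (ρ (ts (enc g (invN ((c : ℕ) + 1)))) v)) hw
      simp only [hL, LinearMap.sum_apply, map_sum, map_zero, LinearMap.comp_apply, LinearMap.proj_apply,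
        Submodule.subtype_apply] at h
      rw [Finset.sum_eq_single c ?_ (fun hn => absurd (Finset.mem_univ c) hn)] at h
      · rw [← Module.End.mul_apply (ρ _), ← map_mul, ← ei, ts_mul (inv_ne_zero ec) ec, inv_mul_cancel₀ ec, ts_one,
          map_one, Module.End.one_apply, hPW _ (w c).2] at h
        exact Subtype.ext h
      · intro b _ hne
        have hb : (b : ℕ) + 1 < 32 := by omega
        have eb := enc_ne_zero hg hb (Nat.succ_ne_zero _)
        rw [← hPW _ (w b).2, ← Module.End.mul_apply (ρ _), ← Module.End.mul_apply, ← Module.End.mul_apply,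
          ← map_mul, ← ei, ts_mul (inv_ne_zero ec) eb, ei, ← enc_mul hg hi hb]
        have hd := mulN_lt _ hi _ hb
        have h2 : 2 ≤ mulN (invN ((c : ℕ) + 1)) ((b : ℕ) + 1) := by
          by_contra hh
          have e := enc_mul hg hi hb
          rw [← ei] at e
          interval_cases hm : mulN (invN ((c : ℕ) + 1)) ((b : ℕ) + 1)
          · rw [enc_zero] at e
            exact mul_ne_zero (inv_ne_zero ec) eb e.symm
          · rw [enc_one, eq_comm, inv_mul_eq_one₀ ec] at e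
            exact hne (Fin.ext (by have := enc_inj hg hc hb e; omega))
        rw [Pr_ts_Pr hg hd h2, LinearMap.zero_apply]
    have h := LinearMap.finrank_le_finrank_of_injective hinj
    rw [Module.finrank_pi_fintype, Finset.sum_const, Finset.card_univ, Fintype.card_fin, h248, ← hr, smul_eq_mul] at h
    omega
  -- the congruence
  have hZW : ∀ w, Z w ∈ W := fun w => hW ▸ ⟨Z w, by rw [← Module.End.mul_apply, hEZ]⟩
  obtain ⟨Zw, hZw⟩ : ∃ Zw : W → W, ∀ w : W, (Zw w : V) = Z w :=
    ⟨fun w => ⟨Z w, hZW w⟩, fun _ => rfl⟩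
  have hit : ∀ k (w : W), ((Zw^[k]) w : V) = (Z ^ k) w := by
    intro k
    induction k with
    | zero => intro w; simp
    | succ k ih => intro w; rw [Function.iterate_succ_apply', hZw, ih, pow_succ', Module.End.mul_apply]
  have h11' : ∀ w : W, Zw^[11] w = w := fun w => Subtype.ext (by rw [hit, hZ11, hEW _ w.2])
  obtain ⟨π, hπ⟩ : ∃ π : Equiv.Perm W, ∀ w, π w = Zw w :=
    ⟨⟨Zw, Zw^[10], fun w => by rw [← Function.iterate_succ_apply]; exact h11' w,
      fun w => by rw [← Function.iterate_succ_apply' Zw]; exact h11' w⟩, fun _ => rfl⟩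
  have hπk : ∀ k (w : W), (π ^ k) w = Zw^[k] w := by
    intro k
    induction k with
    | zero => intro w; simp
    | succ k ih => intro w; rw [pow_succ', Equiv.Perm.mul_apply, hπ, ih, Function.iterate_succ_apply']
  have hcard := card_pow_of_perm π (Equiv.ext fun w => by rw [hπk, h11', Equiv.Perm.one_apply])
    (Subtype.ext (by rw [hπ, hZw, Submodule.coe_zero, map_zero]))
    (fun w hw => Subtype.ext (by
      have e : (Phi ρ g dV) w = 0 := by
        rw [hD, LinearMap.sub_apply, hEW _ w.2, ← hZw, ← hπ, hw, sub_self]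
      have e2 := congrArg (Phi ρ g rV) e
      rw [map_zero, ← Module.End.mul_apply, Phi_mul hg (fun i hi => (hlt i hi).2.1) (fun i hi => (hlt i hi).2.2.1) hrd,
        ← hE, hEW _ w.2] at e2
      rw [e2, Submodule.coe_zero]))
  rw [Module.natCard_eq_pow_finrank (K := ZMod 3) (V := W), Nat.card_zmod, ← hr] at hcard
  exact rank_arith r hr8 hcard hr1

end CfsgLib.Known.E8L32
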