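import Cfsg.Agent.Lib.Known.E8L32.Alg

/-!
# The trace of the idempotent of the corner algebra
-/

set_option autoImplicit false
set_option maxRecDepth 20000

namespace CfsgLib.Known.E8L32

variable {F : Type*} [Field F] [DecidableEq F] [CharP F 2]
variable {V : Type*} [AddCommGroup V] [Module (ZMod 3) V] [FiniteDimensional (ZMod 3) V]
variable {ρ : SLF F →* Module.End (ZMod 3) V} {g : F}

omit [CharP F 2] in
theorem trace_conj {s t c : SLF F} (h : s * t = t * c) :
    LinearMap.trace (ZMod 3) V (ρ s) = LinearMap.trace (ZMod 3) V (ρ c) := by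
  rw [show s = t * c * t⁻¹ by rw [← h, mul_inv_cancel_right], map_mul, LinearMap.trace_mul_comm, ← map_mul,
    ← mul_assoc, inv_mul_cancel, one_mul]

theorem sum_swap {A B C R : Type*} [CommRing R] (s : Finset A) (t : Finset B) (u : Finset C) (f : A → B → C → R)
    (T : C → R) : ∑ a ∈ s, ∑ x ∈ t, ∑ τ ∈ u, f a x τ * T τ = ∑ τ ∈ u, (∑ a ∈ s, ∑ x ∈ t, f a x τ) * T τ := by
  rw [Finset.sum_congr rfl fun a _ => Finset.sum_comm, Finset.sum_comm]
  simp only [Finset.sum_mul]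

variable (hg : g ^ 5 = g ^ 2 + 1)
include hg

theorem el_cM_pow {τ : ℕ} (hτ : τ ∈ special) : el g (cM τ) ^ 11 = 1 ∧ el g (cM τ) ≠ 1 := by
  have hlt : ∀ τ ∈ special, okM (cM τ) = true := by decide +kernel
  obtain ⟨-, -, he⟩ := el_pow g hg (hlt τ hτ) 11
  have hp : powM (cM τ) 11 = oneM := by simpa using List.all_eq_true.1 special_ok τ hτ
  refine ⟨by rw [← he, hp, el_one], fun h => ?_⟩
  have e := congrArg (fun s : SLF F => s.1 0 0) h
  simp only [el] at e
  rw [mk_val (okM_spec g hg (hlt τ hτ)).2] at e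
  simp [cM, enc_zero] at e

theorem trace_Bs {a : ℕ} (ha : a < 32) :
    LinearMap.trace (ZMod 3) V (Bs ρ g a) =
      ∑ x ∈ Finset.range 32, ((2 * sgnN x : ℕ) : ZMod 3) * LinearMap.trace (ZMod 3) V (ρ (el g (termM a x))) := by
  rw [Bs]
  split_ifs with h0
  · subst h0
    rw [Pr, map_sum]
    refine Finset.sum_congr rfl fun x _ => ?_
    rw [map_smul, smul_eq_mul, U, el, termM, if_pos rfl, enc_one, enc_zero, us]
  · rw [LinearMap.trace_mul_comm, ← mul_assoc, Pr_mul_Pr, Pr, Finset.sum_mul, map_sum]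
    refine Finset.sum_congr rfl fun x hx => ?_
    obtain ⟨hi, hii⟩ := invN_mul a ha h0
    have ei : (enc g a)⁻¹ = enc g (invN a) := inv_eq_of_mul_eq_one_right (by rw [← enc_mul hg ha hi, hii, enc_one])
    rw [smul_mul_assoc, map_smul, smul_eq_mul, U, ← map_mul, us_ws (enc_ne_zero hg ha h0), ei, el, termM, if_neg h0,
      ← enc_mul hg (Finset.mem_range.1 hx) ha, enc_zero]

theorem trace_Phi_eV (h248 : Module.finrank (ZMod 3) V = 248)
    (h11 : ∀ s, s ^ 11 = 1 → s ≠ 1 → LinearMap.trace (ZMod 3) V (ρ s) = 0) :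
    LinearMap.trace (ZMod 3) V (Phi ρ g eV) = 1 := by
  obtain ⟨T, hT⟩ : ∃ T : ℕ → ZMod 3, ∀ τ, T τ = LinearMap.trace (ZMod 3) V (ρ (el g (cM τ))) := ⟨_, fun _ => rfl⟩
  obtain ⟨W, hW⟩ : ∃ W : ℕ → ℕ → ℕ, ∀ a x, W a x = eV.getD a 0 * 2 * sgnN x := ⟨_, fun _ _ => rfl⟩
  have hterm : ∀ a < 32, ∀ x < 32, ((W a x : ℕ) : ZMod 3) * LinearMap.trace (ZMod 3) V (ρ (el g (termM a x))) =
      (if a = 0 ∧ x = 0 then ((W a x : ℕ) : ZMod 3) * 248 else 0) +
        ∑ τ ∈ Finset.range 32, ((if ¬ (a = 0 ∧ x = 0) ∧ termT a x = τ then W a x else 0 : ℕ) : ZMod 3) * T τ := by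
    intro a ha x hx
    have h := List.all_eq_true.1 (List.all_eq_true.1 terms_ok a (List.mem_range.2 ha)) x (List.mem_range.2 hx)
    simp only [Bool.and_eq_true, Bool.or_eq_true, decide_eq_true_eq] at h
    obtain ⟨⟨⟨hok, -⟩, hlt⟩, hc⟩ := h
    by_cases h00 : a = 0 ∧ x = 0
    · obtain ⟨rfl, rfl⟩ := h00
      rw [if_pos ⟨rfl, rfl⟩, Finset.sum_eq_zero (fun τ _ => by simp), add_zero]
      congr 1
      rw [show el g (termM 0 0) = 1 by simp only [el, termM, if_pos, enc_one, enc_zero, mk_one], map_one,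
        LinearMap.trace_one, h248]
      rfl
    · rw [if_neg h00, zero_add, Finset.sum_eq_single (termT a x)
        (fun τ _ hne => by rw [if_neg (fun e => hne e.2.symm), Nat.cast_zero, zero_mul])
        (fun hn => absurd (Finset.mem_range.2 hlt) hn), if_pos ⟨h00, rfl⟩, hT]
      rcases hc with ⟨e1, e2⟩ | ⟨⟨hh, hcc⟩, e⟩
      · exact absurd ⟨Nat.eq_of_beq_eq_true e1, Nat.eq_of_beq_eq_true e2⟩ h00
      obtain ⟨s1, d1⟩ := okM_spec g hg hok
      obtain ⟨s2, d2⟩ := okM_spec g hg hh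
      obtain ⟨s3, d3⟩ := okM_spec g hg hcc
      rw [trace_conj (s := el g (termM a x)) (t := el g (conjM (termM a x))) (c := el g (cM (termT a x)))
        (by rw [← el_mm g hg s1 s2 d1 d2, e, el_mm g hg s2 s3 d2 d3])]
  have hcoef : ∀ τ < 32, ((∑ a ∈ Finset.range 32, ∑ x ∈ Finset.range 32,
      if ¬ (a = 0 ∧ x = 0) ∧ termT a x = τ then W a x else 0 : ℕ) : ZMod 3) = (coefTau τ : ℕ) := by
    intro τ _
    rw [coefTau, cast_mod3, list_sum_range]
    refine congrArg (fun n : ℕ => (n : ZMod 3)) (Finset.sum_congr rfl fun a _ => ?_)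
    rw [beq_zero_ite]
    split_ifs with h0
    · refine Finset.sum_eq_zero fun x _ => ?_
      rw [hW, h0]; simp
    rw [list_sum_range]
    refine Finset.sum_congr rfl fun x _ => ?_
    have hb : ∀ m n : ℕ, Nat.beq m n = decide (m = n) := fun m n => by
      rw [Bool.eq_iff_iff, decide_eq_true_eq]
      exact ⟨Nat.eq_of_beq_eq_true, fun e => e ▸ Nat.beq_refl m⟩
    simp only [hb, hW]
    congr 1
    by_cases e1 : a = 0 <;> by_cases e2 : x = 0 <;> simp [e1, e2]
  rw [Phi, map_sum]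
  rw [Finset.sum_congr rfl fun a ha => show
      LinearMap.trace (ZMod 3) V (((eV.getD a 0 : ℕ) : ZMod 3) • Bs ρ g a) =
      ∑ x ∈ Finset.range 32, ((W a x : ℕ) : ZMod 3) * LinearMap.trace (ZMod 3) V (ρ (el g (termM a x))) by
    rw [map_smul, smul_eq_mul, trace_Bs hg (Finset.mem_range.1 ha), Finset.mul_sum]
    exact Finset.sum_congr rfl fun x _ => by rw [hW, ← mul_assoc, ← Nat.cast_mul, mul_assoc (eV.getD a 0)],
    Finset.sum_congr rfl fun a ha => Finset.sum_congr rfl fun x hx =>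
      hterm a (Finset.mem_range.1 ha) x (Finset.mem_range.1 hx)]
  simp only [Finset.sum_add_distrib]
  rw [sum_swap]
  rw [Finset.sum_eq_single 0 (fun a _ hne => Finset.sum_eq_zero fun x _ => by rw [if_neg fun e => hne e.1])
    (fun h => absurd (Finset.mem_range.2 (by norm_num)) h)]
  rw [Finset.sum_eq_single 0 (fun x _ hne => by rw [if_neg fun e => hne e.2])
    (fun h => absurd (Finset.mem_range.2 (by norm_num)) h), if_pos ⟨rfl, rfl⟩]
  rw [Finset.sum_eq_zero (s := Finset.range 32) fun τ hτ => ?_, add_zero, hW, ← cast_mod3, coef_one]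
  · decide
  · rw [Finset.sum_congr rfl fun a _ => (Nat.cast_sum _ _).symm, ← Nat.cast_sum, hcoef τ (Finset.mem_range.1 hτ)]
    have h := List.all_eq_true.1 coef_ok τ (List.mem_range.2 (Finset.mem_range.1 hτ))
    rw [Bool.or_eq_true] at h
    rcases h with h | h
    · rw [Nat.eq_of_beq_eq_true h, Nat.cast_zero, zero_mul]
    · obtain ⟨h1, h2⟩ := el_cM_pow hg (List.contains_iff_mem.1 h)
      rw [hT, h11 _ h1 h2, mul_zero]

end CfsgLib.Known.E8L32
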